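import Groth.Agent.Comodule.Sub

/-! Coefficient spaces and subcoalgebras. -/

set_option autoImplicit false
universe u v w w'

open TensorProduct WithConv

noncomputable section

namespace Groth.Agent.Comodule

variable {k : Type u} [Field k] {C : Type v} [AddCommGroup C] [Module k C] [Coalgebra k C]
variable {V : Type w} [AddCommGroup V] [Module k V] [HopfRep.Comod k C V]

local notation "𝔇" => WithConv (C →ₗ[k] k)

theorem coact_regular : HopfRep.Comod.coact (k := k) (A := C) (V := C) = Coalgebra.comul := rfl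

/-- The coefficient map of a functional on a comodule. -/
def coefMap (φ : V →ₗ[k] k) : V →ₗ[𝔇] C :=
  toDualHom (lcon φ ∘ₗ HopfRep.Comod.coact (k := k) (A := C)) <| isComodHom_iff.mpr fun g v => by
    have e : ∀ y : (V ⊗[k] C) ⊗[k] C,
        rcon g.ofConv ((lcon φ).rTensor C y) = lcon φ ((rcon g.ofConv).lTensor V (TensorProduct.assoc k V C C y)) := by
      intro y
      induction y with
      | zero => simp
      | add y z hy hz => simp only [map_add, hy, hz]
      | tmul x c =>
        induction x with
        | zero => simp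
        | add a b ha hb => simp only [TensorProduct.add_tmul, map_add, ha, hb]
        | tmul a b => simp [smul_smul, mul_comm]
    have hc := LinearMap.congr_fun (HopfRep.Comod.coassoc (k := k) (A := C) (V := V)) v
    simp only [LinearMap.comp_apply, LinearEquiv.coe_coe] at hc
    have h1 : g • lcon φ (HopfRep.Comod.coact (k := k) (A := C) v) =
        lcon φ ((rcon g.ofConv).lTensor V
          (Coalgebra.comul.lTensor V (HopfRep.Comod.coact (k := k) (A := C) v))) := by
      rw [← LinearMap.lTensor_comp_apply, lcon_lTensor, smul_def]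
      rfl
    have h2 : lcon φ (HopfRep.Comod.coact (k := k) (A := C) (g • v)) =
        rcon g.ofConv ((lcon φ).rTensor C
          ((HopfRep.Comod.coact (k := k) (A := C)).rTensor C (HopfRep.Comod.coact (k := k) (A := C) v))) := by
      rw [← LinearMap.rTensor_comp_apply, rcon_rTensor]
      rfl
    simp only [LinearMap.comp_apply]
    rw [h1, h2, e, hc]

theorem coefMap_apply (φ : V →ₗ[k] k) (v : V) :
    coefMap φ v = lcon φ (HopfRep.Comod.coact (k := k) (A := C) v) := rfl

theorem lcon_counit_comul (c : C) : lcon (Coalgebra.counit (R := k)) (Coalgebra.comul (R := k) c) = c := by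
  simp [lcon, Coalgebra.rTensor_counit_comul]

theorem eq_coefMap (h : V →ₗ[𝔇] C) : h = coefMap ((Coalgebra.counit (R := k) (A := C)) ∘ₗ h.restrictScalars k) := by
  ext v
  have h1 := LinearMap.congr_fun (isComodHom_restrictScalars h) v
  simp only [LinearMap.comp_apply, coact_regular, LinearMap.coe_restrictScalars] at h1
  rw [coefMap_apply, ← lcon_rTensor, ← h1, lcon_counit_comul]

theorem counit_coefMap (φ : V →ₗ[k] k) (v : V) : Coalgebra.counit (R := k) (coefMap (C := C) φ v) = φ v := by
  have h : ∀ y : V ⊗[k] C, Coalgebra.counit (R := k) (lcon φ y) = φ (rcon (Coalgebra.counit (R := k)) y) := by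
    intro y
    induction y with
    | zero => simp
    | add y z hy hz => simp only [map_add, hy, hz]
    | tmul a c => simp [mul_comm]
  rw [coefMap_apply, h]
  congr 1
  have h1 := dact_one (k := k) (C := C) v
  rw [show (1 : 𝔇).ofConv = Coalgebra.counit from LinearMap.ext fun c => by simp [LinearMap.convOne_def]] at h1
  exact h1

theorem eq_zero_of_coefMap {v : V} (h : ∀ φ : V →ₗ[k] k, coefMap (k := k) (C := C) φ v = 0) : v = 0 :=
  (Module.forall_dual_apply_eq_zero_iff k v).mp fun φ => by rw [← counit_coefMap (C := C) φ v, h, map_zero]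

variable (k C V) in
/-- The coefficient space of a comodule. -/
def coef : Submodule 𝔇 C := ⨆ φ : V →ₗ[k] k, LinearMap.range (coefMap φ)

theorem coefMap_mem_coef (φ : V →ₗ[k] k) (v : V) : coefMap φ v ∈ coef k C V :=
  Submodule.mem_iSup_of_mem φ ⟨v, rfl⟩

theorem coef_le_iff {B : Submodule k C} :
    (coef k C V).restrictScalars k ≤ B ↔
      ∀ v : V, HopfRep.Comod.coact (k := k) (A := C) v ∈ LinearMap.range (B.subtype.lTensor V) := by
  constructor
  · intro h v
    exact mem_range_lTensor_iff.mpr fun φ => h (coefMap_mem_coef φ v)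
  · intro h
    rw [coef, Submodule.restrictScalars_iSup, iSup_le_iff]
    rintro φ _ ⟨v, rfl⟩
    exact mem_range_lTensor_iff.mp (h v) φ

theorem isLeast_coef : IsLeast {D' : Submodule k C |
    ∀ e : V, HopfRep.Comod.coact (k := k) (A := C) e ∈ LinearMap.range (LinearMap.lTensor V D'.subtype)}
    ((coef k C V).restrictScalars k) :=
  ⟨coef_le_iff.mp le_rfl, fun _ h => coef_le_iff.mpr h⟩

theorem coef_ne_bot [Nontrivial V] : coef k C V ≠ ⊥ := by
  obtain ⟨v, hv⟩ := exists_ne (0 : V)
  intro h
  refine hv (eq_zero_of_coefMap (k := k) (C := C) fun φ => ?_)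
  have := coefMap_mem_coef (C := C) φ v
  rwa [h, Submodule.mem_bot] at this

theorem finite_coef [Module.Finite k V] : Module.Finite k ((coef k C V).restrictScalars k) := by
  classical
  let b := Module.Free.chooseBasis k V
  choose S hS using fun i => exists_sum_rcon (TensorProduct.comm k V C (HopfRep.Comod.coact (k := k) (A := C) (b i)))
  have hle : (coef k C V).restrictScalars k ≤ Submodule.span k ((Finset.univ.biUnion S : Finset C) : Set C) := by
    rw [coef, Submodule.restrictScalars_iSup, iSup_le_iff]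
    rintro φ _ ⟨v, rfl⟩
    suffices h : LinearMap.range ((coefMap (C := C) φ).restrictScalars k) ≤ _ from h ⟨v, rfl⟩
    rw [LinearMap.range_eq_map, ← b.span_eq, Submodule.map_span_le]
    rintro _ ⟨i, rfl⟩
    have hc : ∀ y : V ⊗[k] C, lcon φ y = rcon φ (TensorProduct.comm k V C y) := by
      intro y
      induction y with
      | zero => simp
      | add y z hy hz => simp only [map_add, hy, hz]
      | tmul a c => simp
    rw [LinearMap.coe_restrictScalars, coefMap_apply, hc]
    exact Submodule.span_mono (Finset.coe_subset.mpr (Finset.subset_biUnion_of_mem S (Finset.mem_univ i))) (hS i φ)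
  exact Submodule.finiteDimensional_of_le hle

/-- A subspace whose comultiplication lands in its tensor square. -/
def IsSubcoalg (B : Submodule k C) : Prop :=
  ∀ b ∈ B, CoalgebraStruct.comul (R := k) b ∈ LinearMap.range (TensorProduct.map B.subtype B.subtype)

theorem isSubcoalg_iff {B : Submodule k C} :
    IsSubcoalg B ↔ HopfRep.IsSubcomod (k := k) (A := C) B ∧ ∀ (φ : C →ₗ[k] k) (b : C), b ∈ B → coefMap φ b ∈ B := by
  constructor
  · intro h
    exact ⟨fun b hb => (mem_range_map_iff.mp (h b hb)).1,
      fun φ b hb => mem_range_lTensor_iff.mp (mem_range_map_iff.mp (h b hb)).2 φ⟩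
  · rintro ⟨h1, h2⟩ b hb
    exact mem_range_map_iff.mpr ⟨h1 b hb, mem_range_lTensor_iff.mpr fun φ => h2 φ b hb⟩

theorem isSubcoalg_restrictScalars_iff {N : Submodule 𝔇 C} :
    IsSubcoalg (N.restrictScalars k) ↔ N.IsFullyInvariant := by
  rw [isSubcoalg_iff]
  constructor
  · rintro ⟨-, h⟩ f b hb
    show f b ∈ N
    rw [eq_coefMap f]
    exact h _ b hb
  · intro h
    exact ⟨isSubcomod_restrictScalars N, fun φ b hb => h (coefMap φ) hb⟩

theorem IsSubcoalg.isSubcomod {B : Submodule k C} (h : IsSubcoalg B) : HopfRep.IsSubcomod (k := k) (A := C) B :=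
  (isSubcoalg_iff.mp h).1

theorem IsSubcoalg.isFullyInvariant {B : Submodule k C} (h : IsSubcoalg B) :
    (toDual B h.isSubcomod).IsFullyInvariant :=
  isSubcoalg_restrictScalars_iff.mp (by rwa [restrictScalars_toDual])

theorem isFullyInvariant_coef : (coef k C V).IsFullyInvariant := by
  intro f
  rw [coef, iSup_le_iff]
  rintro φ _ ⟨v, rfl⟩
  show f (coefMap φ v) ∈ coef k C V
  rw [← LinearMap.comp_apply, eq_coefMap (f.comp (coefMap φ))]
  exact coefMap_mem_coef _ v

theorem isSubcoalg_coef : IsSubcoalg ((coef k C V).restrictScalars k) :=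
  isSubcoalg_restrictScalars_iff.mpr isFullyInvariant_coef

theorem range_le_of_isFullyInvariant {B : Submodule 𝔇 C} (hB : B.IsFullyInvariant) (h0 : V →ₗ[𝔇] C)
    (hinj : Function.Injective h0) (hle : LinearMap.range h0 ≤ B) : coef k C V ≤ B := by
  refine iSup_le fun φ => ?_
  obtain ⟨l, hl⟩ := (h0.restrictScalars k).exists_leftInverse_of_injective (LinearMap.ker_eq_bot.mpr hinj)
  have e : coefMap φ = (coefMap (φ ∘ₗ l)).comp h0 := by
    rw [eq_coefMap ((coefMap (φ ∘ₗ l)).comp h0)]
    congr 1
    ext v
    have := LinearMap.congr_fun hl v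
    simp only [LinearMap.comp_apply, LinearMap.coe_restrictScalars, LinearMap.id_apply] at this
    simp [counit_coefMap, this]
  rw [e]
  rintro _ ⟨v, rfl⟩
  exact hB (coefMap (φ ∘ₗ l)) (hle ⟨v, rfl⟩)

section Simple

variable [IsSimpleModule (WithConv (C →ₗ[k] k)) V]

theorem coefMap_injective_or_eq_zero (φ : V →ₗ[k] k) :
    Function.Injective (coefMap (C := C) φ) ∨ coefMap (C := C) φ = 0 :=
  (coefMap (C := C) φ).injective_or_eq_zero

theorem equiv_of_le_coef {S : Submodule 𝔇 C} [IsSimpleModule 𝔇 S] (hS : S ≤ coef k C V) :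
    Nonempty (S ≃ₗ[𝔇] V) := by
  let s : Set (Submodule 𝔇 C) := {m | ∃ φ : V →ₗ[k] k, Function.Injective (coefMap (C := C) φ) ∧
    m = LinearMap.range (coefMap φ)}
  have hsimple : ∀ m : s, IsSimpleModule 𝔇 m.1 := by
    rintro ⟨m, φ, hφ, rfl⟩
    refine IsSimpleModule.congr (R := 𝔇) (N := V) ?_
    exact (LinearEquiv.ofInjective _ hφ).symm
  have hle : coef k C V ≤ sSup s := iSup_le fun φ => by
    rcases coefMap_injective_or_eq_zero (C := C) φ with h | h
    · exact le_sSup ⟨φ, h, rfl⟩
    · simp [h]
  obtain ⟨m, ⟨φ, hφ, rfl⟩, ⟨e⟩⟩ := S.linearEquiv_of_le_sSup s (hS.trans hle)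
  exact ⟨e.trans (LinearEquiv.ofInjective _ hφ).symm⟩

theorem coef_le_of_isFullyInvariant {B : Submodule 𝔇 C} (hB : B.IsFullyInvariant) (h0 : B ≠ ⊥)
    (hle : B ≤ coef k C V) : coef k C V ≤ B := by
  obtain ⟨S, hS, hSs⟩ := exists_simple_le h0
  obtain ⟨e⟩ := equiv_of_le_coef (k := k) (V := V) (hS.trans hle)
  refine range_le_of_isFullyInvariant hB (S.subtype.comp e.symm.toLinearMap)
    (S.injective_subtype.comp e.symm.injective) ?_
  rintro _ ⟨v, rfl⟩
  exact hS (e.symm v).2

/-- The coefficient space of a simple comodule is a simple subcoalgebra. -/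
theorem coef_simple : (coef k C V).restrictScalars k ≠ ⊥ ∧ IsSubcoalg ((coef k C V).restrictScalars k) ∧
    ∀ B : Submodule k C, B ≤ (coef k C V).restrictScalars k → IsSubcoalg B →
      B = ⊥ ∨ B = (coef k C V).restrictScalars k := by
  haveI := IsSimpleModule.nontrivial 𝔇 V
  refine ⟨by simpa using coef_ne_bot (k := k) (C := C) (V := V), isSubcoalg_coef, fun B hle hB => ?_⟩
  refine or_iff_not_imp_left.mpr fun h0 => le_antisymm hle ?_
  exact coef_le_of_isFullyInvariant hB.isFullyInvariant
    (fun h => h0 (by rw [← restrictScalars_toDual hB.isSubcomod, h, Submodule.restrictScalars_bot])) hle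

theorem isSemisimple_coef : IsSemisimpleModule 𝔇 (coef k C V) := by
  rw [coef, ← iSup_univ]
  exact isSemisimpleModule_biSup_of_isSemisimpleModule_submodule fun φ _ => IsSemisimpleModule.range _

end Simple

end Groth.Agent.Comodule
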