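import Groth.Agent.Comodule.Coalg

/-! Comodule structures on subcomodules. -/

set_option autoImplicit false
universe u v w w'

open TensorProduct WithConv

noncomputable section

namespace Groth.Agent.Comodule

variable {k : Type u} [Field k] {C : Type v} [AddCommGroup C] [Module k C] [Coalgebra k C]
variable {V : Type w} [AddCommGroup V] [Module k V] [HopfRep.Comod k C V]
variable (W : Submodule k V) (hW : HopfRep.IsSubcomod (k := k) (A := C) W)

/-- The restricted coaction. -/
def subCoact : W →ₗ[k] W ⊗[k] C :=
  (LinearEquiv.ofInjective (W.subtype.rTensor C)
      (Module.Flat.rTensor_preserves_injective_linearMap _ W.injective_subtype)).symm.toLinearMap ∘ₗ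
    LinearMap.codRestrict (LinearMap.range (W.subtype.rTensor C))
      (HopfRep.Comod.coact (k := k) (A := C) ∘ₗ W.subtype) (fun x => hW x.1 x.2)

theorem rTensor_subCoact (x : W) :
    W.subtype.rTensor C (subCoact W hW x) = HopfRep.Comod.coact (k := k) (A := C) (x : V) := by
  simp only [subCoact, LinearMap.comp_apply, LinearEquiv.coe_coe]
  exact congrArg Subtype.val ((LinearEquiv.ofInjective (W.subtype.rTensor C)
    (Module.Flat.rTensor_preserves_injective_linearMap _ W.injective_subtype)).apply_symm_apply _)

/-- The comodule structure on a subcomodule. -/
@[reducible] def subComod : HopfRep.Comod k C W where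
  coact := subCoact W hW
  coassoc := by
    refine LinearMap.ext fun x => Module.Flat.rTensor_preserves_injective_linearMap (M := C ⊗[k] C)
      _ W.injective_subtype ?_
    simp only [LinearMap.comp_apply, LinearEquiv.coe_coe]
    have hc := LinearMap.congr_fun (HopfRep.Comod.coassoc (k := k) (A := C) (V := V)) (x : V)
    simp only [LinearMap.comp_apply, LinearEquiv.coe_coe] at hc
    have e1 : ∀ y : (W ⊗[k] C) ⊗[k] C, W.subtype.rTensor (C ⊗[k] C) (TensorProduct.assoc k W C C y) =
        TensorProduct.assoc k V C C ((W.subtype.rTensor C).rTensor C y) := by
      intro y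
      induction y with
      | zero => simp
      | add y z hy hz => simp only [map_add, hy, hz]
      | tmul a c =>
        induction a with
        | zero => simp
        | add a b ha hb => simp only [TensorProduct.add_tmul, map_add, ha, hb]
        | tmul a b => simp
    have e2 : ∀ y : W ⊗[k] C, W.subtype.rTensor (C ⊗[k] C) (Coalgebra.comul.lTensor W y) =
        Coalgebra.comul.lTensor V (W.subtype.rTensor C y) := by
      intro y
      induction y with
      | zero => simp
      | add y z hy hz => simp only [map_add, hy, hz]
      | tmul a c => simp
    rw [e1, e2, rTensor_subCoact, ← LinearMap.rTensor_comp_apply, ← hc]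
    congr 1
    rw [show W.subtype.rTensor C ∘ₗ subCoact W hW = HopfRep.Comod.coact (k := k) (A := C) ∘ₗ W.subtype from
      LinearMap.ext (rTensor_subCoact W hW), LinearMap.rTensor_comp_apply, rTensor_subCoact]
  counit_comp := by
    refine LinearMap.ext fun x => Module.Flat.rTensor_preserves_injective_linearMap (M := k)
      _ W.injective_subtype ?_
    have e2 : ∀ y : W ⊗[k] C, W.subtype.rTensor k (Coalgebra.counit.lTensor W y) =
        Coalgebra.counit.lTensor V (W.subtype.rTensor C y) := by
      intro y
      induction y with
      | zero => simp
      | add y z hy hz => simp only [map_add, hy, hz]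
      | tmul a c => simp
    have hc := LinearMap.congr_fun (HopfRep.Comod.counit_comp (k := k) (A := C) (V := V)) (x : V)
    simp only [LinearMap.comp_apply] at hc ⊢
    rw [e2, rTensor_subCoact, hc]
    simp

theorem isComodHom_subtype : letI := subComod W hW; Hoch.IsComodHom C W.subtype := by
  letI := subComod W hW
  exact LinearMap.ext fun x => (rTensor_subCoact W hW x).symm

/-- The two module structures on a subcomodule agree. -/
def subEquiv : letI := subComod W hW; W ≃ₗ[WithConv (C →ₗ[k] k)] toDual W hW :=
  letI := subComod W hW
  { toFun := fun x => ⟨x.1, x.2⟩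
    invFun := fun x => ⟨x.1, x.2⟩
    map_add' := fun _ _ => rfl
    map_smul' := fun f x => Subtype.ext (isComodHom_iff.mp (isComodHom_subtype W hW) f x)
    left_inv := fun _ => rfl
    right_inv := fun _ => rfl }

end Groth.Agent.Comodule
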