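import Groth.Prelude.Def_ComodTens
import Groth.Agent.Comodule.Coalg
import Groth.Agent.Comodule.SubStruct

/-! Chevalley: a subgroup is the stabiliser of a line; stabilisers of tensor products of lines. -/

set_option autoImplicit false
universe u v w w'

open TensorProduct WithConv

noncomputable section

namespace Groth.Agent.Comodule

section Points

variable {k : Type u} [Field k] {A : Type v} [CommRing A] [HopfAlgebra k A]
variable {V : Type w} [AddCommGroup V] [Module k V] {U : Type w'} [AddCommGroup U] [Module k U]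
variable {R : Type u} [CommRing R] [Algebra k R]

/-- The action of a point on a vector. -/
def ptAct (c : HopfRep.Comod k A V) (g : A →ₐ[k] R) (v : V) : V ⊗[k] R := g.toLinearMap.lTensor V (c.coact v)

/-- The point stabilises the line of the vector. -/
def StabLine (c : HopfRep.Comod k A V) (g : A →ₐ[k] R) (v : V) : Prop := ∃ r : R, ptAct c g v = v ⊗ₜ[k] r

/-- Multiply coefficients of two vectors. -/
def mulTens : (V ⊗[k] R) ⊗[k] (U ⊗[k] R) →ₗ[k] (V ⊗[k] U) ⊗[k] R :=
  TensorProduct.map LinearMap.id (LinearMap.mul' k R) ∘ₗ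
    (TensorProduct.AlgebraTensorModule.tensorTensorTensorComm k k k k V R U R).toLinearMap

theorem ptAct_tensor (c : HopfRep.Comod k A V) (d : HopfRep.Comod k A U) (g : A →ₐ[k] R) (x : V) (y : U) :
    ptAct (ComodTens.Comod.tensor c d) g (x ⊗ₜ[k] y) = mulTens (ptAct c g x ⊗ₜ[k] ptAct d g y) := by
  rw [ptAct, ComodTens.tensor_coact_tmul, ptAct, ptAct]
  generalize c.coact x = p
  generalize d.coact y = q
  induction p with
  | zero => simp
  | add p p' hp hp' => simp only [TensorProduct.add_tmul, map_add, hp, hp']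
  | tmul p a =>
    induction q with
    | zero => simp
    | add q q' hq hq' => simp only [TensorProduct.tmul_add, map_add, hq, hq']
    | tmul q b => simp [mulTens]

theorem stabLine_tensor (c : HopfRep.Comod k A V) (d : HopfRep.Comod k A U) (g : A →ₐ[k] R) {x : V} {y : U}
    (hy : y ≠ 0) (h : StabLine (ComodTens.Comod.tensor c d) g (x ⊗ₜ[k] y)) : StabLine c g x := by
  obtain ⟨r, hr⟩ := h
  obtain ⟨φ₀, hφ₀⟩ : ∃ φ : U →ₗ[k] k, φ y ≠ 0 := by
    by_contra hc
    exact hy ((Module.forall_dual_apply_eq_zero_iff k y).mp fun φ => not_not.mp fun h' => hc ⟨φ, h'⟩)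
  set φ : U →ₗ[k] k := (φ₀ y)⁻¹ • φ₀ with hφdef
  have hφ : φ y = 1 := inv_mul_cancel₀ hφ₀
  letI := d
  let ψ : U →ₗ[k] R := g.toLinearMap ∘ₗ HopfAlgebra.antipode k ∘ₗ (coefMap (C := A) φ).restrictScalars k
  have h1 : LinearMap.mul' k R (ψ.rTensor R (ptAct d g y)) = 1 := by
    have hc := LinearMap.congr_fun (isComodHom_restrictScalars (coefMap (k := k) (C := A) (V := U) φ)) y
    simp only [LinearMap.comp_apply, LinearMap.coe_restrictScalars, coact_regular] at hc
    have key : ∀ q : U ⊗[k] A, LinearMap.mul' k R (ψ.rTensor R (g.toLinearMap.lTensor U q)) =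
        g (LinearMap.mul' k A ((HopfAlgebra.antipode k).rTensor A
          (((coefMap (C := A) φ).restrictScalars k).rTensor A q))) := by
      intro q
      induction q with
      | zero => simp
      | add p p' hp hp' => simp only [map_add, hp, hp']
      | tmul p a => simp [ψ]
    rw [ptAct, key, ← hc, HopfAlgebra.mul_antipode_rTensor_comul_apply, AlgHom.commutes, counit_coefMap, hφ,
      map_one]
  let L : (V ⊗[k] U) ⊗[k] R →ₗ[k] V ⊗[k] R :=
    (LinearMap.mul' k R ∘ₗ ψ.rTensor R).lTensor V ∘ₗ (TensorProduct.assoc k V U R).toLinearMap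
  have h2 : ∀ (p : V ⊗[k] R) (q : U ⊗[k] R), L (mulTens (p ⊗ₜ[k] q)) =
      (LinearMap.mulRight k (LinearMap.mul' k R (ψ.rTensor R q))).lTensor V p := by
    intro p q
    induction p with
    | zero => simp
    | add p p' hp hp' => simp only [TensorProduct.add_tmul, map_add, hp, hp']
    | tmul p a =>
      induction q with
      | zero => simp
      | add q q' hq hq' =>
        simp only [TensorProduct.tmul_add, map_add, hq, hq', LinearMap.lTensor_tmul, LinearMap.mulRight_apply, mul_add]
      | tmul q b => simp [L, mulTens, mul_comm, mul_left_comm]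
  refine ⟨ψ y * r, ?_⟩
  have h3 := congrArg L hr
  rw [ptAct_tensor, h2, h1, LinearMap.mulRight_one, LinearMap.lTensor_id_apply] at h3
  rw [h3]
  simp [L]

theorem stabLine_tensor_comm (c : HopfRep.Comod k A V) (d : HopfRep.Comod k A U) (g : A →ₐ[k] R) {x : V} {y : U}
    (h : StabLine (ComodTens.Comod.tensor c d) g (x ⊗ₜ[k] y)) : StabLine (ComodTens.Comod.tensor d c) g (y ⊗ₜ[k] x) := by
  obtain ⟨r, hr⟩ := h
  refine ⟨r, ?_⟩
  rw [ptAct_tensor] at hr ⊢
  have h2 : ∀ (p : V ⊗[k] R) (q : U ⊗[k] R), (TensorProduct.comm k V U).toLinearMap.rTensor R (mulTens (p ⊗ₜ[k] q)) =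
      mulTens (q ⊗ₜ[k] p) := by
    intro p q
    induction p with
    | zero => simp
    | add p p' hp hp' => simp only [TensorProduct.add_tmul, TensorProduct.tmul_add, map_add, hp, hp']
    | tmul p a =>
      induction q with
      | zero => simp
      | add q q' hq hq' => simp only [TensorProduct.add_tmul, TensorProduct.tmul_add, map_add, hq, hq']
      | tmul q b => simp [mulTens, mul_comm]
  rw [← h2, hr]
  simp

theorem tmul_ne_zero' {x : V} {y : U} (hx : x ≠ 0) (hy : y ≠ 0) : x ⊗ₜ[k] y ≠ 0 := by
  obtain ⟨φ, hφ⟩ : ∃ φ : V →ₗ[k] k, φ x ≠ 0 := by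
    by_contra hc
    exact hx ((Module.forall_dual_apply_eq_zero_iff k x).mp fun φ => not_not.mp fun h' => hc ⟨φ, h'⟩)
  intro h
  have h1 := congrArg ((TensorProduct.lid k U).toLinearMap ∘ₗ φ.rTensor U) h
  simp at h1
  tauto

variable {B : Type u} [CommRing B] [HopfAlgebra k B]

theorem coact_tensor_character (c : HopfRep.Comod k A V) (d : HopfRep.Comod k A U) (p : A →ₐ[k] B)
    {x : V} {y : U} {χ ψ : B} (hx : ptAct c p x = x ⊗ₜ[k] χ) (hy : ptAct d p y = y ⊗ₜ[k] ψ) :
    ptAct (ComodTens.Comod.tensor c d) p (x ⊗ₜ[k] y) = (x ⊗ₜ[k] y) ⊗ₜ[k] (χ * ψ) := by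
  rw [ptAct_tensor, hx, hy]
  simp [mulTens]

end Points

section Chevalley

variable {k : Type u} [Field k] {A B : Type u} [CommRing A] [HopfAlgebra k A] [IsNoetherianRing A]
variable [CommRing B] [HopfAlgebra k B]

/-- The apply-a-point map `a ↦ (id ⊗ g) (Δ a)`. -/
def rightTr {R : Type u} [CommRing R] [Algebra k R] (g : A →ₐ[k] R) : A →ₐ[k] A ⊗[k] R :=
  (Algebra.TensorProduct.map (AlgHom.id k A) g).comp (Bialgebra.comulAlgHom k A)

theorem rightTr_eq {R : Type u} [CommRing R] [Algebra k R] (g : A →ₐ[k] R) (a : A) :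
    rightTr g a = g.toLinearMap.lTensor A (Coalgebra.comul (R := k) a) := rfl

theorem exists_line_stabilizer (π : A →ₐc[k] B) :
    ∃ (V : Type u) (_ : AddCommGroup V) (_ : Module k V) (c : HopfRep.Comod k A V) (_ : Module.Finite k V) (v : V)
      (χ : B), v ≠ 0 ∧ IsGroupLikeElem k χ ∧ ptAct c (π : A →ₐ[k] B) v = v ⊗ₜ[k] χ ∧
      ∀ (R : Type u) [CommRing R] [Algebra k R] (g : A →ₐ[k] R), StabLine c g v →
        ∀ a ∈ RingHom.ker (π : A →+* B), g a = 0 := by
  classical
  set I : Ideal A := RingHom.ker (π : A →+* B) with hI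
  have hεI : ∀ a ∈ I, Coalgebra.counit (R := k) a = 0 := fun a ha => by
    rw [← CoalgHomClass.counit_comp_apply π a, show π a = 0 from ha, map_zero]
  obtain ⟨s, hs⟩ := IsNoetherian.noetherian I
  -- a finite subcomodule containing generators of the ideal, with an adapted basis
  let V₀ : Submodule k A := (Submodule.span (WithConv (A →ₗ[k] k)) (s : Set A)).restrictScalars k
  haveI : Module.Finite k V₀ := finite_span_of_finite s.finite_toSet
  have hV₀ : HopfRep.IsSubcomod (k := k) (A := A) V₀ := isSubcomod_restrictScalars _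
  let W : Submodule k V₀ := (I.restrictScalars k).comap V₀.subtype
  obtain ⟨W', hW'⟩ := W.exists_isCompl
  haveI : Module.Free k W := Module.Free.of_divisionRing k W
  haveI : Module.Free k W' := Module.Free.of_divisionRing k W'
  set d := Module.finrank k W with hd
  set d' := Module.finrank k W' with hd'
  let b : Module.Basis (Fin d ⊕ Fin d') k V₀ :=
    ((Module.finBasis k W).prod (Module.finBasis k W')).map (Submodule.prodEquivOfIsCompl W W' hW')
  have hbl : ∀ t, (b (Sum.inl t) : A) ∈ I := fun t => by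
    have : b (Sum.inl t) = (Module.finBasis k W t : V₀) := by
      simp [b, Submodule.coe_prodEquivOfIsCompl']
    rw [this]
    exact (Module.finBasis k W t).2
  have hI' : ∀ x : V₀, (x : A) ∈ I → ∀ l, b.coord (Sum.inr l) x = 0 := by
    intro x hx l
    have hx' : x ∈ W := hx
    have : (Submodule.prodEquivOfIsCompl W W' hW').symm x = (⟨x, hx'⟩, 0) := by
      rw [LinearEquiv.symm_apply_eq]
      simp [Submodule.coe_prodEquivOfIsCompl']
    simp [b, Module.Basis.coord_apply, this]
  choose φ hφ using fun i => LinearMap.exists_extend (b.coord i)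
  have hφb : ∀ i j, φ i (b j : A) = if j = i then 1 else 0 := fun i j => by
    have h4 := LinearMap.congr_fun (hφ i) (b j)
    simp only [LinearMap.comp_apply, Submodule.subtype_apply] at h4
    rw [h4, b.coord_apply, b.repr_self, Finsupp.single_apply]
  let C : (Fin d ⊕ Fin d') → (Fin d ⊕ Fin d') → A := fun j l => lcon (φ l) (Coalgebra.comul (R := k) (b j : A))
  have hΔb : ∀ j, Coalgebra.comul (R := k) (b j : A) = ∑ l, (b l : A) ⊗ₜ[k] C j l := by
    intro j
    obtain ⟨z, hz⟩ := hV₀ (b j : A) (b j).2
    have hrep : ∀ z : V₀ ⊗[k] A, z = ∑ l, b l ⊗ₜ[k] lcon (b.coord l) z := by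
      intro z
      induction z with
      | zero => simp
      | add p q hp hq =>
        simp only [map_add, TensorProduct.tmul_add, Finset.sum_add_distrib]
        rw [← hp, ← hq]
      | tmul p a =>
        conv_lhs => rw [← b.sum_repr p, TensorProduct.sum_tmul]
        simp [TensorProduct.smul_tmul]
    change HopfRep.Comod.coact (k := k) (A := A) (b j : A) = _
    rw [← hz]
    conv_lhs => rw [hrep z]
    rw [map_sum]
    refine Finset.sum_congr rfl fun l _ => ?_
    rw [LinearMap.rTensor_tmul]
    congr 1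
    change _ = lcon (φ l) (HopfRep.Comod.coact (k := k) (A := A) (b j : A))
    rw [← hz, lcon_rTensor, hφ]
  have hΔC : ∀ j l, Coalgebra.comul (R := k) (C j l) = ∑ m, C m l ⊗ₜ[k] C j m := by
    intro j l
    have h3 := LinearMap.congr_fun (isComodHom_restrictScalars (coefMap (C := A) (φ l))) (b j : A)
    simp only [LinearMap.comp_apply, LinearMap.coe_restrictScalars, coact_regular, hΔb, map_sum,
      LinearMap.rTensor_tmul] at h3
    exact h3
  have hεC : ∀ j l, Coalgebra.counit (R := k) (C j l) = if j = l then 1 else 0 := fun j l => by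
    rw [show C j l = coefMap (C := A) (φ l) (b j : A) from rfl, counit_coefMap, hφb]
  -- the subgroup stabilises the part inside the ideal
  have hπC : ∀ t l, π (C (Sum.inl t) (Sum.inr l)) = 0 := by
    intro t l
    have h0 : TensorProduct.map (π.toLinearMap : A →ₗ[k] B) (π.toLinearMap : A →ₗ[k] B)
        (Coalgebra.comul (R := k) (b (Sum.inl t) : A)) = 0 := by
      rw [show TensorProduct.map (π.toLinearMap : A →ₗ[k] B) (π.toLinearMap : A →ₗ[k] B)
        (Coalgebra.comul (R := k) (b (Sum.inl t) : A)) = Coalgebra.comul (R := k) (π (b (Sum.inl t) : A)) from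
          CoalgHomClass.map_comp_comul_apply π _, show π (b (Sum.inl t) : A) = 0 from hbl t, map_zero]
    -- the images of the complementary basis are independent modulo the ideal
    have hli : LinearIndependent k fun m : Fin d' => π (b (Sum.inr m) : A) := by
      refine Fintype.linearIndependent_iff.mpr fun g hg m => ?_
      have hmem : ((∑ i, g i • b (Sum.inr i) : V₀) : A) ∈ I := by
        show π ((∑ i, g i • b (Sum.inr i) : V₀) : A) = 0
        rw [Submodule.coe_sum, map_sum, ← hg]
        exact Finset.sum_congr rfl fun i _ => by rw [SetLike.val_smul, map_smul]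
      have h1 := hI' _ hmem m
      simp only [map_sum, map_smul, Module.Basis.coord_apply, Module.Basis.repr_self, smul_eq_mul] at h1
      simpa [Finsupp.single_apply] using h1
    rw [hΔb, map_sum, Fintype.sum_sum_type] at h0
    have h0' : ∑ m : Fin d', π (b (Sum.inr m) : A) ⊗ₜ[k] π (C (Sum.inl t) (Sum.inr m)) = 0 := by
      refine Eq.trans ?_ h0
      conv_rhs => rw [Finset.sum_eq_zero fun m _ => show _ = (0 : B ⊗[k] B) by
        rw [TensorProduct.map_tmul]
        change π (b (Sum.inl m) : A) ⊗ₜ[k] π _ = 0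
        rw [show π (b (Sum.inl m) : A) = 0 from hbl m, TensorProduct.zero_tmul], zero_add]
      rfl
    obtain ⟨θ, hθ⟩ := LinearMap.exists_leftInverse_of_injective (Fintype.linearCombination k fun m : Fin d' => π (b (Sum.inr m) : A))
      (LinearMap.ker_eq_bot'.mpr fun g hg => funext (Fintype.linearIndependent_iff.mp hli g
        (by simpa [Fintype.linearCombination_apply] using hg)))
    have hθm : ∀ m, θ (π (b (Sum.inr m) : A)) = Pi.single m 1 := fun m => by
      have := LinearMap.congr_fun hθ (Pi.single m 1)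
      simpa [Fintype.linearCombination_apply, Pi.single_apply] using this
    have h2 := congrArg ((TensorProduct.lid k B).toLinearMap ∘ₗ (LinearMap.proj l ∘ₗ θ).rTensor B) h0'
    simpa [map_sum, hθm, Pi.single_apply] using h2
  -- minors
  let Mat : (Fin d → Fin d ⊕ Fin d') → Matrix (Fin d) (Fin d) A := fun σ =>
    Matrix.of fun t q => C (Sum.inl t) (σ q)
  let minor : (Fin d → Fin d ⊕ Fin d') → A := fun σ => (Mat σ).det
  have hεMat : ∀ σ, Coalgebra.counit (R := k) (minor σ) =
      (Matrix.of fun t q => (if Sum.inl t = σ q then (1 : k) else 0) : Matrix (Fin d) (Fin d) k).det := by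
    intro σ
    show Bialgebra.counitAlgHom k A (minor σ) = _
    rw [AlgHom.map_det]
    congr 1
    ext t q
    exact hεC _ _
  have hε1 : Coalgebra.counit (R := k) (minor Sum.inl) = 1 := by
    rw [hεMat]
    have : (Matrix.of fun t q => (if (Sum.inl t : Fin d ⊕ Fin d') = Sum.inl q then (1 : k) else 0) :
        Matrix (Fin d) (Fin d) k) = 1 := by
      ext t q
      simp [Matrix.one_apply]
    rw [this, Matrix.det_one]
  have htr : ∀ {R : Type u} [CommRing R] [Algebra k R] (g : A →ₐ[k] R) j l,
      rightTr g (C j l) = ∑ m, C m l ⊗ₜ[k] g (C j m) := by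
    intro R _ _ g j l
    rw [rightTr_eq, hΔC, map_sum]
    rfl
  let G : Matrix (Fin d) (Fin d) B := Matrix.of fun t m => π (C (Sum.inl t) (Sum.inl m))
  have hχ : ∀ σ, rightTr (π : A →ₐ[k] B) (minor σ) = minor σ ⊗ₜ[k] G.det := by
    intro σ
    let ι₂ : B →ₐ[k] A ⊗[k] B := Algebra.TensorProduct.includeRight
    let ι₁ : A →ₐ[k] A ⊗[k] B := Algebra.TensorProduct.includeLeft
    have hm : (rightTr (π : A →ₐ[k] B)).mapMatrix (Mat σ) = ι₂.mapMatrix G * ι₁.mapMatrix (Mat σ) := by
      ext t q
      rw [AlgHom.mapMatrix_apply, Matrix.map_apply, Matrix.mul_apply]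
      simp only [Mat, Matrix.of_apply, htr, Fintype.sum_sum_type, G, AlgHom.mapMatrix_apply, Matrix.map_apply]
      have : ∀ m : Fin d', C (Sum.inr m) (σ q) ⊗ₜ[k] (π : A →ₐ[k] B) (C (Sum.inl t) (Sum.inr m)) = 0 := fun m => by
        rw [show (π : A →ₐ[k] B) (C (Sum.inl t) (Sum.inr m)) = 0 from hπC t m, TensorProduct.tmul_zero]
      rw [Finset.sum_congr rfl fun m _ => this m, Finset.sum_const_zero, add_zero]
      refine Finset.sum_congr rfl fun m _ => ?_
      simp [ι₁, ι₂, Algebra.TensorProduct.tmul_mul_tmul]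
    rw [AlgHom.map_det, hm, Matrix.det_mul, ← AlgHom.map_det, ← AlgHom.map_det]
    simp [ι₁, ι₂, minor, Algebra.TensorProduct.tmul_mul_tmul]
  have hGL : IsGroupLikeElem k G.det := by
    refine IsGroupLikeElem.mk ?_ ?_
    · show Bialgebra.counitAlgHom k B G.det = 1
      rw [AlgHom.map_det]
      have : (Bialgebra.counitAlgHom k B).mapMatrix G = 1 := by
        ext t m
        show Coalgebra.counit (R := k) (π (C (Sum.inl t) (Sum.inl m))) = _
        rw [CoalgHomClass.counit_comp_apply π, hεC]
        simp [Matrix.one_apply]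
      rw [this, Matrix.det_one]
    · show Bialgebra.comulAlgHom k B G.det = _
      rw [AlgHom.map_det]
      let ι₂ : B →ₐ[k] B ⊗[k] B := Algebra.TensorProduct.includeRight
      let ι₁ : B →ₐ[k] B ⊗[k] B := Algebra.TensorProduct.includeLeft
      have hm : (Bialgebra.comulAlgHom k B).mapMatrix G = ι₂.mapMatrix G * ι₁.mapMatrix G := by
        ext t m
        show Coalgebra.comul (R := k) (π (C (Sum.inl t) (Sum.inl m))) = _
        rw [← CoalgHomClass.map_comp_comul_apply π, hΔC, map_sum, Matrix.mul_apply, Fintype.sum_sum_type]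
        have : ∀ l : Fin d', TensorProduct.map (π : A →ₗ[k] B) (π : A →ₗ[k] B)
            (C (Sum.inr l) (Sum.inl m) ⊗ₜ[k] C (Sum.inl t) (Sum.inr l)) = 0 := fun l => by
          rw [TensorProduct.map_tmul]
          change π _ ⊗ₜ[k] π (C (Sum.inl t) (Sum.inr l)) = 0
          rw [hπC, TensorProduct.tmul_zero]
        rw [Finset.sum_congr rfl fun l _ => this l, Finset.sum_const_zero, add_zero]
        refine Finset.sum_congr rfl fun l _ => ?_
        simp [ι₁, ι₂, G, Algebra.TensorProduct.tmul_mul_tmul]
      rw [hm, Matrix.det_mul, ← AlgHom.map_det, ← AlgHom.map_det]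
      simp [ι₁, ι₂, Algebra.TensorProduct.tmul_mul_tmul]
  -- the representation
  let S : Set A := Set.range minor
  let P : Submodule k A := (Submodule.span (WithConv (A →ₗ[k] k)) S).restrictScalars k
  haveI : Module.Finite k P := finite_span_of_finite (Set.finite_range minor)
  have hP : HopfRep.IsSubcomod (k := k) (A := A) P := isSubcomod_restrictScalars _
  let ι := Fin d → Fin d ⊕ Fin d'
  let cV : HopfRep.Comod k A (ι → P) := ComodTens.Comod.pi fun _ => subComod P hP
  let v : ι → P := fun σ => ⟨minor σ, Submodule.subset_span ⟨σ, rfl⟩⟩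
  have hproj : ∀ {R : Type u} [CommRing R] [Algebra k R] (g : A →ₐ[k] R) σ,
      (P.subtype ∘ₗ (LinearMap.proj σ : (ι → P) →ₗ[k] P)).rTensor R (ptAct cV g v) = rightTr g (minor σ) := by
    intro R _ _ g σ
    rw [ptAct, rightTr_eq, ← ComodTens.lTensor_rTensor_comm]
    congr 1
    rw [ComodTens.pi_coact, map_sum, Finset.sum_eq_single σ]
    · rw [← LinearMap.rTensor_comp_apply, LinearMap.comp_assoc, LinearMap.proj_comp_single_same, LinearMap.comp_id]
      exact rTensor_subCoact P hP (v σ)
    · intro j _ hj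
      rw [← LinearMap.rTensor_comp_apply, LinearMap.comp_assoc, LinearMap.proj_comp_single_ne _ _ _ _ hj.symm,
        LinearMap.comp_zero, LinearMap.rTensor_zero, LinearMap.zero_apply]
    · simp
  refine ⟨ι → P, inferInstance, inferInstance, cV, inferInstance, v, G.det, ?_, hGL, ?_, ?_⟩
  · intro hv
    have h1 : minor Sum.inl = 0 := congrArg Subtype.val (congrFun hv Sum.inl)
    rw [h1, map_zero] at hε1
    exact zero_ne_one hε1
  · refine ext_rcon fun f => funext fun σ => Subtype.ext ?_
    have h1 := congrArg (rcon f) (hproj (π : A →ₐ[k] B) σ)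
    rw [rcon_rTensor, hχ] at h1
    refine h1.trans ?_
    simp [rcon, v]
  · intro R _ _ g hg a ha
    obtain ⟨r, hr⟩ := hg
    have hmin : ∀ σ, (Matrix.of fun t q => g (C (Sum.inl t) (σ q)) : Matrix (Fin d) (Fin d) R).det =
        Coalgebra.counit (R := k) (minor σ) • r := by
      intro σ
      have h1 := hproj g σ
      rw [hr, LinearMap.rTensor_tmul] at h1
      have h2 := congrArg ((TensorProduct.lid k R).toLinearMap ∘ₗ (Coalgebra.counit (R := k) (A := A)).rTensor R) h1
      have h3 : ∀ z : A, (TensorProduct.lid k R) ((Coalgebra.counit (R := k) (A := A)).rTensor R (rightTr g z)) = g z := by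
        intro z
        rw [rightTr_eq, ← ComodTens.lTensor_rTensor_comm, Coalgebra.rTensor_counit_comul]
        simp
      simp only [LinearMap.comp_apply, LinearEquiv.coe_coe, h3] at h2
      rw [LinearMap.rTensor_tmul, TensorProduct.lid_tmul] at h2
      rw [show (Coalgebra.counit (R := k) (minor σ)) • r = g (minor σ) from h2, AlgHom.map_det]
      rfl
    let M : Matrix (Fin d) (Fin d) R := Matrix.of fun t q => g (C (Sum.inl t) (Sum.inl q))
    have hM : M.det = r := by
      have := hmin Sum.inl
      rwa [hε1, one_smul] at this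
    have hMu : IsUnit M.det := by
      -- the inverse point gives the inverse scalar
      let ψ : (ι → P) →ₗ[k] R := g.toLinearMap ∘ₗ HopfAlgebra.antipode k ∘ₗ (P.subtype ∘ₗ (LinearMap.proj (Sum.inl : ι) : (ι → P) →ₗ[k] P))
      have h1 : LinearMap.mul' k R (ψ.rTensor R (ptAct cV g v)) = 1 := by
        have h4 : ∀ z : (ι → P) ⊗[k] R, LinearMap.mul' k R (ψ.rTensor R z) =
            LinearMap.mul' k R ((g.toLinearMap ∘ₗ HopfAlgebra.antipode k).rTensor R
              ((P.subtype ∘ₗ (LinearMap.proj (Sum.inl : ι) : (ι → P) →ₗ[k] P)).rTensor R z)) := fun z => by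
          rw [← LinearMap.rTensor_comp_apply]
          rfl
        rw [h4, hproj, rightTr_eq]
        have h5 : ∀ y : A ⊗[k] A, LinearMap.mul' k R ((g.toLinearMap ∘ₗ HopfAlgebra.antipode k).rTensor R
            (g.toLinearMap.lTensor A y)) = g (LinearMap.mul' k A ((HopfAlgebra.antipode k).rTensor A y)) := by
          intro y
          induction y with
          | zero => simp
          | add p q hp hq => simp only [map_add, hp, hq]
          | tmul p q => simp
        rw [h5, HopfAlgebra.mul_antipode_rTensor_comul_apply, hε1, map_one, map_one]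
      rw [hr, LinearMap.rTensor_tmul, LinearMap.mul'_apply] at h1
      rw [hM]
      exact isUnit_iff_exists_inv'.mpr ⟨_, h1⟩
    have hvan : ∀ (t : Fin d) (l : Fin d'), g (C (Sum.inl t) (Sum.inr l)) = 0 := by
      intro t₀ l
      let x : Fin d → R := fun t => g (C (Sum.inl t) (Sum.inr l))
      have hcr : ∀ q, M.cramer x q = 0 := by
        intro q
        rw [Matrix.cramer_apply]
        have h1 := hmin (Function.update Sum.inl q (Sum.inr l))
        have h2 : Coalgebra.counit (R := k) (minor (Function.update Sum.inl q (Sum.inr l))) = 0 := by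
          rw [hεMat]
          exact Matrix.det_eq_zero_of_column_eq_zero q fun t => by simp
        rw [h2, zero_smul] at h1
        rw [← h1]
        congr 1
        ext t j
        by_cases hj : j = q
        · subst hj; simp [M, x]
        · simp [M, x, Function.update_of_ne hj, Matrix.updateCol_ne hj]
      have h6 : M.det • x = 0 := by
        have := Matrix.mulVec_cramer M x
        rw [show M.cramer x = 0 from funext hcr, Matrix.mulVec_zero] at this
        exact this.symm
      exact (hMu.mul_right_eq_zero).mp (congrFun h6 t₀)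
    have hkill : ∀ t, g (b (Sum.inl t) : A) = 0 := by
      intro t
      have h7 := Coalgebra.rTensor_counit_comul (R := k) (b (Sum.inl t) : A)
      rw [hΔb] at h7
      have h8 := congrArg (fun z => g (TensorProduct.lid k A z)) h7
      simp only [map_sum, map_add, LinearMap.rTensor_tmul, TensorProduct.lid_tmul, map_smul, Fintype.sum_sum_type, hvan,
        smul_zero, Finset.sum_const_zero, add_zero, one_smul] at h8
      rw [← h8]
      exact Finset.sum_eq_zero fun m _ => by rw [hεI _ (hbl m), zero_smul]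
    have hle : I ≤ RingHom.ker g := by
      rw [← hs, Ideal.span_le]
      intro y hy
      have hyI : y ∈ I := hs ▸ Ideal.subset_span hy
      show g y = 0
      have hy' : (⟨y, Submodule.subset_span hy⟩ : V₀) = ∑ i, b.repr ⟨y, Submodule.subset_span hy⟩ i • b i :=
        (b.sum_repr _).symm
      have hy'' := congrArg (fun z : V₀ => g (z : A)) hy'
      simp only [Fintype.sum_sum_type, Submodule.coe_add, Submodule.coe_sum, SetLike.val_smul, map_add, map_sum,
        map_smul, hkill, smul_zero, Finset.sum_const_zero, zero_add] at hy''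
      rw [hy'']
      refine Finset.sum_eq_zero fun l _ => ?_
      rw [← b.coord_apply, hI' _ hyI l, zero_smul]
    exact hle ha

theorem exists_line_trivial_character (π : A →ₐc[k] B)
    (hocc : ∀ χ : B, IsGroupLikeElem k χ →
      (∃ (V : Type u) (_ : AddCommGroup V) (_ : Module k V) (c : HopfRep.Comod k A V) (_ : Module.Finite k V) (v : V),
          v ≠ 0 ∧ ptAct c (π : A →ₐ[k] B) v = v ⊗ₜ[k] χ) →
      ∃ m : ℕ, 0 < m ∧ ∃ ψ : B, IsGroupLikeElem k ψ ∧ ψ * χ ^ m = 1 ∧
        ∃ (V : Type u) (_ : AddCommGroup V) (_ : Module k V) (c : HopfRep.Comod k A V) (_ : Module.Finite k V) (v : V),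
          v ≠ 0 ∧ ptAct c (π : A →ₐ[k] B) v = v ⊗ₜ[k] ψ) :
    ∃ (V : Type u) (_ : AddCommGroup V) (_ : Module k V) (c : HopfRep.Comod k A V) (_ : Module.Finite k V) (v : V),
      v ≠ 0 ∧ ptAct c (π : A →ₐ[k] B) v = v ⊗ₜ[k] (1 : B) ∧
      ∀ (R : Type u) [CommRing R] [Algebra k R] (g : A →ₐ[k] R), StabLine c g v →
        ∀ a ∈ RingHom.ker (π : A →+* B), g a = 0 := by
  obtain ⟨V, _, _, c, _, v, χ, hv, hχ, hv', hstab⟩ := exists_line_stabilizer π
  obtain ⟨m, hm, ψ, -, hψχ, U, _, _, d, _, u, hu, hu'⟩ := hocc χ hχ ⟨V, _, _, c, inferInstance, v, hv, hv'⟩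
  -- tensor powers of the line
  have hpow : ∀ j : ℕ, ∃ (T : Type u) (_ : AddCommGroup T) (_ : Module k T) (e : HopfRep.Comod k A T)
      (_ : Module.Finite k T) (t : T), t ≠ 0 ∧ ptAct e (π : A →ₐ[k] B) t = t ⊗ₜ[k] (χ ^ (j + 1)) ∧
      ∀ (R : Type u) [CommRing R] [Algebra k R] (g : A →ₐ[k] R), StabLine e g t → StabLine c g v := by
    intro j
    induction j with
    | zero => exact ⟨V, _, _, c, inferInstance, v, hv, by rw [pow_one]; exact hv', fun R _ _ g h => h⟩
    | succ j ih =>
      obtain ⟨T, _, _, e, _, t, ht, ht', hts⟩ := ih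
      refine ⟨T ⊗[k] V, inferInstance, inferInstance, ComodTens.Comod.tensor e c, inferInstance, t ⊗ₜ[k] v,
        tmul_ne_zero' ht hv, ?_, fun R _ _ g h => hts R g (stabLine_tensor e c g hv h)⟩
      rw [coact_tensor_character e c _ ht' hv', ← pow_succ]
  obtain ⟨T, _, _, e, _, t, ht, ht', hts⟩ := hpow (m - 1)
  refine ⟨T ⊗[k] U, inferInstance, inferInstance, ComodTens.Comod.tensor e d, inferInstance, t ⊗ₜ[k] u,
    tmul_ne_zero' ht hu, ?_, fun R _ _ g h => hstab R g (hts R g (stabLine_tensor e d g hu h))⟩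
  rw [coact_tensor_character e d _ ht' hu', show m - 1 + 1 = m by omega, mul_comm, hψχ]

end Chevalley

end Groth.Agent.Comodule
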