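import Mathlib

/-! The antipode of a commutative Hopf algebra. -/

set_option autoImplicit false
universe u v

open TensorProduct WithConv

noncomputable section

namespace Groth.Agent.Comodule

variable (k : Type u) [CommRing k] (A : Type v) [CommRing A] [HopfAlgebra k A]

local notation "S" => HopfAlgebra.antipodeAlgHom k A
local notation "ι₁" => (Algebra.TensorProduct.includeLeft : A →ₐ[k] A ⊗[k] A)
local notation "ι₂" => (Algebra.TensorProduct.includeRight : A →ₐ[k] A ⊗[k] A)

theorem lmul'_comp_map_incl (f g : A →ₐ[k] A ⊗[k] A) (a : A) :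
    (toConv f * toConv g).ofConv a =
      Algebra.TensorProduct.lmul' k (Algebra.TensorProduct.map f g (Coalgebra.comul (R := k) a)) := rfl

theorem comulAlgHom_eq_mul : (toConv (Bialgebra.comulAlgHom k A)) = toConv ι₁ * toConv ι₂ := by
  refine WithConv.ext (AlgHom.ext fun a => ?_)
  rw [lmul'_comp_map_incl]
  show Coalgebra.comul (R := k) a = _
  generalize Coalgebra.comul (R := k) a = x
  induction x with
  | zero => simp
  | tmul a b => simp
  | add x y hx hy => simp only [map_add, ← hx, ← hy]

/-- The comultiplication anticommutes with the antipode. -/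
theorem comul_antipode (a : A) :
    Coalgebra.comul (R := k) (HopfAlgebra.antipode k a) =
      TensorProduct.map (HopfAlgebra.antipode k) (HopfAlgebra.antipode k)
        (TensorProduct.comm k A A (Coalgebra.comul (R := k) a)) := by
  have h1 : (toConv ((Bialgebra.comulAlgHom k A).comp S)) =
      (toConv (Bialgebra.comulAlgHom k A))⁻¹ := rfl
  rw [comulAlgHom_eq_mul] at h1
  replace h1 := h1.trans (mul_inv_rev (toConv ι₁) (toConv ι₂))
  have h := congrArg (fun f => f.ofConv a) h1
  simp only [ofConv_toConv, AlgHom.comp_apply, Bialgebra.comulAlgHom_apply] at h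
  refine h.trans ?_
  change (toConv ((ι₂).comp S) * toConv ((ι₁).comp S)).ofConv a = _
  rw [lmul'_comp_map_incl]
  generalize Coalgebra.comul (R := k) a = x
  induction x with
  | zero => simp
  | tmul a b => simp
  | add x y hx hy => simp only [map_add, hx, hy]

/-- The antipode of a commutative Hopf algebra is an involution. -/
theorem antipode_antipode (a : A) : HopfAlgebra.antipode k (HopfAlgebra.antipode k a) = a := by
  have h1 : (toConv (AlgHom.id k A))⁻¹ = toConv S := rfl
  have h2 : (toConv S)⁻¹ = toConv ((S).comp S) := rfl
  have h3 : toConv ((S).comp S) = toConv (AlgHom.id k A) := by rw [← h2, ← h1, inv_inv]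
  exact congrArg (fun f => f.ofConv a) h3

end Groth.Agent.Comodule
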