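import Groth.Agent.Comodule.Basic
import Groth.Agent.Comodule.Antipode

/-! Invariant functionals on a commutative Hopf algebra and Maschke averaging. -/

set_option autoImplicit false
universe u v w w'

open TensorProduct WithConv

noncomputable section

namespace Groth.Agent.Comodule

variable {k : Type u} [CommRing k] {A : Type v} [CommRing A] [HopfAlgebra k A]

/-- A normalised invariant functional. -/
structure IsIntegral' (l : A →ₗ[k] k) : Prop where
  invariant : ∀ a : A, lcon l (Coalgebra.comul (R := k) a) = l a • (1 : A)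
  map_one : l 1 = 1

theorem lcon_eq_iff (l : A →ₗ[k] k) (a : A) :
    lcon l (Coalgebra.comul (R := k) a) = l a • (1 : A) ↔
      LinearMap.rTensor A l (Coalgebra.comul (R := k) a) = l a ⊗ₜ[k] (1 : A) := by
  constructor
  · intro h
    refine (TensorProduct.lid k A).injective ?_
    rw [TensorProduct.lid_tmul]
    exact h
  · intro h
    simp [lcon, h]

theorem isIntegral'_iff (l : A →ₗ[k] k) :
    IsIntegral' l ↔
      (@Hoch.IsComodHom k _ A _ _ _ A _ _ _ k _ _ (HopfRep.Comod.trivial k A k) l ∧ l 1 = 1) := by
  constructor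
  · rintro ⟨h, h1⟩
    exact ⟨LinearMap.ext fun a => ((lcon_eq_iff l a).mp (h a)).symm, h1⟩
  · rintro ⟨h, h1⟩
    exact ⟨fun a => (lcon_eq_iff l a).mpr (LinearMap.congr_fun h a).symm, h1⟩

local notation "S" => HopfAlgebra.antipodeAlgHom k A
local notation "ι₁" => (Algebra.TensorProduct.includeLeft : A →ₐ[k] A ⊗[k] A)
local notation "ι₂" => (Algebra.TensorProduct.includeRight : A →ₐ[k] A ⊗[k] A)
local notation "Δ" => Bialgebra.comulAlgHom k A

theorem lift_comp_eq_mul (f g : A →ₐ[k] A ⊗[k] A) :
    toConv ((Algebra.TensorProduct.lift f g fun _ _ => Commute.all _ _).comp Δ) = toConv f * toConv g := by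
  refine WithConv.ext (AlgHom.ext fun a => ?_)
  rw [lmul'_comp_map_incl]
  simp only [ofConv_toConv, AlgHom.comp_apply, Bialgebra.comulAlgHom_apply]
  generalize Coalgebra.comul (R := k) a = x
  induction x with
  | zero => simp
  | tmul a b => simp
  | add x y hx hy => simp only [map_add, hx, hy]

variable (k A) in
/-- `a ↦ a₁ ⊗ S a₂`. -/
def galoisAux : A →ₐ[k] A ⊗[k] A := (toConv ι₁ * toConv ((ι₂).comp S)).ofConv

variable (k A) in
/-- The inverse of the Galois map: `a ⊗ b ↦ a₁ ⊗ S a₂ b`. -/
def galoisInv : A ⊗[k] A →ₐ[k] A ⊗[k] A :=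
  Algebra.TensorProduct.lift (galoisAux k A) ι₂ fun _ _ => Commute.all _ _

variable (k A) in
/-- The Galois map `c ⊗ x ↦ c₁ ⊗ c₂ x`. -/
def galois : A ⊗[k] A →ₐ[k] A ⊗[k] A :=
  Algebra.TensorProduct.lift Δ ι₂ fun _ _ => Commute.all _ _

theorem galoisInv_comul (c : A) : galoisInv k A (Coalgebra.comul (R := k) c) = c ⊗ₜ[k] (1 : A) := by
  have h := congrArg (fun f => f.ofConv c) (lift_comp_eq_mul (galoisAux k A) ι₂)
  simp only [ofConv_toConv, AlgHom.comp_apply, Bialgebra.comulAlgHom_apply] at h
  refine h.trans ?_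
  have e : toConv ((ι₂).comp S) = (toConv ι₂)⁻¹ := rfl
  rw [galoisAux, toConv_ofConv, e, mul_assoc]
  exact congrArg (fun f => f.ofConv c) ((congrArg (toConv ι₁ * ·) (inv_mul_cancel (toConv ι₂))).trans (mul_one _))

theorem galoisInv_galois (z : A ⊗[k] A) : galoisInv k A (galois k A z) = z := by
  induction z with
  | zero => simp
  | add x y hx hy => simp only [map_add, hx, hy]
  | tmul c x => simp [galois, galoisInv_comul, show galoisInv k A (1 ⊗ₜ[k] x) = (1 : A) ⊗ₜ[k] x by simp [galoisInv]]

theorem galois_galoisInv (z : A ⊗[k] A) : galois k A (galoisInv k A z) = z := by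
  have hmul : ∀ f g : A →ₐ[k] A ⊗[k] A, (galois k A).comp (toConv f * toConv g).ofConv =
      (toConv ((galois k A).comp f) * toConv ((galois k A).comp g)).ofConv := by
    intro f g
    refine AlgHom.ext fun a => ?_
    rw [AlgHom.comp_apply, lmul'_comp_map_incl, lmul'_comp_map_incl]
    generalize Coalgebra.comul (R := k) a = x
    induction x with
    | zero => simp
    | tmul a b => simp
    | add x y hx hy => simp only [map_add, hx, hy]
  have h1 : (galois k A).comp ι₁ = Δ := AlgHom.ext fun a => by simp [galois]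
  have h2 : (galois k A).comp ((ι₂).comp S) = (ι₂).comp S := AlgHom.ext fun a => by simp [galois]
  have h : (galois k A).comp (galoisAux k A) = ι₁ := by
    rw [galoisAux, hmul, h1, h2, comulAlgHom_eq_mul, show toConv ((ι₂).comp S) = (toConv ι₂)⁻¹ from rfl]
    exact congrArg ofConv (mul_inv_cancel_right (toConv ι₁) (toConv ι₂))
  induction z with
  | zero => simp
  | add x y hx hy => simp only [map_add, hx, hy]
  | tmul a b =>
    have e : galoisInv k A (a ⊗ₜ[k] b) = galoisAux k A a * ((1 : A) ⊗ₜ[k] b) := by simp [galoisInv]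
    rw [e, map_mul, ← AlgHom.comp_apply, h]
    simp [galois]

variable (k A) in
/-- `a ⊗ b ↦ (S a ⊗ 1) Δ b`. -/
def galoisDual : A ⊗[k] A →ₐ[k] A ⊗[k] A :=
  Algebra.TensorProduct.lift ((ι₁).comp S) Δ fun _ _ => Commute.all _ _

theorem galoisDual_comul (c : A) : galoisDual k A (Coalgebra.comul (R := k) c) = (1 : A) ⊗ₜ[k] c := by
  have h := congrArg (fun f => f.ofConv c) (lift_comp_eq_mul ((ι₁).comp S) Δ)
  simp only [ofConv_toConv, AlgHom.comp_apply, Bialgebra.comulAlgHom_apply] at h
  refine h.trans ?_
  have e : toConv ((ι₁).comp S) = (toConv ι₁)⁻¹ := rfl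
  rw [comulAlgHom_eq_mul, e]
  exact congrArg (fun f => f.ofConv c) (inv_mul_cancel_left (toConv ι₁) (toConv ι₂))

theorem lcon_one_tmul_mul (l : A →ₗ[k] k) (c : A) (y : A ⊗[k] A) :
    lcon l (((1 : A) ⊗ₜ[k] c) * y) = c * lcon l y := by
  induction y with
  | zero => simp
  | add x y hx hy => simp only [mul_add, map_add, hx, hy]
  | tmul a b => simp

/-- The key identity `a₁ l(S a₂ b) = l(S a b₁) b₂`. -/
theorem key_identity {l : A →ₗ[k] k} (hl : IsIntegral' l) (z : A ⊗[k] A) :
    rcon l (galoisInv k A z) = lcon l (galoisDual k A z) := by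
  conv_rhs => rw [← galois_galoisInv z]
  induction galoisInv k A z with
  | zero => simp
  | add x y hx hy => simp only [map_add, hx, hy]
  | tmul c x =>
    have e : galois k A (c ⊗ₜ[k] x) = Coalgebra.comul (R := k) c * ((1 : A) ⊗ₜ[k] x) := by simp [galois]
    have e' : galoisDual k A ((1 : A) ⊗ₜ[k] x) = Coalgebra.comul (R := k) x := by
      simp [galoisDual, ← Algebra.TensorProduct.one_def]
    rw [e, map_mul, galoisDual_comul, e', lcon_one_tmul_mul, hl.invariant, rcon_tmul, mul_smul_comm, mul_one]

/-- `a ↦ l (S a * b)`. -/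
def avg (l : A →ₗ[k] k) (b : A) : A →ₗ[k] k :=
  l ∘ₗ LinearMap.mulRight k b ∘ₗ HopfAlgebra.antipode k

@[simp] theorem avg_apply (l : A →ₗ[k] k) (a b : A) : avg l b a = l (HopfAlgebra.antipode k a * b) := rfl

section Maschke

variable {l : A →ₗ[k] k}
variable {M : Type w} [AddCommGroup M] [Module k M] [HopfRep.Comod k A M]
variable {N : Type w'} [AddCommGroup N] [Module k N] [HopfRep.Comod k A N]

/-- `n ⊗ b ↦ n₀ l(S n₁ b)`. -/
def avgEval (l : A →ₗ[k] k) : N ⊗[k] A →ₗ[k] N :=
  TensorProduct.lift (LinearMap.mk₂ k (fun n b => dact (avg l b) n)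
    (fun n n' b => map_add _ n n') (fun c n b => map_smul _ c n)
    (fun n b b' => by
      rw [show avg l (b + b') = avg l b + avg l b' from LinearMap.ext fun a => by simp [mul_add]]
      exact dact_add _ _ _)
    (fun c n b => by
      rw [show avg l (c • b) = c • avg l b from LinearMap.ext fun a => by simp]
      exact dact_smul _ _ _))

@[simp] theorem avgEval_tmul (n : N) (b : A) : avgEval l (n ⊗ₜ[k] b) = dact (avg l b) n := rfl

/-- The average of a linear map between comodules. -/
def average (l : A →ₗ[k] k) (p : M →ₗ[k] N) : M →ₗ[k] N :=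
  avgEval l ∘ₗ p.rTensor A ∘ₗ HopfRep.Comod.coact (k := k) (A := A)

theorem average_dact (hl : IsIntegral' l) (p : M →ₗ[k] N) (f : A →ₗ[k] k) (m : M) :
    average l p (dact f m) = dact f (average l p m) := by
  have hc := LinearMap.congr_fun (HopfRep.Comod.coassoc (k := k) (A := A) (V := M)) m
  simp only [LinearMap.comp_apply, LinearEquiv.coe_coe] at hc
  have h1 : HopfRep.Comod.coact (k := k) (A := A) (dact f m) =
      (rcon f ∘ₗ Coalgebra.comul).lTensor M (HopfRep.Comod.coact (k := k) (A := A) m) := by
    rw [LinearMap.lTensor_comp_apply, ← hc]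
    show HopfRep.Comod.coact (k := k) (A := A) (rcon f (HopfRep.Comod.coact (k := k) (A := A) m)) = _
    rw [← rcon_rTensor]
    generalize (HopfRep.Comod.coact (k := k) (A := A) (V := M)).rTensor A
      (HopfRep.Comod.coact (k := k) (A := A) (V := M) m) = y
    induction y with
    | zero => simp
    | add x y hx hy => simp only [map_add, hx, hy]
    | tmul x c =>
      induction x with
      | zero => simp
      | add a b ha hb => simp only [TensorProduct.add_tmul, map_add, smul_add, ha, hb]
      | tmul a b => simp [TensorProduct.smul_tmul']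
  simp only [average, LinearMap.comp_apply]
  rw [h1, ← LinearMap.comp_apply (p.rTensor A), LinearMap.rTensor_comp_lTensor,
    ← LinearMap.lTensor_comp_rTensor, LinearMap.comp_apply]
  induction p.rTensor A (HopfRep.Comod.coact (k := k) (A := A) m) with
  | zero => simp [dact]
  | add x y hx hy => simp only [map_add, hx, hy]
  | tmul n b =>
    simp only [LinearMap.lTensor_tmul, LinearMap.comp_apply, avgEval_tmul]
    rw [← dact_mul]
    refine congrArg (fun g => dact g n) (LinearMap.ext fun a => ?_)
    have hk := congrArg f (key_identity hl (a ⊗ₜ[k] b))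
    have eR : lcon l (galoisDual k A (a ⊗ₜ[k] b)) =
        lcon (l ∘ₗ LinearMap.mulLeft k (HopfAlgebra.antipode k a)) (Coalgebra.comul (R := k) b) := by
      have : galoisDual k A (a ⊗ₜ[k] b) = (HopfAlgebra.antipode k a ⊗ₜ[k] (1 : A)) * Coalgebra.comul (R := k) b := by
        simp [galoisDual]
      rw [this]
      induction Coalgebra.comul (R := k) b with
      | zero => simp
      | add x y hx hy => simp only [mul_add, map_add, hx, hy]
      | tmul x y => simp
    have eL : f (rcon l (galoisInv k A (a ⊗ₜ[k] b))) = (toConv f * toConv (avg l b)).ofConv a := by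
      have : galoisInv k A (a ⊗ₜ[k] b) = galoisAux k A a * ((1 : A) ⊗ₜ[k] b) := by simp [galoisInv]
      rw [this]
      change _ = LinearMap.mul' k k (TensorProduct.map f (avg l b) (Coalgebra.comul (R := k) a))
      rw [galoisAux, lmul'_comp_map_incl]
      induction Coalgebra.comul (R := k) a with
      | zero => simp
      | add x y hx hy => simp only [add_mul, map_add, hx, hy]
      | tmul x y => simp [mul_comm (f x)]
    rw [← eL, hk, eR, avg_apply]
    induction Coalgebra.comul (R := k) b with
    | zero => simp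
    | add x y hx hy => simp only [mul_add, map_add, hx, hy]
    | tmul x y => simp [mul_comm (f y)]

theorem average_eq_self (hl : IsIntegral' l) (p : M →ₗ[k] N) {m : M} {m' : N}
    (h : p.rTensor A (HopfRep.Comod.coact (k := k) (A := A) m) = HopfRep.Comod.coact (k := k) (A := A) m') :
    average l p m = m' := by
  simp only [average, LinearMap.comp_apply]
  rw [h]
  have e1 : ∀ y : N ⊗[k] A, avgEval l y =
      rcon (l ∘ₗ LinearMap.mul' k A ∘ₗ (HopfAlgebra.antipode k).rTensor A)
        (TensorProduct.assoc k N A A ((HopfRep.Comod.coact (k := k) (A := A)).rTensor A y)) := by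
    intro y
    induction y with
    | zero => simp
    | add x y hx hy => simp only [map_add, hx, hy]
    | tmul n b =>
      rw [avgEval_tmul, LinearMap.rTensor_tmul, dact, LinearMap.comp_apply]
      induction HopfRep.Comod.coact (k := k) (A := A) n with
      | zero => simp
      | add x y hx hy => simp only [TensorProduct.add_tmul, map_add, hx, hy]
      | tmul x c => simp
  have hc := LinearMap.congr_fun (HopfRep.Comod.coassoc (k := k) (A := A) (V := N)) m'
  simp only [LinearMap.comp_apply, LinearEquiv.coe_coe] at hc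
  rw [e1, hc, rcon_lTensor]
  have e2 : (l ∘ₗ LinearMap.mul' k A ∘ₗ (HopfAlgebra.antipode k).rTensor A) ∘ₗ Coalgebra.comul =
      Coalgebra.counit := by
    refine LinearMap.ext fun a => ?_
    simp [HopfAlgebra.mul_antipode_rTensor_comul_apply, Algebra.algebraMap_eq_smul_one, hl.map_one]
  rw [e2]
  have := dact_one (k := k) (C := A) m'
  rw [show (1 : WithConv (A →ₗ[k] k)).ofConv = Coalgebra.counit from
    LinearMap.ext fun c => by simp [LinearMap.convOne_def]] at this
  exact this

/-- Subcomodules which are direct summands split equivariantly. -/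
theorem exists_isCompl_of_integral (hl : IsIntegral' l) [Module.Free k A] (W : Submodule k M)
    (hW : HopfRep.IsSubcomod (k := k) (A := A) W) (hsplit : ∃ W' : Submodule k M, IsCompl W W') :
    ∃ W'' : Submodule k M, HopfRep.IsSubcomod (k := k) (A := A) W'' ∧ IsCompl W W'' := by
  obtain ⟨W', hW'⟩ := hsplit
  let p : M →ₗ[k] M := W.subtype ∘ₗ W.projectionOnto W' hW'
  have hp : p ∘ₗ W.subtype = W.subtype := by
    ext x
    simp [p]
  set P := average l p with hP
  have hfix : ∀ m ∈ W, P m = m := by
    intro m hm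
    refine average_eq_self hl p ?_
    obtain ⟨y, hy⟩ := hW m hm
    rw [← hy, ← LinearMap.rTensor_comp_apply, hp]
  have hrange : ∀ m, P m ∈ W := by
    intro m
    simp only [hP, average, LinearMap.comp_apply]
    generalize HopfRep.Comod.coact (k := k) (A := A) m = y
    induction y with
    | zero => simp
    | add x y hx hy => simp only [map_add]; exact add_mem hx hy
    | tmul x b =>
      rw [LinearMap.rTensor_tmul, avgEval_tmul, dact, LinearMap.comp_apply]
      obtain ⟨y, hy⟩ := hW _ (show p x ∈ W from Submodule.coe_mem _)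
      rw [← hy, rcon_rTensor]
      exact Submodule.coe_mem _
  have hhom : HopfRep.Comod.coact (k := k) (A := A) ∘ₗ P = P.rTensor A ∘ₗ HopfRep.Comod.coact (k := k) (A := A) := by
    refine LinearMap.ext fun m => ext_rcon fun f => ?_
    simp only [LinearMap.comp_apply, rcon_rTensor]
    exact (average_dact hl p f m).symm
  refine ⟨LinearMap.ker P, fun m hm => ?_, ?_⟩
  · refine ⟨(LinearMap.codRestrict (LinearMap.ker P) (LinearMap.id - P) fun x => ?_).rTensor A
      (HopfRep.Comod.coact (k := k) (A := A) m), ?_⟩
    · simp [hfix _ (hrange x)]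
    · rw [← LinearMap.rTensor_comp_apply, LinearMap.subtype_comp_codRestrict, LinearMap.rTensor_sub,
        LinearMap.sub_apply, LinearMap.rTensor_id_apply, ← LinearMap.comp_apply (P.rTensor A), ← hhom]
      simp [LinearMap.mem_ker.mp hm]
  · refine isCompl_iff.mpr ⟨Submodule.disjoint_def.mpr fun m hm hk => ?_, codisjoint_iff.mpr ?_⟩
    · rw [← hfix m hm]; exact hk
    · refine eq_top_iff.mpr fun m _ => ?_
      rw [show m = P m + (m - P m) by abel]
      exact Submodule.add_mem_sup (hrange m) (by simp [hfix _ (hrange m)])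

end Maschke

end Groth.Agent.Comodule
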