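import Groth.Agent.Comodule.Chevalley
import Groth.Agent.Comodule.SubStruct
import Groth.Agent.FinInv.Basic
import Groth.Agent.RegLocLib.Basic
import Groth.Agent.GrSegreLib.Dim

/-! The Chevalley–Shephard–Todd theorem at a fixed rational point of a smooth affine scheme. -/

set_option autoImplicit false
set_option backward.isDefEq.respectTransparency false
universe u v

open TensorProduct WithConv

noncomputable section

namespace Groth.Agent.Comodule.ChevalleyLocal

variable {k : Type u} [Field k] {A : Type u} [CommRing A] [HopfAlgebra k A]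

section Fixed

variable {V W : Type u} [AddCommGroup V] [Module k V] [AddCommGroup W] [Module k W]

theorem map_eq_tmul_one_iff (g : V →ₗ[k] W) (hg : Function.Injective g) (I : Ideal A) (z : V ⊗[k] A) (v : V) :
    TensorProduct.map g (Ideal.Quotient.mkₐ k I).toLinearMap z = g v ⊗ₜ[k] (1 : A ⧸ I) ↔
      LinearMap.lTensor V (Ideal.Quotient.mkₐ k I).toLinearMap z = v ⊗ₜ[k] (1 : A ⧸ I) := by
  rw [← LinearMap.rTensor_comp_lTensor, LinearMap.comp_apply, ← LinearMap.rTensor_tmul,
    (Module.Flat.rTensor_preserves_injective_linearMap g hg).eq_iff]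

end Fixed

section Sym

variable {V : Type u} [AddCommGroup V] [Module k V] [HopfRep.Comod k A V] {ι : Type u} (b : Module.Basis ι k V)

/-- The linear map from a representation to the linear forms. -/
def linEmb : V →ₗ[k] MvPolynomial ι k := b.constr k MvPolynomial.X

/-- The coaction on the symmetric algebra. -/
def symCoact : MvPolynomial ι k →ₐ[k] MvPolynomial ι k ⊗[k] A :=
  MvPolynomial.aeval fun i => (linEmb b).rTensor A (HopfRep.Comod.coact (k := k) (A := A) (b i))

@[simp] theorem linEmb_basis (i : ι) : linEmb b (b i) = MvPolynomial.X i := b.constr_basis k _ i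

theorem linEmb_injective : Function.Injective (linEmb b) := by
  exact b.injective_constr_of_linearIndependent (R₂ := k) (MvPolynomial.linearIndependent_X ι k)

theorem range_linEmb : LinearMap.range (linEmb b) = MvPolynomial.homogeneousSubmodule ι k 1 := by
  rw [MvPolynomial.homogeneousSubmodule_one_eq_span_X, linEmb, Module.Basis.constr_range]

theorem symCoact_linEmb (v : V) :
    symCoact b (linEmb b v) = (linEmb b).rTensor A (HopfRep.Comod.coact (k := k) (A := A) v) := by
  have : (symCoact b).toLinearMap ∘ₗ linEmb b =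
      (linEmb b).rTensor A ∘ₗ HopfRep.Comod.coact (k := k) (A := A) (V := V) :=
    b.ext fun i => by simp [symCoact]
  exact LinearMap.congr_fun this v

/-- The symmetric algebra as a comodule. -/
@[reducible] def symComod : HopfRep.Comod k A (MvPolynomial ι k) where
  coact := (symCoact b).toLinearMap
  coassoc := by
    let e1 : MvPolynomial ι k →ₐ[k] MvPolynomial ι k ⊗[k] (A ⊗[k] A) :=
      (Algebra.TensorProduct.assoc k k k (MvPolynomial ι k) A A).toAlgHom.comp
        ((Algebra.TensorProduct.map (symCoact b) (AlgHom.id k A)).comp (symCoact b))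
    let e2 : MvPolynomial ι k →ₐ[k] MvPolynomial ι k ⊗[k] (A ⊗[k] A) :=
      (Algebra.TensorProduct.map (AlgHom.id k _) (Bialgebra.comulAlgHom k A)).comp (symCoact b)
    have h : e1 = e2 := by
      refine MvPolynomial.algHom_ext fun i => ?_
      have hc := congrArg ((linEmb b).rTensor (A ⊗[k] A))
        (LinearMap.congr_fun (HopfRep.Comod.coassoc (k := k) (A := A) (V := V)) (b i))
      simp only [LinearMap.comp_apply, LinearEquiv.coe_coe] at hc
      simp only [e1, e2, AlgHom.comp_apply]
      change (Algebra.TensorProduct.assoc k k k (MvPolynomial ι k) A A) _ = _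
      rw [← linEmb_basis b i, symCoact_linEmb]
      have q1 : ∀ z : V ⊗[k] A, Algebra.TensorProduct.map (AlgHom.id k (MvPolynomial ι k)) (Bialgebra.comulAlgHom k A)
          ((linEmb b).rTensor A z) = (linEmb b).rTensor (A ⊗[k] A) ((Coalgebra.comul (R := k)).lTensor V z) := by
        intro z
        induction z with
        | zero => simp
        | add p q hp hq => simp only [map_add, hp, hq]
        | tmul p q => simp
      have q2 : ∀ z : V ⊗[k] A, Algebra.TensorProduct.assoc k k k (MvPolynomial ι k) A A
          (Algebra.TensorProduct.map (symCoact b) (AlgHom.id k A) ((linEmb b).rTensor A z)) =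
          (linEmb b).rTensor (A ⊗[k] A) (TensorProduct.assoc k V A A
            ((HopfRep.Comod.coact (k := k) (A := A) (V := V)).rTensor A z)) := by
        intro z
        induction z with
        | zero => simp
        | add p q hp hq => simp only [map_add, hp, hq]
        | tmul p q =>
          rw [LinearMap.rTensor_tmul, Algebra.TensorProduct.map_tmul, symCoact_linEmb, LinearMap.rTensor_tmul]
          induction HopfRep.Comod.coact (k := k) (A := A) p with
          | zero => simp
          | add r s hr hs => simp only [TensorProduct.add_tmul, map_add, hr, hs]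
          | tmul r s => simp
      rw [q1, q2, hc]
    exact LinearMap.ext fun f => DFunLike.congr_fun h f
  counit_comp := by
    let e1 : MvPolynomial ι k →ₐ[k] MvPolynomial ι k ⊗[k] k :=
      (Algebra.TensorProduct.map (AlgHom.id k _) (Bialgebra.counitAlgHom k A)).comp (symCoact b)
    have h : e1 = Algebra.TensorProduct.includeLeft := by
      refine MvPolynomial.algHom_ext fun i => ?_
      have hc := congrArg ((linEmb b).rTensor k)
        (LinearMap.congr_fun (HopfRep.Comod.counit_comp (k := k) (A := A) (V := V)) (b i))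
      simp only [LinearMap.comp_apply, LinearMap.flip_apply, TensorProduct.mk_apply, LinearMap.rTensor_tmul] at hc
      simp only [e1, AlgHom.comp_apply, Algebra.TensorProduct.includeLeft_apply]
      rw [← linEmb_basis b i, symCoact_linEmb, ← hc]
      induction HopfRep.Comod.coact (k := k) (A := A) (b i) with
      | zero => simp
      | add p q hp hq => simp only [map_add, hp, hq]
      | tmul p q => simp
    exact LinearMap.ext fun f => DFunLike.congr_fun h f

theorem isCoactAlg_sym : letI := symComod (A := A) b; GLin.IsCoactAlg k A (MvPolynomial ι k) :=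
  letI := symComod (A := A) b
  { coact_one := map_one (symCoact b), coact_mul := fun f g => map_mul (symCoact b) f g }

theorem isLinear_sym [Fintype ι] : letI := symComod (A := A) b; GLin.IsLinear k A ι := by
  classical
  letI := symComod (A := A) b
  intro i
  show ∃ m : ι → A, symCoact b (MvPolynomial.X i) = _
  rw [← linEmb_basis b i, symCoact_linEmb]
  induction HopfRep.Comod.coact (k := k) (A := A) (b i) with
  | zero => exact ⟨0, by simp⟩
  | add p q hp hq =>
    obtain ⟨m, hm⟩ := hp
    obtain ⟨n, hn⟩ := hq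
    exact ⟨m + n, by simp only [map_add, hm, hn, Pi.add_apply, TensorProduct.tmul_add, Finset.sum_add_distrib]⟩
  | tmul p q =>
    refine ⟨fun j => b.repr p j • q, ?_⟩
    conv_lhs => rw [← b.sum_repr p]
    rw [TensorProduct.sum_tmul, map_sum]
    refine Finset.sum_congr rfl fun j _ => ?_
    rw [LinearMap.rTensor_tmul, map_smul, linEmb_basis, TensorProduct.smul_tmul]

theorem linForms_inf_quotInvariants (I : Ideal A) :
    letI := symComod (A := A) b
    GLin.linForms k ι ⊓ GLin.quotInvariants k A (MvPolynomial ι k) I =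
      (GLin.quotInvariants k A V I).map (linEmb b) := by
  letI := symComod (A := A) b
  have key : ∀ v : V, linEmb b v ∈ GLin.quotInvariants k A (MvPolynomial ι k) I ↔ v ∈ GLin.quotInvariants k A V I := by
    intro v
    rw [GLin.mem_quotInvariants_iff, GLin.mem_quotInvariants_iff,
      ← map_eq_tmul_one_iff (linEmb b) (linEmb_injective b), ← LinearMap.lTensor_comp_rTensor, LinearMap.comp_apply,
      show HopfRep.Comod.coact (k := k) (A := A) (linEmb b v) = _ from symCoact_linEmb b v]
  refine le_antisymm ?_ ?_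
  · rintro f ⟨hf, hfI⟩
    obtain ⟨v, rfl⟩ := (range_linEmb b).ge hf
    exact ⟨v, (key v).1 hfI, rfl⟩
  · rintro _ ⟨v, hv, rfl⟩
    exact ⟨(range_linEmb b).le ⟨v, rfl⟩, (key v).2 hv⟩

end Sym

section Point

variable {R : Type u} [CommRing R] [Algebra k R] [HopfRep.Comod k A R] [GLin.IsCoactAlg k A R]
variable (x : R →ₐ[k] k)

theorem orbit_apply {x : R →ₐ[k] k} (hx : GLin.IsFixedPt k A x) (r : R) :
    GLin.orbitHom k A x r = algebraMap k A (x r) :=
  DFunLike.congr_fun hx r

theorem isSubcomod_ker {x : R →ₐ[k] k} (hx : GLin.IsFixedPt k A x) :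
    HopfRep.IsSubcomod (k := k) (A := A) ((RingHom.ker x).restrictScalars k) := by
  have e : RingHom.ker x = RingHom.ker (GLin.orbitHom k A x) := by
    ext r
    rw [RingHom.mem_ker, RingHom.mem_ker, orbit_apply hx]
    exact ⟨fun h => by rw [h, map_zero], fun h => by simpa using congrArg (Coalgebra.counit (R := k)) h⟩
  rw [e]
  exact HilbertFG.isSubcomod_ker_orbit x

theorem isSubcomod_ker_pow {x : R →ₐ[k] k} (hx : GLin.IsFixedPt k A x) (n : ℕ) :
    HopfRep.IsSubcomod (k := k) (A := A) ((RingHom.ker x ^ n).restrictScalars k) := by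
  rcases Nat.eq_zero_or_pos n with rfl | hn
  · rw [pow_zero, Ideal.one_eq_top, Submodule.restrictScalars_top]; exact isSubcomod_top
  · rw [Submodule.restrictScalars_pow hn.ne']
    exact HilbertFG.isSubcomod_pow (isSubcomod_ker hx) n

theorem sub_mem_ker (r : R) : r - algebraMap k R (x r) ∈ RingHom.ker x := by simp [RingHom.mem_ker]

theorem finite_cotSpace [IsNoetherianRing R] : Module.Finite k (GLin.cotSpace k R x) := by
  classical
  obtain ⟨s, hs⟩ := IsNoetherian.noetherian (RingHom.ker x)
  let π := (Ideal.Quotient.mkₐ k (RingHom.ker x ^ 2)).toLinearMap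
  have hle : GLin.cotSpace k R x ≤ Submodule.span k (π '' ↑s) := by
    rintro _ ⟨f, hf, rfl⟩
    have hf' : f ∈ Ideal.span (↑s : Set R) := hs.ge hf
    obtain ⟨c, -, rfl⟩ := Submodule.mem_span_finset.1 hf'
    rw [map_sum]
    refine Submodule.sum_mem _ fun t ht => ?_
    have e : π (c t • t) = x (c t) • π t := by
      rw [← map_smul]
      refine Ideal.Quotient.eq.2 ?_
      rw [smul_eq_mul, Algebra.smul_def, ← sub_mul, pow_two]
      exact Ideal.mul_mem_mul (sub_mem_ker x _) (hs ▸ Ideal.subset_span ht : t ∈ RingHom.ker x)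
    rw [e]
    exact Submodule.smul_mem _ _ (Submodule.subset_span ⟨t, ht, rfl⟩)
  haveI : Module.Finite k (Submodule.span k (π '' (↑s : Set R))) :=
    Module.Finite.span_of_finite k (s.finite_toSet.image π)
  exact Submodule.finiteDimensional_of_le hle

theorem exists_section (hA : HopfRep.IsLinearlyReductive k A) {x : R →ₐ[k] k} (hx : GLin.IsFixedPt k A x) :
    ∃ V : Submodule k R, HopfRep.IsSubcomod (k := k) (A := A) V ∧ (∀ v ∈ V, x v = 0) ∧
      (∀ v ∈ V, v ∈ RingHom.ker x ^ 2 → v = 0) ∧
      ∀ f ∈ RingHom.ker x, ∃ v ∈ V, f - v ∈ RingHom.ker x ^ 2 := by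
  haveI := isSemisimpleModule_of_linRed hA R
  obtain ⟨Q, hQ⟩ := exists_isCompl (toDual _ (isSubcomod_ker_pow hx 2))
  refine ⟨(RingHom.ker x).restrictScalars k ⊓ Q.restrictScalars k,
    isSubcomod_iff.mpr fun g w hw => ⟨isSubcomod_iff.mp (isSubcomod_ker hx) g w hw.1, Q.smul_mem g hw.2⟩,
    fun v hv => RingHom.mem_ker.1 hv.1,
    fun v hv h => Submodule.disjoint_def.1 hQ.disjoint v h hv.2, fun f hf => ?_⟩
  obtain ⟨w, hw, q, hq, rfl⟩ := Submodule.mem_sup.1 (hQ.sup_eq_top.ge (Submodule.mem_top : f ∈ ⊤))
  have hw2 : w ∈ RingHom.ker x ^ 2 := hw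
  refine ⟨q, ⟨?_, hq⟩, by simpa using hw2⟩
  show q ∈ RingHom.ker x
  have := (RingHom.ker x).sub_mem hf (Ideal.pow_le_self (by norm_num) hw2)
  simpa using this

theorem exists_ker_pow_le [Module.Finite k A] [IsNoetherianRing R] {x : R →ₐ[k] k} (hx : GLin.IsFixedPt k A x) :
    ∃ N : ℕ, RingHom.ker x ^ N ≤ (RingHom.ker (x.comp (GLin.invariants k A R).val)).map
      (algebraMap (GLin.invariants k A R) R) := by
  classical
  refine Ideal.exists_pow_le_of_le_radical_of_fg (fun f hf => ?_) (IsNoetherian.noetherian _)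
  let b := Module.Free.chooseBasis k A
  let χ := FinInv.chi b f
  refine ⟨Fintype.card (Module.Free.ChooseBasisIndex k A), ?_⟩
  have hzero : Algebra.TensorProduct.map x (AlgHom.id k A) (GLin.coactAlgHom k A R f) = 0 := by
    refine (Algebra.TensorProduct.lid k A).injective ?_
    rw [map_zero]
    exact (orbit_apply hx f).trans (by rw [RingHom.mem_ker.1 hf, map_zero])
  have hmap : χ.map (x : R →+* k) = Polynomial.X ^ Fintype.card (Module.Free.ChooseBasisIndex k A) := by
    have h := FinInv.leftMulMatrix_map b x (GLin.coactAlgHom k A R f)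
    rw [hzero, map_zero] at h
    simp only [χ, FinInv.chi]
    rw [← Matrix.charpoly_map, ← Matrix.charpoly_zero]
    exact congrArg Matrix.charpoly h.symm
  have hdeg : χ.natDegree = Fintype.card (Module.Free.ChooseBasisIndex k A) := by
    haveI : Nontrivial R := x.toRingHom.domain_nontrivial
    simp [χ, FinInv.chi, Matrix.charpoly_natDegree_eq_dim]
  have hev := FinInv.aeval_chi b f
  rw [Polynomial.eval_eq_sum_range, Finset.sum_range_succ, hdeg,
    show χ.coeff (Fintype.card (Module.Free.ChooseBasisIndex k A)) = 1 by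
      rw [← hdeg]; exact FinInv.monic_chi b f, one_mul, add_eq_zero_iff_eq_neg'] at hev
  rw [hev, Ideal.neg_mem_iff]
  refine Ideal.sum_mem _ fun i hi => Ideal.mul_mem_right _ _ ?_
  refine Ideal.mem_map_of_mem (algebraMap (GLin.invariants k A R) R)
    (x := ⟨χ.coeff i, FinInv.coeff_chi_mem b f i⟩) ?_
  rw [RingHom.mem_ker]
  have := congrArg (fun p => Polynomial.coeff p i) hmap
  simp only [Polynomial.coeff_map, Polynomial.coeff_X_pow, (Finset.mem_range.1 hi).ne, if_false] at this
  exact this

theorem avg_mem_of {V : Type u} [AddCommGroup V] [Module k V] [HopfRep.Comod k A V] {l : A →ₗ[k] k}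
    (hl : ∀ a, l.rTensor A (Coalgebra.comul (R := k) a) = l a ⊗ₜ[k] (1 : A)) (v : V) :
    ReynoldsOp.avg l v ∈ HopfRep.fixedPts k A V := by
  letI := HopfRep.Comod.trivial k A k
  haveI : TameAct.IsHopfMod k A k V :=
    { coact_smul := fun c m => by
        rw [map_smul, show HopfRep.Comod.coact (k := k) (A := A) c = c ⊗ₜ[k] (1 : A) from rfl]
        induction HopfRep.Comod.coact (k := k) (A := A) m with
        | zero => simp
        | add p q hp hq => simp only [map_add, smul_add, hp, hq]
        | tmul p q => simp [TensorProduct.smul_tmul'] }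
  exact reynolds_mem_fixedPts (k := k) (A := A) l (LinearMap.ext fun a => (hl a).symm) v

theorem mem_invariants_map {P : Type u} [CommRing P] [Algebra k P] [HopfRep.Comod k A P] [GLin.IsCoactAlg k A P]
    (θ : P →ₐ[k] R) (hθ : Hoch.IsComodHom A θ.toLinearMap) (s : GLin.invariants k A P) :
    θ (s : P) ∈ GLin.invariants k A R := by
  rw [GLin.mem_invariants_iff, show HopfRep.Comod.coact (k := k) (A := A) (θ (s : P)) = _ from
    LinearMap.congr_fun hθ (s : P), LinearMap.comp_apply, (GLin.mem_invariants_iff _ _ _ _).1 s.2]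
  rfl

end Point

section Main

variable {R : Type u} [CommRing R] [Algebra k R] [Algebra.FiniteType k R] [Algebra.Smooth k R]

theorem isRegularLocalRing_of_smooth (k : Type u) [Field k] {R : Type u} [CommRing R] [Algebra k R]
    [Algebra.FiniteType k R] [Algebra.Smooth k R] (q : Ideal R) [q.IsPrime] : IsRegularLocalRing (Localization.AtPrime q) := by
  haveI : Algebra.IsSmoothAt k q := inferInstanceAs (Algebra.FormallySmooth k (Localization q.primeCompl))
  haveI : IsRegularRing k := RegLocLib.isRegularRing_of_isRegularLocalRing k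
  exact RegLocLib.mem_regLocus_of_smoothAt ⟨q, inferInstance⟩
    (RegLocLib.regLocus_eq_univ_of_isRegularRing k ▸ Set.mem_univ _)

variable [Module.Finite k A] [HopfRep.Comod k A R] [GLin.IsCoactAlg k A R]

theorem height_le_height_under (q : Ideal R) [q.IsPrime] :
    q.height ≤ (q.under (GLin.invariants k A R)).height := by
  change (⟨q, inferInstance⟩ : PrimeSpectrum R).asIdeal.height ≤
    (PrimeSpectrum.comap (algebraMap (GLin.invariants k A R) R) ⟨q, inferInstance⟩).asIdeal.height
  rw [PrimeSpectrum.height_eq_orderHeight, PrimeSpectrum.height_eq_orderHeight]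
  refine Order.height_le_height_apply_of_strictMono
    (PrimeSpectrum.comap (algebraMap (GLin.invariants k A R) R)) (fun a b hab => ?_) (⟨q, inferInstance⟩ : PrimeSpectrum R)
  obtain ⟨r, hrb, hra⟩ := SetLike.exists_of_lt (show a.asIdeal < b.asIdeal from hab)
  exact Ideal.comap_lt_comap_of_integral_mem_sdiff (show a.asIdeal ≤ b.asIdeal from hab.le) ⟨hrb, hra⟩
    (FinInv.isIntegral (Module.Free.chooseBasis k A) r)

theorem isRegularLocalRing_invariants (hG : HopfRep.IsLinearlyReductive k A)
    (hsub : ∀ (I : Ideal A) [I.IsHopfIdeal k], HopfRep.IsLinearlyReductive k (A ⧸ I))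
    (x : R →ₐ[k] k) (hx : GLin.IsFixedPt k A x) (hgen : GLin.IsGenByPseudoReflAt k A R x)
    [(RingHom.ker (x.comp (GLin.invariants k A R).val)).IsPrime] :
    IsRegularLocalRing (Localization.AtPrime (RingHom.ker (x.comp (GLin.invariants k A R).val))) := by
  classical
  haveI : IsNoetherianRing R := Algebra.FiniteType.isNoetherianRing k R
  let S := GLin.invariants k A R
  let p : Ideal S := RingHom.ker (x.comp S.val)
  haveI : IsNoetherianRing S := InvFinite.isNoetherianRing_invariants hG
  haveI hm : (RingHom.ker x).IsPrime := RingHom.ker_isPrime _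
  obtain ⟨V, hV, hVx, hV2, hVsur⟩ := exists_section hG hx
  let π := (Ideal.Quotient.mkₐ k (RingHom.ker x ^ 2)).toLinearMap
  have hπV : Function.Injective (π ∘ₗ V.subtype) := by
    rw [injective_iff_map_eq_zero]
    exact fun v hv => Subtype.ext (hV2 v v.2 (Ideal.Quotient.eq_zero_iff_mem.1 hv))
  have hrangeV : LinearMap.range (π ∘ₗ V.subtype) = GLin.cotSpace k R x := by
    refine le_antisymm ?_ ?_
    · rintro _ ⟨v, rfl⟩
      exact ⟨v, RingHom.mem_ker.2 (hVx v v.2), rfl⟩
    · rintro _ ⟨f, hf, rfl⟩
      obtain ⟨v, hv, hfv⟩ := hVsur f hf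
      exact ⟨⟨v, hv⟩, (Ideal.Quotient.eq.2 hfv).symm⟩
  haveI := finite_cotSpace x
  haveI : Module.Finite k V :=
    Module.Finite.of_injective ((π ∘ₗ V.subtype).codRestrict (GLin.cotSpace k R x) fun v => hrangeV.le ⟨v, rfl⟩)
      fun a c h => hπV (congrArg Subtype.val h)
  letI : HopfRep.Comod k A V := subComod V hV
  let b := Module.Basis.ofVectorSpace k V
  let ι := Module.Basis.ofVectorSpaceIndex k V
  letI : Fintype ι := FiniteDimensional.fintypeBasisIndex b
  letI : HopfRep.Comod k A (MvPolynomial ι k) := symComod b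
  haveI : GLin.IsCoactAlg k A (MvPolynomial ι k) := isCoactAlg_sym b
  have hlin : GLin.IsLinear k A ι := isLinear_sym b
  -- pseudo-reflections at `x` are pseudo-reflections of `V`
  have hgen' : GLin.IsGenByPseudoRefl k A ι := by
    refine le_bot_iff.1 (le_trans ?_ hgen.le)
    refine sSup_le_sSup fun J hJ => ⟨hJ.1, fun I hI => hJ.2 I ⟨hI.1, ?_⟩⟩
    have hcoact : ∀ v : V, TensorProduct.map (π ∘ₗ V.subtype) (Ideal.Quotient.mkₐ k I).toLinearMap
        (HopfRep.Comod.coact (k := k) (A := A) v) =
        TensorProduct.map π (Ideal.Quotient.mkₐ k I).toLinearMap (HopfRep.Comod.coact (k := k) (A := A) (v : R)) := by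
      intro v
      rw [show HopfRep.Comod.coact (k := k) (A := A) (v : R) = _ from (rTensor_subCoact V hV v).symm]
      exact (LinearMap.congr_fun (LinearMap.map_comp_rTensor _ π (Ideal.Quotient.mkₐ k I).toLinearMap V.subtype) _).symm
    have hfix : GLin.cotFixed k A R x I = (GLin.quotInvariants k A V I).map (π ∘ₗ V.subtype) := by
      refine le_antisymm ?_ ?_
      · rintro _ ⟨f, ⟨hfm, hfI⟩, rfl⟩
        obtain ⟨v, hv, hfv⟩ := hVsur f hfm
        refine ⟨⟨v, hv⟩, ?_, (Ideal.Quotient.eq.2 hfv).symm⟩
        rw [SetLike.mem_coe, GLin.mem_quotInvariants_iff, ← map_eq_tmul_one_iff _ hπV, hcoact]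
        obtain ⟨z, hz⟩ := isSubcomod_ker_pow hx 2 (f - v) hfv
        have h0 : TensorProduct.map π (Ideal.Quotient.mkₐ k I).toLinearMap
            (HopfRep.Comod.coact (k := k) (A := A) (f - v)) = 0 := by
          rw [← hz]
          clear hz
          induction z with
          | zero => simp
          | add p q hp hq => simp only [map_add, hp, hq, add_zero]
          | tmul p q =>
            have : π (p : R) = 0 := Ideal.Quotient.eq_zero_iff_mem.2 p.2
            simp [this]
        rw [map_sub, map_sub, sub_eq_zero] at h0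
        refine h0.symm.trans (Eq.trans hfI ?_)
        show π f ⊗ₜ[k] (1 : A ⧸ I) = π v ⊗ₜ[k] 1
        rw [show π f = π v from Ideal.Quotient.eq.2 hfv]
      · rintro _ ⟨v, hv, rfl⟩
        refine ⟨v, ⟨RingHom.mem_ker.2 (hVx v v.2), ?_⟩, rfl⟩
        rw [SetLike.mem_coe, GLin.mem_quotInvariants_iff, ← map_eq_tmul_one_iff _ hπV, hcoact] at hv
        exact hv
    have h1 := hI.2
    rw [hfix, ← hrangeV, ← Submodule.map_top] at h1
    rw [linForms_inf_quotInvariants b I,
      show GLin.linForms k ι = Submodule.map (linEmb b) ⊤ by rw [Submodule.map_top, range_linEmb],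
      ← (Submodule.equivMapOfInjective _ (linEmb_injective b) _).finrank_eq,
      ← (Submodule.equivMapOfInjective _ (linEmb_injective b) _).finrank_eq]
    rwa [← (Submodule.equivMapOfInjective _ hπV _).finrank_eq,
      ← (Submodule.equivMapOfInjective _ hπV _).finrank_eq] at h1
  -- the comparison map
  let θ : MvPolynomial ι k →ₐ[k] R := MvPolynomial.aeval fun i => (b i : R)
  have hθV : ∀ v : V, θ (linEmb b v) = (v : R) := by
    intro v
    have : θ.toLinearMap ∘ₗ linEmb b = V.subtype := b.ext fun i => by
      show θ (linEmb b (b i)) = (b i : R)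
      rw [linEmb_basis, MvPolynomial.aeval_X]
    exact LinearMap.congr_fun this v
  have hθ : Hoch.IsComodHom A θ.toLinearMap := by
    have h : (GLin.coactAlgHom k A R).comp θ = (Algebra.TensorProduct.map θ (AlgHom.id k A)).comp (symCoact b) := by
      refine MvPolynomial.algHom_ext fun i => ?_
      rw [AlgHom.comp_apply, AlgHom.comp_apply, ← linEmb_basis b i, hθV, symCoact_linEmb, GLin.coactAlgHom_apply,
        ← rTensor_subCoact V hV (b i)]
      show _ = Algebra.TensorProduct.map θ (AlgHom.id k A) ((linEmb b).rTensor A (subCoact V hV (b i)))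
      induction subCoact V hV (b i) with
      | zero => simp
      | add p q hp hq => simp only [map_add, hp, hq]
      | tmul p q => simp [hθV]
    exact LinearMap.ext fun f => DFunLike.congr_fun h f
  have hxθ : ∀ y, x (θ y) = MvPolynomial.constantCoeff y := by
    have : (x.comp θ) = MvPolynomial.aeval (fun _ : ι => (0 : k)) :=
      MvPolynomial.algHom_ext fun i => by simp [θ, hVx _ (b i).2]
    intro y
    rw [← AlgHom.comp_apply, this, MvPolynomial.aeval_zero']
    rfl
  -- approximation
  have happ : ∀ n : ℕ, ∀ r ∈ RingHom.ker x ^ n, ∃ y, r - θ y ∈ RingHom.ker x ^ (n + 1) := by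
    intro n
    induction n with
    | zero =>
      intro r _
      refine ⟨MvPolynomial.C (x r), ?_⟩
      rw [pow_one]
      simpa [θ] using sub_mem_ker x r
    | succ n ih =>
      intro r hr
      rw [pow_succ] at hr
      refine Submodule.mul_induction_on hr (fun a ha c hc => ?_) (fun a c ⟨ya, hya⟩ ⟨yc, hyc⟩ => ⟨ya + yc, ?_⟩)
      · obtain ⟨ya, hya⟩ := ih a ha
        obtain ⟨v, hv, hcv⟩ := hVsur c hc
        refine ⟨ya * linEmb b ⟨v, hv⟩, ?_⟩
        rw [map_mul, hθV, show a * c - θ ya * v = (a - θ ya) * c + θ ya * (c - v) by ring]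
        refine Ideal.add_mem _ ?_ ?_
        · rw [pow_succ _ (n + 1)]; exact Ideal.mul_mem_mul hya hc
        · rw [show n + 1 + 1 = n + 2 by rfl, pow_add]
          refine Ideal.mul_mem_mul ?_ hcv
          have := (RingHom.ker x ^ n).sub_mem ha (Ideal.pow_le_pow_right (Nat.le_succ n) hya)
          simpa using this
      · rw [map_add, add_sub_add_comm]; exact Ideal.add_mem _ hya hyc
  have hsurj : ∀ (n : ℕ) (r : R), ∃ y, r - θ y ∈ RingHom.ker x ^ n := by
    intro n
    induction n with
    | zero => exact fun r => ⟨0, by simp⟩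
    | succ n ih =>
      intro r
      obtain ⟨y, hy⟩ := ih r
      obtain ⟨y', hy'⟩ := happ n _ hy
      exact ⟨y + y', by rwa [map_add, ← sub_sub]⟩
  -- the invariants of `V` form a polynomial ring
  obtain ⟨m, ⟨e⟩⟩ := Chevalley.exists_algEquiv hlin hG hsub hgen'
  have hmd : m ≤ Fintype.card ι := by
    have hz : AlgebraicIndependent k fun i => ((e.symm (MvPolynomial.X i) : GLin.invariants k A (MvPolynomial ι k)) :
        MvPolynomial ι k) :=
      (MvPolynomial.algebraicIndependent_X (Fin m) k).map' (f := (GLin.invariants k A (MvPolynomial ι k)).val.comp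
        e.symm.toAlgHom) (Subtype.val_injective.comp e.symm.injective)
    have h := GrSegreLib.le_ringKrullDim_of_algIndep hz
    rw [MvPolynomial.ringKrullDim_of_isNoetherianRing, ringKrullDim_eq_zero_of_field, zero_add] at h
    simpa using h
  let φ : GLin.invariants k A (MvPolynomial ι k) →ₐ[k] S :=
    (θ.comp (GLin.invariants k A (MvPolynomial ι k)).val).codRestrict S fun s => mem_invariants_map θ hθ s
  let cc : GLin.invariants k A (MvPolynomial ι k) →ₐ[k] k := (x.comp S.val).comp φ
  let t : Fin m → GLin.invariants k A (MvPolynomial ι k) :=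
    fun i => e.symm (MvPolynomial.X i) - algebraMap k _ (cc (e.symm (MvPolynomial.X i)))
  have ht : ∀ q, q - algebraMap k _ (cc q) ∈ Ideal.span (Set.range t) := by
    intro q
    obtain ⟨f, rfl⟩ := e.symm.surjective q
    induction f using MvPolynomial.induction_on with
    | C a =>
      rw [← MvPolynomial.algebraMap_eq, AlgEquiv.commutes, AlgHom.commutes]
      simp
    | add f g hf hg =>
      rw [map_add, map_add, map_add, add_sub_add_comm]
      exact Ideal.add_mem _ hf hg
    | mul_X f i hf =>
      rw [map_mul, map_mul, map_mul]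
      rw [show e.symm f * e.symm (MvPolynomial.X i) - algebraMap k _ (cc (e.symm f)) *
          algebraMap k _ (cc (e.symm (MvPolynomial.X i))) = (e.symm f - algebraMap k _ (cc (e.symm f))) *
            e.symm (MvPolynomial.X i) + algebraMap k _ (cc (e.symm f)) * t i by simp only [t]; ring]
      exact Ideal.add_mem _ (Ideal.mul_mem_right _ _ hf) (Ideal.mul_mem_left _ _ (Ideal.subset_span ⟨i, rfl⟩))
  -- the generators of `p` modulo `p²`
  obtain ⟨N, hN⟩ := exists_ker_pow_le (A := A) hx
  have hp2 : ∀ s : S, (s : R) ∈ RingHom.ker x ^ (2 * N) → s ∈ p ^ 2 := by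
    intro s hs
    rw [← InvFinite.comap_map_eq hG (p ^ 2), Ideal.mem_comap, Ideal.map_pow]
    rw [mul_comm, pow_mul] at hs
    exact Ideal.pow_right_mono hN 2 hs
  obtain ⟨l, hl1, hl, -, hlstab⟩ := ReynoldsOp.avg_mem (V := R) hG
  have hspan : p ≤ Ideal.span (Set.range (φ ∘ t)) ⊔ p ^ 2 := by
    intro s hs
    obtain ⟨y, hy⟩ := hsurj (2 * N) (s : R)
    let q : GLin.invariants k A (MvPolynomial ι k) := ⟨ReynoldsOp.avg l y, avg_mem_of hl y⟩
    have hr : (s : R) - (φ q : R) ∈ RingHom.ker x ^ (2 * N) := by
      have h2 : ReynoldsOp.avg l ((s : R) - θ y) ∈ RingHom.ker x ^ (2 * N) :=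
        hlstab _ (isSubcomod_ker_pow hx _) _ hy
      have h3 : θ (ReynoldsOp.avg l y) = ReynoldsOp.avg l (θ y) := ReynoldsOp.avg_natural l θ.toLinearMap hθ y
      rw [map_sub, ReynoldsOp.avg_fixed l hl1 s.2] at h2
      show (s : R) - θ (ReynoldsOp.avg l y) ∈ _
      rw [h3]
      exact h2
    have h1 : s - φ q ∈ p ^ 2 := hp2 _ hr
    have h2 : cc q = 0 := by
      have : x.comp S.val (s - φ q) = 0 := RingHom.mem_ker.1 (Ideal.pow_le_self (by norm_num) h1)
      rw [map_sub, show x.comp S.val s = 0 from RingHom.mem_ker.1 hs, zero_sub, neg_eq_zero] at this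
      exact this
    have h3 := ht q
    rw [h2, map_zero, sub_zero] at h3
    have h4 : φ q ∈ Ideal.span (Set.range (φ ∘ t)) := by
      rw [Set.range_comp, ← Ideal.map_span]
      exact Ideal.mem_map_of_mem _ h3
    exact Submodule.mem_sup.2 ⟨_, h4, _, h1, add_sub_cancel _ _⟩
  -- dimension bound
  haveI := isRegularLocalRing_of_smooth k (RingHom.ker x)
  have hd : (Fintype.card ι : WithBot ℕ∞) ≤ ringKrullDim (Localization.AtPrime (RingHom.ker x)) := by
    refine Chevalley.le_ringKrullDim_atPrime (k := k) (RingHom.ker x) (fun r => ⟨x r, sub_mem_ker x r⟩)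
      (fun i => (b ((Fintype.equivFin ι).symm i) : R)) (fun i => RingHom.mem_ker.2 (hVx _ (b _).2)) ?_
    refine (b.linearIndependent.comp _ (Fintype.equivFin ι).symm.injective).map'
      (((RingHom.ker x ^ 2).restrictScalars k).mkQ ∘ₗ V.subtype) ?_
    rw [LinearMap.ker_eq_bot, injective_iff_map_eq_zero]
    exact fun v hv => Subtype.ext (hV2 v v.2 ((Submodule.Quotient.mk_eq_zero _).1 hv))
  have hdim : ringKrullDim (Localization.AtPrime (RingHom.ker x)) ≤ ringKrullDim (Localization.AtPrime p) := by
    rw [IsLocalization.AtPrime.ringKrullDim_eq_height (RingHom.ker x),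
      IsLocalization.AtPrime.ringKrullDim_eq_height p]
    exact WithBot.coe_le_coe.2 (height_le_height_under (A := A) (RingHom.ker x))
  haveI : IsNoetherianRing (Localization.AtPrime p) := IsLocalization.isNoetherianRing p.primeCompl _ inferInstance
  change IsRegularLocalRing (Localization.AtPrime p)
  refine IsRegularLocalRing.of_spanFinrank_maximalIdeal_le _ ?_
  let M := IsLocalRing.maximalIdeal (Localization.AtPrime p)
  let G : Set (Localization.AtPrime p) := Set.range fun i => algebraMap S (Localization.AtPrime p) (φ (t i))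
  have hmax : M ≤ Ideal.span G := by
    refine Submodule.le_of_le_smul_of_le_jacobson_bot (I := M) (IsNoetherian.noetherian M)
      (le_of_eq (IsLocalRing.jacobson_eq_maximalIdeal ⊥ bot_ne_top).symm) ?_
    have h := Ideal.map_mono (f := algebraMap S (Localization.AtPrime p)) hspan
    rw [Ideal.map_sup, Ideal.map_span, Ideal.map_pow, Localization.AtPrime.map_eq_maximalIdeal, pow_two,
      ← Set.range_comp] at h
    exact h
  have hM : M = Ideal.span G := by
    refine le_antisymm hmax (Ideal.span_le.2 ?_)
    rintro _ ⟨i, rfl⟩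
    refine (Localization.AtPrime.map_eq_maximalIdeal (I := p)).le (Ideal.mem_map_of_mem _ ?_)
    rw [RingHom.mem_ker]
    simp [t, cc]
  have h5 : M.spanFinrank ≤ m := by
    rw [hM]
    refine (Submodule.spanFinrank_span_le_ncard_of_finite (Set.finite_range _)).trans ?_
    rw [← Nat.card_coe_set_eq]
    exact (Finite.card_range_le _).trans (Nat.card_fin m).le
  calc (M.spanFinrank : WithBot ℕ∞) ≤ (Fintype.card ι : WithBot ℕ∞) := by exact_mod_cast h5.trans hmd
    _ ≤ _ := hd.trans hdim

end Main

end Groth.Agent.Comodule.ChevalleyLocal
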