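import Groth.Prelude.Def_Dyn
import Groth.Agent.Comodule.Coalg

/-! Stabilisers of subspaces. -/

set_option autoImplicit false
universe u v w

open TensorProduct WithConv

noncomputable section

namespace Groth.Agent.Comodule

variable {k : Type u} [Field k] {A : Type v} [CommRing A] [HopfAlgebra k A]
variable {V : Type w} [AddCommGroup V] [Module k V] [HopfRep.Comod k A V]

/-- The matrix of coefficients in a basis. -/
def coMat {ι : Type*} (b : Module.Basis ι k V) : Matrix ι ι A :=
  Matrix.of fun l j => coefMap (C := A) (b.coord l) (b j)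

theorem coact_basis {ι : Type*} [Fintype ι] (b : Module.Basis ι k V) (j : ι) :
    HopfRep.Comod.coact (k := k) (A := A) (b j) = ∑ l, b l ⊗ₜ[k] coMat b l j := by
  classical
  have hrep : ∀ z : V ⊗[k] A, z = ∑ l, b l ⊗ₜ[k] lcon (b.coord l) z := by
    intro z
    induction z with
    | zero => simp
    | add p q hp hq =>
      simp only [map_add, TensorProduct.tmul_add, Finset.sum_add_distrib]
      rw [← hp, ← hq]
    | tmul p a =>
      conv_lhs => rw [← b.sum_repr p, TensorProduct.sum_tmul]
      simp [TensorProduct.smul_tmul]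
  exact hrep _

theorem comul_coMat {ι : Type*} [Fintype ι] (b : Module.Basis ι k V) (i j : ι) :
    Coalgebra.comul (R := k) (coMat b i j : A) = ∑ l, coMat b i l ⊗ₜ[k] coMat b l j := by
  have h3 := LinearMap.congr_fun (isComodHom_restrictScalars (coefMap (C := A) (b.coord i))) (b j)
  simp only [LinearMap.comp_apply, LinearMap.coe_restrictScalars, coact_regular, coact_basis b, map_sum,
    LinearMap.rTensor_tmul] at h3
  exact h3

theorem counit_coMat {ι : Type*} [DecidableEq ι] (b : Module.Basis ι k V) (i j : ι) :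
    Coalgebra.counit (R := k) (coMat b i j : A) = if i = j then 1 else 0 := by
  rw [coMat, Matrix.of_apply, counit_coefMap, b.coord_apply, b.repr_self, Finsupp.single_apply]
  simp [eq_comm]

theorem coMat_mul_antipode {ι : Type*} [Fintype ι] [DecidableEq ι] (b : Module.Basis ι k V) :
    (coMat b : Matrix ι ι A) * (coMat b).map (HopfAlgebra.antipode k) = 1 := by
  ext i j
  have h := HopfAlgebra.mul_antipode_lTensor_comul_apply (R := k) (coMat b i j : A)
  rw [comul_coMat, map_sum, map_sum, counit_coMat, apply_ite (algebraMap k A), map_one, map_zero] at h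
  simp only [LinearMap.lTensor_tmul, LinearMap.mul'_apply] at h
  simp only [Matrix.mul_apply, Matrix.map_apply, Matrix.one_apply]
  exact h

variable {α β : Type} [Fintype α] [Fintype β] [DecidableEq α] [DecidableEq β]

/-- The ideal of the stabiliser of the span of the first block of basis vectors. -/
def stabIdeal (b : Module.Basis (α ⊕ β) k V) : Ideal A :=
  Ideal.span (Set.range fun p : β × α => coMat b (Sum.inr p.1) (Sum.inl p.2))

theorem mem_stabIdeal (b : Module.Basis (α ⊕ β) k V) (r : β) (t : α) :
    coMat b (Sum.inr r) (Sum.inl t) ∈ stabIdeal (A := A) b :=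
  Ideal.subset_span ⟨(r, t), rfl⟩

theorem isHopfIdeal_stabIdeal (b : Module.Basis (α ⊕ β) k V) : (stabIdeal (A := A) b).IsHopfIdeal k := by
  set J := stabIdeal (A := A) b with hJ
  let q : A →ₐ[k] A ⧸ J := Ideal.Quotient.mkₐ k J
  let M : Matrix (α ⊕ β) (α ⊕ β) A := coMat b
  let P := M.map q
  let N := (M.map (HopfAlgebra.antipode k)).map q
  have hPN : P * N = 1 := by
    rw [← Matrix.map_mul, coMat_mul_antipode, Matrix.map_one _ (map_zero q) (map_one q)]
  have h21 : P.toBlocks₂₁ = 0 := by
    ext r t
    exact Ideal.Quotient.eq_zero_iff_mem.mpr (mem_stabIdeal b r t)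
  have hPblk : P = Matrix.fromBlocks P.toBlocks₁₁ P.toBlocks₁₂ 0 P.toBlocks₂₂ := by
    rw [← h21, Matrix.fromBlocks_toBlocks]
  have hdet : IsUnit P.toBlocks₂₂.det := by
    have h : IsUnit P.det := Matrix.isUnit_det_of_right_inverse hPN
    rw [hPblk, Matrix.det_fromBlocks_zero₂₁] at h
    exact (IsUnit.mul_iff.mp h).2
  have hN21 : N.toBlocks₂₁ = 0 := by
    have h : P.toBlocks₂₂ * N.toBlocks₂₁ = 0 := by
      have h1 := congrArg Matrix.toBlocks₂₁ hPN
      rw [hPblk, ← Matrix.fromBlocks_toBlocks N, Matrix.fromBlocks_multiply, Matrix.toBlocks_fromBlocks₂₁,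
        Matrix.zero_mul, zero_add, ← Matrix.fromBlocks_one, Matrix.toBlocks_fromBlocks₂₁] at h1
      exact h1
    rw [← Matrix.one_mul N.toBlocks₂₁, ← Matrix.nonsing_inv_mul _ hdet, Matrix.mul_assoc, h, Matrix.mul_zero]
  refine @Ideal.IsHopfIdeal.mk k A _ _ _ J ⟨fun x hx => ?_, fun x hx => ?_⟩ fun x hx => ?_
  · have h : J ≤ RingHom.ker (Bialgebra.counitAlgHom k A) := Ideal.span_le.mpr <| by
      rintro _ ⟨p, rfl⟩
      show Coalgebra.counit (R := k) (coMat b _ _) = 0
      simp [counit_coMat]
    exact h hx
  · have hmk : (Submodule.restrictScalars k J).mkQ = q.toLinearMap := rfl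
    rw [hmk]
    have h : J ≤ RingHom.ker ((Algebra.TensorProduct.map q q).comp (Bialgebra.comulAlgHom k A)) :=
      Ideal.span_le.mpr <| by
      rintro _ ⟨⟨r, t⟩, rfl⟩
      show Algebra.TensorProduct.map q q (Coalgebra.comul (R := k) (coMat b (Sum.inr r) (Sum.inl t))) = 0
      rw [comul_coMat, map_sum]
      refine Finset.sum_eq_zero fun l _ => ?_
      rw [Algebra.TensorProduct.map_tmul]
      rcases l with t' | r'
      · rw [show q (coMat b (Sum.inr r) (Sum.inl t')) = 0 from
          Ideal.Quotient.eq_zero_iff_mem.mpr (mem_stabIdeal b r t'), TensorProduct.zero_tmul]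
      · rw [show q (coMat b (Sum.inr r') (Sum.inl t)) = 0 from
          Ideal.Quotient.eq_zero_iff_mem.mpr (mem_stabIdeal b r' t), TensorProduct.tmul_zero]
    exact h hx
  · have h : J ≤ RingHom.ker (q.comp (HopfAlgebra.antipodeAlgHom k A)) := Ideal.span_le.mpr <| by
      rintro _ ⟨⟨r, t⟩, rfl⟩
      exact congrFun (congrFun hN21 r) t
    exact Ideal.Quotient.eq_zero_iff_mem.mp (h hx)

theorem exists_stab_ideal {k A : Type u} [Field k] [CommRing A] [HopfAlgebra k A] {V : Type u} [AddCommGroup V]
    [Module k V] [HopfRep.Comod k A V] [Module.Finite k V] (W : Submodule k V) :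
    ∃ (J : Ideal A) (_ : J.IsHopfIdeal k),
      Dyn.Represents k A J (fun R _ _ g => ∀ w ∈ W,
        LinearMap.lTensor V g.toLinearMap (HopfRep.Comod.coact (k := k) (A := A) w) ∈
          LinearMap.range (W.subtype.rTensor R)) := by
  classical
  obtain ⟨W', hW'⟩ := W.exists_isCompl
  haveI : Module.Free k W := Module.Free.of_divisionRing k W
  haveI : Module.Free k W' := Module.Free.of_divisionRing k W'
  let b : Module.Basis (Fin (Module.finrank k W) ⊕ Fin (Module.finrank k W')) k V :=
    ((Module.finBasis k W).prod (Module.finBasis k W')).map (Submodule.prodEquivOfIsCompl W W' hW')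
  have hbl : ∀ t, b (Sum.inl t) = (Module.finBasis k W t : V) := fun t => by
    simp [b, Submodule.coe_prodEquivOfIsCompl']
  have hbr : ∀ x ∈ W, ∀ r, b.coord (Sum.inr r) x = 0 := by
    intro x hx r
    have : (Submodule.prodEquivOfIsCompl W W' hW').symm x = (⟨x, hx⟩, 0) := by
      rw [LinearEquiv.symm_apply_eq]
      simp [Submodule.coe_prodEquivOfIsCompl']
    simp [b, Module.Basis.coord_apply, this]
  refine ⟨stabIdeal b, isHopfIdeal_stabIdeal b, fun R _ _ g => ⟨fun h w hw => ?_, fun h a ha => ?_⟩⟩
  · have hW : W ≤ (LinearMap.range (W.subtype.rTensor R)).comap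
        (g.toLinearMap.lTensor V ∘ₗ HopfRep.Comod.coact (k := k) (A := A)) := by
      have hs : W = Submodule.span k (Set.range fun t => b (Sum.inl t)) := by
        rw [show (fun t => b (Sum.inl t)) = W.subtype ∘ Module.finBasis k W from funext hbl, Set.range_comp,
          Submodule.span_image, (Module.finBasis k W).span_eq, Submodule.map_top, Submodule.range_subtype]
      conv_lhs => rw [hs]
      refine Submodule.span_le.mpr ?_
      rintro _ ⟨t, rfl⟩
      show g.toLinearMap.lTensor V (HopfRep.Comod.coact (k := k) (A := A) (b (Sum.inl t))) ∈ LinearMap.range (W.subtype.rTensor R)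
      rw [coact_basis b, map_sum, Fintype.sum_sum_type]
      refine Submodule.add_mem _ ?_ ?_
      · refine Submodule.sum_mem _ fun t' _ => ?_
        exact ⟨Module.finBasis k W t' ⊗ₜ[k] g (coMat b (Sum.inl t') (Sum.inl t)),
          by rw [LinearMap.rTensor_tmul, LinearMap.lTensor_tmul, hbl]; rfl⟩
      · refine Submodule.sum_mem _ fun r _ => ?_
        rw [LinearMap.lTensor_tmul, show g.toLinearMap (coMat b (Sum.inr r) (Sum.inl t)) = 0 from
          h _ (mem_stabIdeal b r t), TensorProduct.tmul_zero]
        exact Submodule.zero_mem _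
    exact hW hw
  · have hle : stabIdeal b ≤ RingHom.ker g := Ideal.span_le.mpr <| by
      rintro _ ⟨⟨r, t⟩, rfl⟩
      obtain ⟨z, hz⟩ := h (b (Sum.inl t)) (by rw [hbl]; exact (Module.finBasis k W t).2)
      have h0 : (TensorProduct.lid k R) ((b.coord (Sum.inr r)).rTensor R (W.subtype.rTensor R z)) = 0 := by
        rw [← LinearMap.rTensor_comp_apply]
        have : b.coord (Sum.inr r) ∘ₗ W.subtype = 0 := LinearMap.ext fun x => hbr _ x.2 r
        rw [this]
        simp
      rw [hz, coact_basis b] at h0
      simpa [map_sum, Finsupp.single_apply] using h0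
    exact hle ha

end Groth.Agent.Comodule
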