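import Groth.Agent.Comodule.Basic

/-! Subcomodules and comodule maps over a field are submodules and maps for the dual algebra. -/

set_option autoImplicit false
universe u v w w'

open TensorProduct WithConv

noncomputable section

namespace Groth.Agent.Comodule

variable {k : Type u} [Field k] {C : Type v} [AddCommGroup C] [Module k C] [Coalgebra k C]
variable {V : Type w} [AddCommGroup V] [Module k V] [HopfRep.Comod k C V]
variable {W : Type w'} [AddCommGroup W] [Module k W] [HopfRep.Comod k C W]

local notation "𝔇" => WithConv (C →ₗ[k] k)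

theorem isSubcomod_iff {N : Submodule k V} :
    HopfRep.IsSubcomod (k := k) (A := C) N ↔ ∀ (f : 𝔇) (v : V), v ∈ N → f • v ∈ N := by
  constructor
  · intro h f v hv
    exact mem_range_rTensor_iff.mp (h v hv) f.ofConv
  · intro h v hv
    exact mem_range_rTensor_iff.mpr fun f => h (toConv f) v hv

/-- A subcomodule as a submodule over the dual algebra. -/
def toDual (N : Submodule k V) (h : HopfRep.IsSubcomod (k := k) (A := C) N) : Submodule 𝔇 V where
  carrier := N
  add_mem' := N.add_mem
  zero_mem' := N.zero_mem
  smul_mem' f v hv := isSubcomod_iff.mp h f v hv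

@[simp] theorem mem_toDual {N : Submodule k V} (h : HopfRep.IsSubcomod (k := k) (A := C) N) {v : V} :
    v ∈ toDual N h ↔ v ∈ N := Iff.rfl

@[simp] theorem restrictScalars_toDual {N : Submodule k V} (h : HopfRep.IsSubcomod (k := k) (A := C) N) :
    (toDual N h).restrictScalars k = N := rfl

theorem isSubcomod_restrictScalars (N : Submodule 𝔇 V) :
    HopfRep.IsSubcomod (k := k) (A := C) (N.restrictScalars k) :=
  isSubcomod_iff.mpr fun f _ hv => N.smul_mem f hv

theorem isSubcomod_bot : HopfRep.IsSubcomod (k := k) (A := C) (⊥ : Submodule k V) := by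
  simpa using isSubcomod_restrictScalars (k := k) (C := C) (V := V) ⊥

theorem isSubcomod_top : HopfRep.IsSubcomod (k := k) (A := C) (⊤ : Submodule k V) := by
  simpa using isSubcomod_restrictScalars (k := k) (C := C) (V := V) ⊤

theorem isComodHom_iff {g : V →ₗ[k] W} :
    Hoch.IsComodHom C g ↔ ∀ (f : 𝔇) (v : V), g (f • v) = f • g v := by
  constructor
  · intro h f v
    simp only [smul_def, dact, LinearMap.comp_apply]
    have h1 : HopfRep.Comod.coact (k := k) (A := C) (g v) =
        g.rTensor C (HopfRep.Comod.coact (k := k) (A := C) v) := LinearMap.congr_fun h v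
    rw [h1, rcon_rTensor]
  · intro h
    refine LinearMap.ext fun v => ext_rcon fun f => ?_
    have := h (toConv f) v
    simp only [smul_def, dact, LinearMap.comp_apply] at this
    simp only [LinearMap.comp_apply, rcon_rTensor]
    exact this.symm

/-- A comodule map as a linear map over the dual algebra. -/
def toDualHom (g : V →ₗ[k] W) (h : Hoch.IsComodHom C g) : V →ₗ[𝔇] W where
  toFun := g
  map_add' := map_add g
  map_smul' f v := isComodHom_iff.mp h f v

@[simp] theorem toDualHom_apply (g : V →ₗ[k] W) (h : Hoch.IsComodHom C g) (v : V) :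
    toDualHom g h v = g v := rfl

theorem isComodHom_restrictScalars (g : V →ₗ[𝔇] W) : Hoch.IsComodHom C (g.restrictScalars k) :=
  isComodHom_iff.mpr fun f v => map_smul g f v

/-- A comodule isomorphism as a linear equivalence over the dual algebra. -/
def toDualEquiv (g : V ≃ₗ[k] W) (h : Hoch.IsComodHom C (g : V →ₗ[k] W)) : V ≃ₗ[𝔇] W :=
  { toDualHom (g : V →ₗ[k] W) h, g.toEquiv with }

theorem isComodHom_restrictScalars_equiv (g : V ≃ₗ[𝔇] W) :
    Hoch.IsComodHom C ((g.restrictScalars k : V ≃ₗ[k] W) : V →ₗ[k] W) :=
  isComodHom_iff.mpr fun f v => map_smul g f v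

theorem range_toDualHom (g : V →ₗ[k] W) (h : Hoch.IsComodHom C g) :
    (LinearMap.range (toDualHom g h)).restrictScalars k = LinearMap.range g := rfl

/-- The order isomorphism between subcomodules and submodules over the dual algebra. -/
def subcomodEquiv : {N : Submodule k V // HopfRep.IsSubcomod (k := k) (A := C) N} ≃o Submodule 𝔇 V where
  toFun N := toDual N.1 N.2
  invFun N := ⟨N.restrictScalars k, isSubcomod_restrictScalars N⟩
  left_inv _ := rfl
  right_inv _ := rfl
  map_rel_iff' := Iff.rfl

theorem isSimpleComod_iff : HopfRep.IsSimpleComod k C V ↔ IsSimpleModule 𝔇 V := by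
  rw [isSimpleModule_iff]
  constructor
  · rintro ⟨hn, h⟩
    refine ⟨fun N => ?_⟩
    rcases h (N.restrictScalars k) (isSubcomod_restrictScalars N) with h1 | h1
    · left; rw [← Submodule.restrictScalars_eq_bot_iff (S := k)]; exact h1
    · right; rw [← Submodule.restrictScalars_eq_top_iff (S := k)]; exact h1
  · intro h
    refine ⟨(Submodule.nontrivial_iff 𝔇).mp h.toNontrivial, fun N hN => ?_⟩
    rcases h.eq_bot_or_eq_top (toDual N hN) with h1 | h1
    · left; rw [← restrictScalars_toDual hN, h1, Submodule.restrictScalars_bot]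
    · right; rw [← restrictScalars_toDual hN, h1, Submodule.restrictScalars_top]

theorem isCompl_restrictScalars {N N' : Submodule 𝔇 V} :
    IsCompl (N.restrictScalars k) (N'.restrictScalars k) ↔ IsCompl N N' := by
  simp only [isCompl_iff, disjoint_iff, codisjoint_iff, ← Submodule.restrictScalars_inf,
    ← Submodule.restrictScalars_sup, Submodule.restrictScalars_eq_bot_iff, Submodule.restrictScalars_eq_top_iff]

theorem isSemisimpleComod_iff : HopfRep.IsSemisimpleComod k C V ↔ IsSemisimpleModule 𝔇 V := by
  rw [isSemisimpleModule_iff]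
  constructor
  · intro h
    refine ⟨fun N => ?_⟩
    obtain ⟨N', hN', hc⟩ := h (N.restrictScalars k) (isSubcomod_restrictScalars N)
    exact ⟨toDual N' hN', isCompl_restrictScalars.mp hc⟩
  · intro h N hN
    obtain ⟨N', hc⟩ := h.exists_isCompl (toDual N hN)
    exact ⟨N'.restrictScalars k, isSubcomod_restrictScalars N', isCompl_restrictScalars.mpr hc⟩

theorem finite_span_singleton (v : V) : Module.Finite k ((Submodule.span 𝔇 {v}).restrictScalars k) := by
  obtain ⟨S, hS⟩ := exists_sum_rcon (HopfRep.Comod.coact (k := k) (A := C) v)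
  have hle : (Submodule.span 𝔇 {v}).restrictScalars k ≤ Submodule.span k (S : Set V) := by
    intro x hx
    obtain ⟨f, rfl⟩ := Submodule.mem_span_singleton.mp hx
    exact hS f.ofConv
  exact Submodule.finiteDimensional_of_le hle

/-- Finite sets generate finite-dimensional subcomodules. -/
theorem finite_span_of_finite {s : Set V} (hs : s.Finite) :
    Module.Finite k ((Submodule.span 𝔇 s).restrictScalars k) := by
  induction s, hs using Set.Finite.induction_on with
  | empty => rw [Submodule.span_empty, Submodule.restrictScalars_bot]; infer_instance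
  | @insert a s _ _ ih =>
    rw [Submodule.span_insert, Submodule.restrictScalars_sup]
    haveI := finite_span_singleton (k := k) (C := C) a
    infer_instance

theorem isArtinian_of_finite [Module.Finite k V] : IsArtinian 𝔇 V := isArtinian_of_tower k inferInstance

theorem finite_of_isSimple [IsSimpleModule 𝔇 V] : Module.Finite k V := by
  haveI := IsSimpleModule.nontrivial 𝔇 V
  obtain ⟨v, hv⟩ := exists_ne (0 : V)
  haveI := finite_span_singleton (k := k) (C := C) v
  have h : Submodule.span 𝔇 {v} = ⊤ := IsSimpleModule.span_singleton_eq_top 𝔇 hv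
  rw [h, Submodule.restrictScalars_top] at this
  exact Module.Finite.equiv Submodule.topEquiv

/-- Every nonzero comodule contains a simple subcomodule. -/
theorem exists_simple_le {N : Submodule 𝔇 V} (hN : N ≠ ⊥) :
    ∃ S : Submodule 𝔇 V, S ≤ N ∧ IsSimpleModule 𝔇 S := by
  obtain ⟨v, hv, hv0⟩ := N.ne_bot_iff.mp hN
  haveI := finite_span_singleton (k := k) (C := C) v
  set P := Submodule.span 𝔇 {v}
  have hle : P ≤ N := Submodule.span_le.mpr (by simpa using hv)
  haveI : Module.Finite k P :=
    Module.Finite.equiv (Submodule.restrictScalarsEquiv k 𝔇 V P |>.restrictScalars k)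
  haveI : FiniteDimensional k P := ‹_›
  letI : AddCommGroup P := inferInstance
  have hA : IsArtinian k P := isArtinian_of_fg_of_artinian'
  haveI : IsArtinian 𝔇 P := isArtinian_of_tower k hA
  have hne : (⊤ : Submodule 𝔇 P) ≠ ⊥ := by
    haveI : Nontrivial P := ⟨⟨⟨v, Submodule.subset_span rfl⟩, 0, fun h => hv0 (congrArg Subtype.val h)⟩⟩
    exact top_ne_bot
  obtain ⟨S, hS, -⟩ := (IsAtomic.eq_bot_or_exists_atom_le (⊤ : Submodule 𝔇 P)).resolve_left hne
  haveI : IsSimpleModule 𝔇 S := isSimpleModule_iff_isAtom.mpr hS
  refine ⟨S.map P.subtype, (Submodule.map_subtype_le P S).trans hle, ?_⟩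
  refine IsSimpleModule.congr (R := 𝔇) (N := S) ?_
  exact (S.equivMapOfInjective P.subtype P.injective_subtype).symm

end Groth.Agent.Comodule
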