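import Groth.Agent.Comodule.Integral

/-! The invariant functional of a diagonalizable group. -/

set_option autoImplicit false
universe u

open TensorProduct

noncomputable section

namespace Groth.Agent.Comodule

variable (k : Type u) [CommRing k] (M : Type*) [CommGroup M]

/-- The coefficient of the unit. -/
def coeffOne : MonoidAlgebra k M →ₗ[k] k :=
  Finsupp.lapply 1 ∘ₗ (MonoidAlgebra.coeffLinearEquiv k).toLinearMap

theorem isIntegral_coeffOne : IsIntegral' (coeffOne k M) := by
  classical
  refine ⟨fun a => ?_, by simp [coeffOne, MonoidAlgebra.one_def]⟩
  induction a using MonoidAlgebra.induction_linear with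
  | zero => simp
  | add f g hf hg => simp only [map_add, hf, hg, add_smul]
  | single m r =>
    rw [MonoidAlgebra.comul_single]
    rcases eq_or_ne m 1 with rfl | h
    · simp [coeffOne, MonoidAlgebra.one_def]
    · simp [coeffOne, h]

end Groth.Agent.Comodule
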