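import Groth.Agent.Comodule.Reductive
import Groth.Agent.Comodule.MonoidAlg
import Groth.Prelude.Def_ConstGrp

/-! Integrals: trace in characteristic zero, constant groups, base change. -/

set_option autoImplicit false
universe u v

open TensorProduct

noncomputable section

namespace Groth.Agent.Comodule

theorem lcon_trace_comul {k : Type u} [CommRing k] {A : Type v} [CommRing A] [HopfAlgebra k A]
    [Module.Free k A] [Module.Finite k A] (a : A) :
    lcon (Algebra.trace k A) (Coalgebra.comul (R := k) a) = Algebra.trace k A a • (1 : A) := by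
  let c := TensorProduct.comm k A A
  let β : (A ⊗[k] A) ≃ₗ[A] (A ⊗[k] A) :=
    { toFun := fun z => c (galois k A (c z))
      invFun := fun z => c (galoisInv k A (c z))
      map_add' := fun x y => by simp only [map_add]
      map_smul' := fun r z => by
        induction z with
        | zero => simp
        | add x y hx hy => simp only [smul_add, map_add, hx, hy]
        | tmul x y =>
          simp only [TensorProduct.smul_tmul', smul_eq_mul, RingHom.id_apply, c, TensorProduct.comm_tmul]
          have e : galois k A (y ⊗ₜ[k] (r * x)) = galois k A (y ⊗ₜ[k] x) * ((1 : A) ⊗ₜ[k] r) := by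
            rw [show (1 : A) ⊗ₜ[k] r = galois k A ((1 : A) ⊗ₜ[k] r) by simp [galois], ← map_mul,
              Algebra.TensorProduct.tmul_mul_tmul, mul_one, mul_comm r]
          rw [e]
          induction galois k A (y ⊗ₜ[k] x) with
          | zero => simp
          | add p q hp hq => simp only [add_mul, map_add, smul_add, hp, hq]
          | tmul p q => simp [TensorProduct.smul_tmul', mul_comm r]
      left_inv := fun z => by simp [c, galoisInv_galois, TensorProduct.comm_comm]
      right_inv := fun z => by simp [c, galois_galoisInv, TensorProduct.comm_comm] }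
  have hconj : β.conj ((Algebra.lmul k A a).baseChange A) =
      Algebra.lmul A (A ⊗[k] A) (c (Coalgebra.comul (R := k) a)) := by
    have hmul : ∀ p q : A ⊗[k] A, c (p * q) = c p * c q := fun p q =>
      map_mul (Algebra.TensorProduct.comm k A A) p q
    refine LinearMap.ext fun z => ?_
    obtain ⟨w, rfl⟩ := β.surjective z
    rw [LinearEquiv.conj_apply_apply, β.symm_apply_apply]
    show c (galois k A (c ((Algebra.lmul k A a).baseChange A w))) = _ * c (galois k A (c w))
    have e : c ((Algebra.lmul k A a).baseChange A w) = (a ⊗ₜ[k] (1 : A)) * c w := by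
      induction w with
      | zero => simp
      | add p q hp hq => simp only [map_add, mul_add, hp, hq]
      | tmul p q => simp [c]
    rw [e, map_mul, hmul]
    congr 2
    simp [galois, ← Algebra.TensorProduct.one_def]
  have h1 : Algebra.trace A (A ⊗[k] A) (c (Coalgebra.comul (R := k) a)) = algebraMap k A (Algebra.trace k A a) := by
    rw [Algebra.trace_apply, ← hconj, LinearMap.trace_conj', LinearMap.trace_baseChange, Algebra.trace_apply]
  have h2 : ∀ y : A ⊗[k] A, Algebra.trace A (A ⊗[k] A) (c y) = lcon (Algebra.trace k A) y := by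
    intro y
    induction y with
    | zero => simp
    | add p q hp hq => simp only [map_add, hp, hq]
    | tmul p q =>
      have e : Algebra.lmul A (A ⊗[k] A) (q ⊗ₜ[k] p) = q • (Algebra.lmul k A p).baseChange A := by
        refine TensorProduct.AlgebraTensorModule.ext fun x y => ?_
        simp [TensorProduct.smul_tmul']
      rw [TensorProduct.comm_tmul, Algebra.trace_apply, e, map_smul, LinearMap.trace_baseChange, lcon_tmul,
        Algebra.trace_apply, smul_eq_mul, Algebra.smul_def, mul_comm]
  rw [← h2, h1, Algebra.algebraMap_eq_smul_one]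

theorem exists_integral_of_charZero {k : Type u} [Field k] [CharZero k] {A : Type v} [CommRing A]
    [HopfAlgebra k A] [Module.Finite k A] : ∃ l : A →ₗ[k] k, IsIntegral' l := by
  haveI : Nontrivial A := ⟨⟨1, 0, fun h => one_ne_zero (α := k)
    (by rw [← Bialgebra.counit_one (R := k) (A := A), h, map_zero])⟩⟩
  have hn : (Module.finrank k A : k) ≠ 0 := Nat.cast_ne_zero.mpr Module.finrank_pos.ne'
  refine ⟨(Module.finrank k A : k)⁻¹ • Algebra.trace k A, fun a => ?_, ?_⟩
  · have e : lcon ((Module.finrank k A : k)⁻¹ • Algebra.trace k A) (Coalgebra.comul (R := k) a) =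
        (Module.finrank k A : k)⁻¹ • lcon (Algebra.trace k A) (Coalgebra.comul (R := k) a) := by
      simp [lcon, LinearMap.rTensor_smul]
    rw [e, lcon_trace_comul, LinearMap.smul_apply, smul_assoc]
  · rw [LinearMap.smul_apply, ← map_one (algebraMap k A), Algebra.trace_algebraMap]
    simp [hn]

theorem exists_integral_constGrp (k : Type u) [Field k] (G : Type u) [Group G] [Fintype G] [DecidableEq G]
    (hG : ((Fintype.card G : ℕ) : k) ≠ 0) : ∃ l : ConstGrp.F k G →ₗ[k] k, IsIntegral' l := by
  let s : ConstGrp.F k G →ₗ[k] k := ∑ g : G, (ConstGrp.ev k g).toLinearMap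
  have hs : ∀ g, s (ConstGrp.e k g) = 1 := by
    intro g
    simp only [s, LinearMap.sum_apply, AlgHom.toLinearMap_apply, ConstGrp.ev_apply, ConstGrp.e_apply]
    simp
  refine ⟨(Fintype.card G : k)⁻¹ • s, fun a => ?_, ?_⟩
  · suffices h : lcon ((Fintype.card G : k)⁻¹ • s) ∘ₗ Coalgebra.comul (R := k) =
        LinearMap.smulRight ((Fintype.card G : k)⁻¹ • s) (1 : ConstGrp.F k G) from LinearMap.congr_fun h a
    refine ConstGrp.linearMap_ext fun g => ?_
    have hc : Coalgebra.comul (R := k) (ConstGrp.e k g) =
        ∑ a : G, ConstGrp.e k a ⊗ₜ[k] ConstGrp.e k (a⁻¹ * g) := ConstGrp.comulAlg_e k G g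
    simp only [LinearMap.comp_apply, hc, map_sum, lcon_tmul, LinearMap.smul_apply, hs, LinearMap.smulRight_apply,
      ← Finset.smul_sum]
    rw [← ConstGrp.sum_e (R := k) (G := G)]
    congr 1
    exact Fintype.sum_equiv ((Equiv.inv G).trans (Equiv.mulRight g)) _ _ fun a => rfl
  · rw [LinearMap.smul_apply]
    simp [s, hG]

section BaseChange

variable (k K A : Type u) [Field k] [Field K] [Algebra k K] [CommRing A] [HopfAlgebra k A]

theorem comul_one_tmul (a : A) :
    Coalgebra.comul (R := K) ((1 : K) ⊗ₜ[k] a) =
      TensorProduct.mapOfCompatibleSMul K k k (K ⊗[k] A) (K ⊗[k] A)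
        (TensorProduct.map (TensorProduct.mk k K A 1) (TensorProduct.mk k K A 1) (Coalgebra.comul (R := k) a)) := by
  rw [TensorProduct.comul_tmul, Bialgebra.comul_one, Algebra.TensorProduct.one_def]
  induction Coalgebra.comul (R := k) a with
  | zero => simp
  | add x y hx hy => simp only [TensorProduct.tmul_add, map_add, hx, hy]
  | tmul p q => simp

theorem lcon_mapOfCompatible (lK : K ⊗[k] A →ₗ[K] K) (y : A ⊗[k] A) :
    lcon lK (TensorProduct.mapOfCompatibleSMul K k k _ _
      (TensorProduct.map (TensorProduct.mk k K A 1) (TensorProduct.mk k K A 1) y)) =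
      TensorProduct.lift ((TensorProduct.mk k K A).compl₁₂ (lK.restrictScalars k ∘ₗ TensorProduct.mk k K A 1)
        LinearMap.id) y := by
  induction y with
  | zero => simp
  | add p q hp hq => simp only [map_add, hp, hq]
  | tmul p q => simp [TensorProduct.smul_tmul']

theorem linRed_baseChange_iff :
    HopfRep.IsLinearlyReductive k A ↔ HopfRep.IsLinearlyReductive K (K ⊗[k] A) := by
  rw [linRed_iff_invSection, linRed_iff_invSection]
  constructor
  · intro h
    obtain ⟨l, hl⟩ := exists_integral_of_invSection h
    let lK : K ⊗[k] A →ₗ[K] K :=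
      (TensorProduct.AlgebraTensorModule.rid k K K).toLinearMap ∘ₗ l.baseChange K
    have hlK : ∀ (c : K) (a : A), lK (c ⊗ₜ[k] a) = l a • c := fun c a => by simp [lK]
    have hint : IsIntegral' lK := by
      refine ⟨fun z => ?_, by rw [Algebra.TensorProduct.one_def, hlK, hl.map_one, one_smul]⟩
      induction z with
      | zero => simp
      | add p q hp hq => simp only [map_add, hp, hq, add_smul]
      | tmul c a =>
        have e : c ⊗ₜ[k] a = c • ((1 : K) ⊗ₜ[k] a) := by simp [TensorProduct.smul_tmul']
        rw [e, map_smul, map_smul, map_smul, comul_one_tmul, lcon_mapOfCompatible, smul_eq_mul, mul_smul]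
        congr 1
        have e2 : ∀ y : A ⊗[k] A, TensorProduct.lift ((TensorProduct.mk k K A).compl₁₂
            (lK.restrictScalars k ∘ₗ TensorProduct.mk k K A 1) LinearMap.id) y = (1 : K) ⊗ₜ[k] lcon l y := by
          intro y
          induction y with
          | zero => simp
          | add p q hp hq => simp only [map_add, TensorProduct.tmul_add, hp, hq]
          | tmul p q => simp [hlK, TensorProduct.smul_tmul', TensorProduct.tmul_smul]
        rw [e2, hl.invariant, hlK, TensorProduct.tmul_smul, smul_assoc, one_smul, Algebra.TensorProduct.one_def]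
    exact invSection_of_linRed fun V _ _ _ _ => isSemisimple_of_integral hint V
  · intro h
    obtain ⟨lK, hlK⟩ := exists_integral_of_invSection h
    obtain ⟨π, hπ⟩ := LinearMap.exists_leftInverse_of_injective (Algebra.linearMap k K)
      (LinearMap.ker_eq_bot.mpr (algebraMap k K).injective)
    let l : A →ₗ[k] k := π ∘ₗ lK.restrictScalars k ∘ₗ TensorProduct.mk k K A 1
    have hint : IsIntegral' l := by
      refine ⟨fun a => ?_, ?_⟩
      · have hinv := hlK.invariant ((1 : K) ⊗ₜ[k] a)
        rw [comul_one_tmul, lcon_mapOfCompatible] at hinv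
        have h2 := congrArg (fun z => TensorProduct.lid k A (π.rTensor A z)) hinv
        have e2 : ∀ y : A ⊗[k] A, TensorProduct.lid k A (π.rTensor A (TensorProduct.lift
            ((TensorProduct.mk k K A).compl₁₂ (lK.restrictScalars k ∘ₗ TensorProduct.mk k K A 1) LinearMap.id) y)) =
            lcon l y := by
          intro y
          induction y with
          | zero => simp
          | add p q hp hq => simp only [map_add, hp, hq]
          | tmul p q => simp [l]
        simp only [e2] at h2
        rw [h2, Algebra.TensorProduct.one_def, TensorProduct.smul_tmul', smul_eq_mul, mul_one]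
        simp [l]
      · have h1 := LinearMap.congr_fun hπ 1
        simp only [LinearMap.comp_apply, Algebra.linearMap_apply, map_one, LinearMap.id_apply] at h1
        show π (lK ((1 : K) ⊗ₜ[k] (1 : A))) = 1
        rw [← Algebra.TensorProduct.one_def, hlK.map_one, h1]
    exact invSection_of_linRed fun V _ _ _ _ => isSemisimple_of_integral hint V

theorem exists_integral_of_bialgEquiv {R : Type u} [CommRing R] {A B : Type v} [CommRing A] [CommRing B]
    [HopfAlgebra R A] [HopfAlgebra R B] (e : A ≃ₐc[R] B) {l : B →ₗ[R] R} (hl : IsIntegral' l) :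
    IsIntegral' (l ∘ₗ (e : A →ₐc[R] B).toLinearMap) := by
  set E : A →ₗ[R] B := (e : A →ₐc[R] B).toLinearMap with hEdef
  have hE : ∀ x, E x = e x := fun _ => rfl
  refine ⟨fun a => e.injective ?_, ?_⟩
  · have hcomul : TensorProduct.map E E (Coalgebra.comul (R := R) a) = Coalgebra.comul (R := R) (E a) :=
      CoalgHomClass.map_comp_comul_apply (e : A →ₐc[R] B) a
    have key : ∀ y : A ⊗[R] A, lcon l (TensorProduct.map E E y) = E (lcon (l ∘ₗ E) y) := by
      intro y
      induction y with
      | zero => simp
      | add p q hp hq => simp only [map_add, hp, hq]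
      | tmul p q => simp
    change E _ = E _
    rw [← key, hcomul, hl.invariant, map_smul]
    simp [hE]
  · show l (e 1) = 1
    rw [map_one, hl.map_one]

end BaseChange

end Groth.Agent.Comodule
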