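import Groth.Agent.Comodule.SubStruct

/-! Quotient comodules and chains of subcomodules. -/

set_option autoImplicit false
universe u v w

open TensorProduct WithConv

noncomputable section

namespace Groth.Agent.Comodule

variable {k : Type u} [Field k] {C : Type v} [AddCommGroup C] [Module k C] [Coalgebra k C]
variable {V : Type w} [AddCommGroup V] [Module k V] [HopfRep.Comod k C V]
variable (N : Submodule k V) (hN : HopfRep.IsSubcomod (k := k) (A := C) N)

/-- The coaction on a quotient. -/
def quotCoact : (V ⧸ N) →ₗ[k] (V ⧸ N) ⊗[k] C :=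
  N.liftQ (N.mkQ.rTensor C ∘ₗ HopfRep.Comod.coact (k := k) (A := C)) fun v hv => by
    obtain ⟨y, hy⟩ := hN v hv
    rw [LinearMap.mem_ker, LinearMap.comp_apply, ← hy, ← LinearMap.rTensor_comp_apply,
      show N.mkQ ∘ₗ N.subtype = 0 from LinearMap.ext fun x => (Submodule.Quotient.mk_eq_zero N).mpr x.2,
      LinearMap.rTensor_zero, LinearMap.zero_apply]

@[simp] theorem quotCoact_mk (v : V) :
    quotCoact N hN (N.mkQ v) = N.mkQ.rTensor C (HopfRep.Comod.coact (k := k) (A := C) v) := rfl

/-- The quotient comodule. -/
@[reducible] def quotComod : HopfRep.Comod k C (V ⧸ N) where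
  coact := quotCoact N hN
  coassoc := by
    refine Submodule.linearMap_qext _ (LinearMap.ext fun v => ?_)
    have hc := LinearMap.congr_fun (HopfRep.Comod.coassoc (k := k) (A := C) (V := V)) v
    simp only [LinearMap.comp_apply, LinearEquiv.coe_coe, quotCoact_mk] at hc ⊢
    have e1 : ∀ y : V ⊗[k] C, (quotCoact N hN).rTensor C (N.mkQ.rTensor C y) =
        (N.mkQ.rTensor C).rTensor C ((HopfRep.Comod.coact (k := k) (A := C)).rTensor C y) := by
      intro y
      rw [← LinearMap.rTensor_comp_apply, ← LinearMap.rTensor_comp_apply]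
      rfl
    have e2 : ∀ y : (V ⊗[k] C) ⊗[k] C, TensorProduct.assoc k (V ⧸ N) C C ((N.mkQ.rTensor C).rTensor C y) =
        N.mkQ.rTensor (C ⊗[k] C) (TensorProduct.assoc k V C C y) := by
      intro y
      induction y with
      | zero => simp
      | add x y hx hy => simp only [map_add, hx, hy]
      | tmul a b =>
        induction a with
        | zero => simp
        | add x y hx hy => simp only [TensorProduct.add_tmul, map_add, hx, hy]
        | tmul x y => simp
    rw [e1, e2, hc, ← LinearMap.comp_apply, LinearMap.rTensor_comp_lTensor]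
    conv_rhs => rw [← LinearMap.comp_apply, LinearMap.lTensor_comp_rTensor]
  counit_comp := by
    refine Submodule.linearMap_qext _ (LinearMap.ext fun v => ?_)
    have hc := LinearMap.congr_fun (HopfRep.Comod.counit_comp (k := k) (A := C) (V := V)) v
    simp only [LinearMap.comp_apply, quotCoact_mk] at hc ⊢
    rw [← LinearMap.comp_apply, LinearMap.lTensor_comp_rTensor, ← LinearMap.rTensor_comp_lTensor,
      LinearMap.comp_apply, hc]
    simp

theorem isComodHom_mkQ : letI := quotComod N hN; Hoch.IsComodHom C N.mkQ := by
  letI := quotComod N hN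
  exact LinearMap.ext fun v => quotCoact_mk N hN v

variable {N}

include hN in
theorem isSubcomod_comap_mkQ {U : Submodule k (V ⧸ N)}
    (hU : letI := quotComod N hN; HopfRep.IsSubcomod (k := k) (A := C) U) :
    HopfRep.IsSubcomod (k := k) (A := C) (U.comap N.mkQ) := by
  letI := quotComod N hN
  refine isSubcomod_iff.mpr fun f v hv => ?_
  rw [Submodule.mem_comap, isComodHom_iff.mp (isComodHom_mkQ N hN) f v]
  exact isSubcomod_iff.mp hU f _ hv

end Groth.Agent.Comodule
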