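import Groth.Agent.Comodule.Extra
import Groth.Agent.Comodule.Quot

/-! Flags of subcomodules. -/

set_option autoImplicit false
universe u v

open TensorProduct WithConv

noncomputable section

namespace Groth.Agent.Comodule

variable {k : Type u} [Field k] {A : Type v} [CommRing A] [Bialgebra k A]
variable {V : Type v} [AddCommGroup V] [Module k V] [HopfRep.Comod k A V]

theorem finrank_comap_mkQ [Module.Finite k V] (N : Submodule k V) (U : Submodule k (V ⧸ N)) :
    Module.finrank k (U.comap N.mkQ) = Module.finrank k U + Module.finrank k N := by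
  have h := LinearMap.finrank_range_add_finrank_ker (N.mkQ ∘ₗ (U.comap N.mkQ).subtype)
  have hle : N ≤ U.comap N.mkQ := fun x hx => by
    rw [Submodule.mem_comap, Submodule.mkQ_apply, (Submodule.Quotient.mk_eq_zero N).mpr hx]
    exact zero_mem _
  rw [LinearMap.ker_comp, Submodule.ker_mkQ, LinearMap.range_comp, Submodule.range_subtype,
    Submodule.map_comap_eq_of_surjective (Submodule.mkQ_surjective N),
    LinearEquiv.finrank_eq (Submodule.comapSubtypeEquivOfLe hle)] at h
  exact h.symm

theorem isSubcomod_fixedPts : HopfRep.IsSubcomod (k := k) (A := A) (HopfRep.fixedPts k A V) :=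
  fun v hv => ⟨(⟨v, hv⟩ : HopfRep.fixedPts k A V) ⊗ₜ[k] (1 : A), by
    rw [LinearMap.rTensor_tmul]
    exact hv.symm⟩

/-- Iterate an enlargement step on subcomodules. -/
theorem exists_chain [Module.Finite k V] (Q : Submodule k V → Submodule k V → Prop)
    (hQ : ∀ N : Submodule k V, HopfRep.IsSubcomod (k := k) (A := A) N → N ≠ ⊤ →
      ∃ N', HopfRep.IsSubcomod (k := k) (A := A) N' ∧ N ≤ N' ∧ Q N N') :
    ∃ F : ℕ → Submodule k V, Monotone F ∧ F 0 = ⊥ ∧ (∀ i, HopfRep.IsSubcomod (k := k) (A := A) (F i)) ∧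
      ∀ i, (F i = ⊤ ∧ F (i + 1) = ⊤) ∨ (F i ≠ ⊤ ∧ Q (F i) (F (i + 1))) := by
  classical
  let S := {N : Submodule k V // HopfRep.IsSubcomod (k := k) (A := A) N}
  let next : S → S := fun N =>
    if h : N.1 = ⊤ then N else ⟨(hQ N.1 N.2 h).choose, (hQ N.1 N.2 h).choose_spec.1⟩
  let G : ℕ → S := fun i => next^[i] ⟨⊥, isSubcomod_bot⟩
  have hG : ∀ i, G (i + 1) = next (G i) := fun i => Function.iterate_succ_apply' next i _
  refine ⟨fun i => (G i).1, monotone_nat_of_le_succ fun i => ?_, rfl, fun i => (G i).2, fun i => ?_⟩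
  · show (G i).1 ≤ (G (i + 1)).1
    rw [hG]
    by_cases h : (G i).1 = ⊤
    · simp [next, h]
    · simp only [next, dif_neg h]
      exact (hQ _ (G i).2 h).choose_spec.2.1
  · show ((G i).1 = ⊤ ∧ (G (i + 1)).1 = ⊤) ∨ ((G i).1 ≠ ⊤ ∧ Q (G i).1 (G (i + 1)).1)
    rw [hG]
    by_cases h : (G i).1 = ⊤
    · exact Or.inl ⟨h, by simp [next, h]⟩
    · refine Or.inr ⟨h, ?_⟩
      simp only [next, dif_neg h]
      exact (hQ _ (G i).2 h).choose_spec.2.2

theorem exists_flag_of_trig (hT : HopfRep.IsTrigonalizable k A) [Module.Finite k V] :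
    ∃ F : ℕ → Submodule k V, Monotone F ∧ (∀ i, HopfRep.IsSubcomod (k := k) (A := A) (F i)) ∧
      ∀ i, i ≤ Module.finrank k V → Module.finrank k (F i) = i := by
  obtain ⟨F, hmono, h0, hsub, hstep⟩ := exists_chain (k := k) (A := A) (V := V)
    (fun N N' => Module.finrank k N' = Module.finrank k N + 1) fun N hN hne => by
      letI := quotComod N hN
      haveI : Nontrivial (V ⧸ N) := Submodule.Quotient.nontrivial_iff.mpr hne
      obtain ⟨L, -, hL⟩ := exists_simple_le (k := k) (C := A) (V := V ⧸ N)
        (N := (⊤ : Submodule (WithConv (A →ₗ[k] k)) (V ⧸ N))) top_ne_bot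
      have hLsub := isSubcomod_restrictScalars (k := k) (C := A) L
      letI := subComod (L.restrictScalars k) hLsub
      haveI : IsSimpleModule (WithConv (A →ₗ[k] k)) (toDual (L.restrictScalars k) hLsub) := hL
      have h1 : Module.finrank k (L.restrictScalars k) = 1 := by
        refine hT (L.restrictScalars k) inferInstance (isSimpleComod_iff.mpr ?_)
        refine IsSimpleModule.congr (R := WithConv (A →ₗ[k] k)) (N := toDual (L.restrictScalars k) hLsub) ?_
        exact subEquiv _ _
      refine ⟨(L.restrictScalars k).comap N.mkQ, isSubcomod_comap_mkQ hN hLsub, fun x hx => ?_, ?_⟩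
      · rw [Submodule.mem_comap, Submodule.mkQ_apply, (Submodule.Quotient.mk_eq_zero N).mpr hx]
        exact zero_mem _
      · rw [finrank_comap_mkQ, h1, add_comm]
  refine ⟨F, hmono, hsub, fun i hi => ?_⟩
  induction i with
  | zero => rw [h0, finrank_bot]
  | succ i ih =>
    rcases hstep i with ⟨htop, -⟩ | ⟨-, h⟩
    · have := ih (by omega)
      rw [htop, finrank_top] at this
      omega
    · rw [h, ih (by omega)]

theorem unipotent_iff_flags :
    HopfRep.IsUnipotent k A ↔
      ∀ (V : Type v) [AddCommGroup V] [Module k V] [HopfRep.Comod k A V], Module.Finite k V →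
        ∃ (m : ℕ) (F : ℕ → Submodule k V), Monotone F ∧ F 0 = ⊥ ∧ F m = ⊤ ∧
          (∀ i, HopfRep.IsSubcomod (k := k) (A := A) (F i)) ∧
          ∀ i, ∀ v ∈ F (i + 1),
            HopfRep.Comod.coact (k := k) (A := A) v - v ⊗ₜ[k] (1 : A) ∈
              LinearMap.range ((F i).subtype.rTensor A) := by
  constructor
  · intro hU V _ _ _ _
    obtain ⟨F, hmono, h0, hsub, hstep⟩ := exists_chain (k := k) (A := A) (V := V)
      (fun N N' => Module.finrank k N < Module.finrank k N' ∧ ∀ v ∈ N',
        HopfRep.Comod.coact (k := k) (A := A) v - v ⊗ₜ[k] (1 : A) ∈ LinearMap.range (N.subtype.rTensor A))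
      fun N hN hne => by
        letI := quotComod N hN
        haveI : Nontrivial (V ⧸ N) := Submodule.Quotient.nontrivial_iff.mpr hne
        have hfix := hU (V ⧸ N) inferInstance inferInstance
        refine ⟨(HopfRep.fixedPts k A (V ⧸ N)).comap N.mkQ, isSubcomod_comap_mkQ hN isSubcomod_fixedPts,
          fun x hx => ?_, ?_, fun v hv => ?_⟩
        · rw [Submodule.mem_comap, Submodule.mkQ_apply, (Submodule.Quotient.mk_eq_zero N).mpr hx]
          exact zero_mem _
        · rw [finrank_comap_mkQ]
          have : Module.finrank k (HopfRep.fixedPts k A (V ⧸ N)) ≠ 0 := fun h =>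
            hfix (Submodule.finrank_eq_zero.mp h)
          omega
        · refine mem_range_rTensor_iff.mpr fun f => ?_
          have h2 : N.mkQ.rTensor A (HopfRep.Comod.coact (k := k) (A := A) v) = N.mkQ v ⊗ₜ[k] (1 : A) := hv
          rw [← Submodule.Quotient.mk_eq_zero N, ← Submodule.mkQ_apply, ← rcon_rTensor, map_sub, h2,
            LinearMap.rTensor_tmul, sub_self, map_zero]
    have hall : ∀ i, i ≤ Module.finrank k (F i) ∨ F i = ⊤ := by
      intro i
      induction i with
      | zero => exact Or.inl (Nat.zero_le _)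
      | succ i ih =>
        rcases hstep i with ⟨-, h⟩ | ⟨hne, hlt, -⟩
        · exact Or.inr h
        · left
          have := ih.resolve_right hne
          omega
    refine ⟨Module.finrank k V + 1, F, hmono, h0, (hall _).resolve_left ?_, hsub, fun i v hv => ?_⟩
    · intro h
      have := Submodule.finrank_le (F (Module.finrank k V + 1))
      omega
    · rcases hstep i with ⟨htop, -⟩ | ⟨-, -, h⟩
      · exact mem_range_rTensor_iff.mpr fun f => by rw [htop]; trivial
      · exact h v hv
  · intro h V _ _ _ hfin hnt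
    obtain ⟨m, F, hmono, h0, hm, hsub, hF⟩ := h V hfin
    have hex : ∃ i, F i ≠ ⊥ := ⟨m, by rw [hm]; exact top_ne_bot⟩
    classical
    obtain ⟨j, hj⟩ : ∃ j, Nat.find hex = j + 1 :=
      ⟨Nat.find hex - 1, by have : Nat.find hex ≠ 0 := fun h => Nat.find_spec hex (by rw [h, h0]); omega⟩
    have hbot : F j = ⊥ := not_not.mp (Nat.find_min hex (by omega))
    obtain ⟨v, hv, hv0⟩ := (F (j + 1)).ne_bot_iff.mp (by rw [← hj]; exact Nat.find_spec hex)
    refine fun hfix => hv0 ?_
    rw [← Submodule.mem_bot k, ← hfix]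
    obtain ⟨y, hy⟩ := hF j v hv
    have hz : (F j).subtype = 0 := LinearMap.ext fun x => (Submodule.mem_bot k).mp (hbot ▸ x.2 : (x : V) ∈ (⊥ : Submodule k V))
    rw [hz, LinearMap.rTensor_zero, LinearMap.zero_apply, eq_comm, sub_eq_zero] at hy
    exact hy

end Groth.Agent.Comodule
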