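import Groth.Agent.Comodule.Basic

/-! Vanishing of comodule cohomology for relatively injective comodules. -/

set_option autoImplicit false
universe u v

open TensorProduct

noncomputable section

namespace Groth.Agent.Comodule

variable {k : Type u} [CommRing k] {A : Type v} [Ring A] [Bialgebra k A]
variable {V : Type v} [AddCommGroup V] [Module k V] [HopfRep.Comod k A V]

/-- A retraction `V ⊗ A → V` of the coaction, extended to cochains. -/
def homotopy (μ : V ⊗[k] A →ₗ[k] V) :
    (n : ℕ) → ((Hoch.cochain k A V (n + 1) : Type v) →ₗ[k] (Hoch.cochain k A V n : Type v))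
  | 0 => μ
  | n + 1 => (homotopy μ n).rTensor A

theorem tail_natural {M M' : Type v} [AddCommGroup M] [Module k M] [AddCommGroup M'] [Module k M']
    (f : M →ₗ[k] M') (y : M ⊗[k] A) :
    Hoch.tail k A M' (f.rTensor A y) = (f.rTensor A).rTensor A (Hoch.tail k A M y) := by
  induction y with
  | zero => simp
  | add x y hx hy => simp only [map_add, hx, hy]
  | tmul m a =>
    rw [LinearMap.rTensor_tmul, Hoch.tail_tmul, Hoch.tail_tmul]
    generalize Coalgebra.comul (R := k) a - a ⊗ₜ[k] (1 : A) - (1 : A) ⊗ₜ[k] a = x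
    induction x with
    | zero => simp
    | add x y hx hy => simp only [TensorProduct.tmul_add, map_add, hx, hy]
    | tmul a b => simp

theorem homotopy_spec (μ : V ⊗[k] A →ₗ[k] V)
    (hret : ∀ v : V, μ (HopfRep.Comod.coact (k := k) (A := A) v) = v)
    (hhom : ∀ (v : V) (a : A), HopfRep.Comod.coact (k := k) (A := A) (μ (v ⊗ₜ[k] a)) =
      μ.rTensor A ((TensorProduct.assoc k V A A).symm (v ⊗ₜ[k] Coalgebra.comul (R := k) a))) :
    ∀ (n : ℕ) (z : (Hoch.cochain k A V (n + 1) : Type v)),
      Hoch.d k A V n (homotopy μ n z) + homotopy μ (n + 1) (Hoch.d k A V (n + 1) z) = z := by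
  intro n
  induction n with
  | zero =>
    intro z
    induction z using TensorProduct.induction_on with
    | zero => simp
    | add x y hx hy =>
      conv_rhs => rw [← hx, ← hy]
      simp only [map_add]
      abel
    | tmul v a =>
      show Hoch.d k A V 0 (μ (v ⊗ₜ[k] a)) + μ.rTensor A (Hoch.d k A V 1 (v ⊗ₜ[k] a)) = v ⊗ₜ[k] a
      rw [Hoch.d_zero_apply, hhom, Hoch.d_succ, pow_one, LinearMap.add_apply, LinearMap.smul_apply,
        neg_smul, one_smul, LinearMap.rTensor_tmul, Hoch.tail_tmul, Hoch.d_zero_apply]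
      simp only [TensorProduct.tmul_sub, TensorProduct.sub_tmul, map_add, map_neg, map_sub,
        TensorProduct.assoc_symm_tmul, LinearMap.rTensor_tmul]
      rw [hret]
      abel
  | succ n ih =>
    intro z
    induction z using TensorProduct.induction_on with
    | zero => simp
    | add x y hx hy =>
      conv_rhs => rw [← hx, ← hy]
      simp only [map_add]
      abel
    | tmul y a =>
      show Hoch.d k A V (n + 1) ((homotopy μ n).rTensor A (y ⊗ₜ[k] a)) +
        (homotopy μ (n + 1)).rTensor A (Hoch.d k A V (n + 2) (y ⊗ₜ[k] a)) = y ⊗ₜ[k] a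
      rw [Hoch.d_succ k A V (n + 1), LinearMap.add_apply, LinearMap.smul_apply, map_add, map_smul,
        Hoch.d_succ k A V n, LinearMap.add_apply, LinearMap.smul_apply]
      have e : (homotopy μ (n + 1)).rTensor A (Hoch.tail k A (Hoch.cochain k A V (n + 1)) (y ⊗ₜ[k] a)) =
          Hoch.tail k A (Hoch.cochain k A V n) ((homotopy μ n).rTensor A (y ⊗ₜ[k] a)) :=
        (tail_natural (homotopy μ n) (y ⊗ₜ[k] a)).symm
      rw [e]
      simp only [LinearMap.rTensor_tmul]
      rw [pow_succ (-1 : k) (n + 1), mul_neg, mul_one, neg_smul]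
      have h2 : Hoch.d k A V n (homotopy μ n y) ⊗ₜ[k] a +
          homotopy μ (n + 1) (Hoch.d k A V (n + 1) y) ⊗ₜ[k] a = y ⊗ₜ[k] a := by
        rw [← TensorProduct.add_tmul, ih y]
      rw [← h2]
      abel

theorem cocycles_le_coboundaries (μ : V ⊗[k] A →ₗ[k] V)
    (hret : ∀ v : V, μ (HopfRep.Comod.coact (k := k) (A := A) v) = v)
    (hhom : ∀ (v : V) (a : A), HopfRep.Comod.coact (k := k) (A := A) (μ (v ⊗ₜ[k] a)) =
      μ.rTensor A ((TensorProduct.assoc k V A A).symm (v ⊗ₜ[k] Coalgebra.comul (R := k) a)))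
    (n : ℕ) (hn : 1 ≤ n) : Hoch.cocycles k A V n ≤ Hoch.coboundaries k A V n := by
  obtain ⟨m, rfl⟩ : ∃ m, n = m + 1 := ⟨n - 1, by omega⟩
  intro z hz
  refine ⟨homotopy μ m z, ?_⟩
  have := homotopy_spec μ hret hhom m z
  rwa [show Hoch.d k A V (m + 1) z = 0 from hz, map_zero, add_zero] at this

theorem d_one_d_zero (v : V) : Hoch.d k A V 1 (Hoch.d k A V 0 v) = 0 := by
  have hc := LinearMap.congr_fun (HopfRep.Comod.coassoc (k := k) (A := A) (V := V)) v
  simp only [LinearMap.comp_apply, LinearEquiv.coe_coe] at hc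
  have e : ∀ y : V ⊗[k] A, Hoch.d k A V 1 y =
      (HopfRep.Comod.coact (k := k) (A := A) (V := V)).rTensor A y -
        (TensorProduct.assoc k V A A).symm (Coalgebra.comul.lTensor V y) + y ⊗ₜ[k] (1 : A) := by
    intro y
    induction y with
    | zero => simp
    | add x y hx hy => simp only [map_add, hx, hy, TensorProduct.add_tmul]; abel
    | tmul w a =>
      rw [Hoch.d_succ, pow_one, LinearMap.add_apply, LinearMap.smul_apply, neg_smul, one_smul,
        LinearMap.rTensor_tmul, Hoch.tail_tmul, Hoch.d_zero_apply]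
      simp only [TensorProduct.tmul_sub, TensorProduct.sub_tmul, map_sub,
        TensorProduct.assoc_symm_tmul, LinearMap.rTensor_tmul, LinearMap.lTensor_tmul]
      abel
  rw [e, Hoch.d_zero_apply, map_sub, map_sub, ← hc]
  simp only [map_sub, LinearEquiv.symm_apply_apply]
  simp [TensorProduct.sub_tmul, Bialgebra.comul_one, Algebra.TensorProduct.one_def]

/-- Naturality of the first two differentials. -/
theorem d_one_natural {U : Type v} [AddCommGroup U] [Module k U] [HopfRep.Comod k A U] (f : U →ₗ[k] V)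
    (hf : Hoch.IsComodHom A f) (y : U ⊗[k] A) :
    Hoch.d k A V 1 (f.rTensor A y) = (f.rTensor A).rTensor A (Hoch.d k A U 1 y) := by
  induction y with
  | zero => simp
  | add x y hx hy => simp only [map_add, hx, hy]
  | tmul u a =>
    rw [LinearMap.rTensor_tmul, Hoch.d_succ, Hoch.d_succ, LinearMap.add_apply, LinearMap.add_apply,
      LinearMap.smul_apply, LinearMap.smul_apply, LinearMap.rTensor_tmul, LinearMap.rTensor_tmul, map_add,
      map_smul, LinearMap.rTensor_tmul, ← tail_natural, LinearMap.rTensor_tmul]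
    congr 2
    rw [Hoch.d_zero_apply, Hoch.d_zero_apply, map_sub, LinearMap.rTensor_tmul]
    congr 1
    exact LinearMap.congr_fun hf u

end Groth.Agent.Comodule
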