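import Groth.Agent.Comodule.Extra
import Groth.Agent.Comodule.Integral
import Groth.Agent.Comodule.HochLib

/-! Linear reductivity: complete reducibility, integrals, invariant sections. -/

set_option autoImplicit false
universe u v w

open TensorProduct WithConv

noncomputable section

namespace Groth.Agent.Comodule

/-- An integral from a complement of the scalars in the regular comodule. -/
theorem exists_integral_of_isCompl {k : Type u} [CommRing k] {A : Type v} [CommRing A] [Bialgebra k A]
    (H : Submodule k A) (hH : HopfRep.IsSubcomod (k := k) (A := A) H)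
    (hc : IsCompl (Submodule.span k {(1 : A)}) H) :
    ∃ α : A →ₗ[k] k, @Hoch.IsComodHom k _ A _ _ _ A _ _ _ k _ _ (HopfRep.Comod.trivial k A k) α ∧ α 1 = 1 := by
  let α : A →ₗ[k] k := Coalgebra.counit ∘ₗ (Submodule.span k {(1 : A)}).subtype ∘ₗ
    (Submodule.span k {(1 : A)}).projectionOnto H hc
  have h1 : α 1 = 1 := by
    have := Submodule.projectionOnto_apply_left hc ⟨1, Submodule.mem_span_singleton_self 1⟩
    simp [α, this]
  have h0 : α ∘ₗ H.subtype = 0 := by
    ext x
    simp [α]
  refine ⟨α, LinearMap.ext fun a => ?_, h1⟩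
  obtain ⟨x, hx, y, hy, rfl⟩ := Submodule.mem_sup.mp (hc.sup_eq_top ▸ Submodule.mem_top : a ∈ _ ⊔ H)
  obtain ⟨c, rfl⟩ := Submodule.mem_span_singleton.mp hx
  obtain ⟨z, hz⟩ := hH y hy
  have hy0 : α y = 0 := LinearMap.congr_fun h0 ⟨y, hy⟩
  show α (c • 1 + y) ⊗ₜ[k] (1 : A) = α.rTensor A (Coalgebra.comul (R := k) (c • (1 : A) + y))
  have hz' : α.rTensor A (Coalgebra.comul (R := k) y) = 0 := by
    rw [show Coalgebra.comul (R := k) y = H.subtype.rTensor A z from hz.symm, ← LinearMap.rTensor_comp_apply, h0]
    simp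
  rw [map_add, map_add, map_add, hz', hy0, map_smul, map_smul, map_smul, Bialgebra.comul_one,
    Algebra.TensorProduct.one_def, LinearMap.rTensor_tmul, h1]
  simp [TensorProduct.smul_tmul']

variable {k : Type u} [Field k] {A : Type v}

theorem isSemisimpleModule_of_linRed [CommRing A] [Bialgebra k A] (hA : HopfRep.IsLinearlyReductive k A)
    (V : Type v) [AddCommGroup V] [Module k V] [HopfRep.Comod k A V] :
    IsSemisimpleModule (WithConv (A →ₗ[k] k)) V := by
  refine isSemisimpleModule_of_isSemisimpleModule_submodule'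
    (p := fun v : V => Submodule.span (WithConv (A →ₗ[k] k)) {v}) (fun v => ?_) ?_
  · let W := (Submodule.span (WithConv (A →ₗ[k] k)) {v}).restrictScalars k
    have hW : HopfRep.IsSubcomod (k := k) (A := A) W := isSubcomod_restrictScalars _
    letI := subComod W hW
    haveI : Module.Finite k W := finite_span_singleton v
    have h : IsSemisimpleModule (WithConv (A →ₗ[k] k)) W := isSemisimpleComod_iff.mp (hA W inferInstance)
    exact (subEquiv W hW).isSemisimpleModule_iff.mp h
  · exact eq_top_iff.mpr fun v _ => Submodule.mem_iSup_of_mem v (Submodule.mem_span_singleton_self v)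

theorem exists_integral_of_linRed [CommRing A] [Bialgebra k A] (hA : HopfRep.IsLinearlyReductive k A) :
    ∃ α : A →ₗ[k] k, @Hoch.IsComodHom k _ A _ _ _ A _ _ _ k _ _ (HopfRep.Comod.trivial k A k) α ∧ α 1 = 1 := by
  have hs := isSemisimpleModule_of_linRed hA A
  have h1 : HopfRep.IsSubcomod (k := k) (A := A) (Submodule.span k {(1 : A)}) := by
    refine isSubcomod_iff.mpr fun f v hv => ?_
    obtain ⟨c, rfl⟩ := Submodule.mem_span_singleton.mp hv
    rw [smul_comm]
    refine Submodule.smul_mem _ c ?_
    rw [smul_def, dact, LinearMap.comp_apply, coact_regular, Bialgebra.comul_one, Algebra.TensorProduct.one_def,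
      rcon_tmul]
    exact Submodule.smul_mem _ _ (Submodule.mem_span_singleton_self 1)
  obtain ⟨H, hH, hc⟩ := isSemisimpleComod_iff.mpr hs _ h1
  exact exists_integral_of_isCompl H hH hc

section Hopf

variable [CommRing A] [HopfAlgebra k A]

theorem isSemisimple_of_integral {l : A →ₗ[k] k} (hl : IsIntegral' l) (V : Type w) [AddCommGroup V]
    [Module k V] [HopfRep.Comod k A V] : HopfRep.IsSemisimpleComod k A V :=
  fun W hW => exists_isCompl_of_integral hl W hW (Submodule.exists_isCompl W)

/-- Invariant-section criterion. -/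
def InvSection (k : Type u) [Field k] (A : Type v) [CommRing A] [HopfAlgebra k A] : Prop :=
  ∀ (V : Type v) [AddCommGroup V] [Module k V] [HopfRep.Comod k A V], Module.Finite k V →
    ∀ π : V →ₗ[k] k, Function.Surjective π →
      LinearMap.rTensor A π ∘ₗ HopfRep.Comod.coact (k := k) (A := A) (V := V) =
        (TensorProduct.mk k k A).flip (1 : A) ∘ₗ π →
      ∃ v ∈ HopfRep.fixedPts k A V, π v ≠ 0

theorem eval_lcon {V : Type w} [AddCommGroup V] [Module k V] (g : A →ₗ[k] k) (φ : V →ₗ[k] k) (y : V ⊗[k] A) :
    g (lcon φ y) = φ (rcon g y) := by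
  induction y with
  | zero => simp
  | add x y hx hy => simp only [map_add, hx, hy]
  | tmul a b => simp [mul_comm]

theorem invSection_of_linRed (hA : HopfRep.IsLinearlyReductive k A) : InvSection k A := by
  intro V _ _ _ hfin π hπ hcomm
  have hsemi := hA V hfin
  have hker : HopfRep.IsSubcomod (k := k) (A := A) (LinearMap.ker π) := isSubcomod_iff.mpr fun f v hv => by
    rw [LinearMap.mem_ker] at hv ⊢
    have h1 := LinearMap.congr_fun hcomm v
    simp only [LinearMap.comp_apply, hv, map_zero] at h1
    rw [smul_def, dact, LinearMap.comp_apply, ← rcon_rTensor, h1, map_zero]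
  obtain ⟨W', hW', hc⟩ := hsemi _ hker
  obtain ⟨x, hx⟩ := hπ 1
  obtain ⟨a, ha, b, hb, rfl⟩ := Submodule.mem_sup.mp (hc.sup_eq_top ▸ Submodule.mem_top : x ∈ _ ⊔ W')
  have hb1 : π b = 1 := by rw [map_add, LinearMap.mem_ker.mp ha, zero_add] at hx; exact hx
  refine ⟨b, ext_rcon fun f => ?_, by rw [hb1]; exact one_ne_zero⟩
  rw [rcon_tmul]
  have h1 := LinearMap.congr_fun hcomm b
  simp only [LinearMap.comp_apply, hb1, LinearMap.flip_apply, TensorProduct.mk_apply] at h1
  have hmem : rcon f (HopfRep.Comod.coact (k := k) (A := A) b) - f 1 • b ∈ LinearMap.ker π ⊓ W' := by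
    refine ⟨?_, sub_mem (isSubcomod_iff.mp hW' (toConv f) b hb) (Submodule.smul_mem _ _ hb)⟩
    rw [SetLike.mem_coe, LinearMap.mem_ker, map_sub, ← rcon_rTensor, h1, rcon_tmul, map_smul, hb1, sub_self]
  rw [hc.inf_eq_bot, Submodule.mem_bot, sub_eq_zero] at hmem
  exact hmem

section Dual

variable {V : Type v} [AddCommGroup V] [Module k V] [HopfRep.Comod k A V] [Module.Finite k V]

/-- The contragredient coaction. -/
def dualCoact : (V →ₗ[k] k) →ₗ[k] (V →ₗ[k] k) ⊗[k] A :=
  ∑ i, (TensorProduct.mk k (V →ₗ[k] k) A ((Module.Free.chooseBasis k V).coord i)) ∘ₗ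
    HopfAlgebra.antipode k ∘ₗ
      { toFun := fun φ => lcon φ (HopfRep.Comod.coact (k := k) (A := A) (V := V) (Module.Free.chooseBasis k V i))
        map_add' := fun φ ψ => by
          generalize HopfRep.Comod.coact (k := k) (A := A) (V := V) (Module.Free.chooseBasis k V i) = y
          induction y with
          | zero => simp
          | add x y hx hy => simp only [map_add, hx, hy]; abel
          | tmul a b => simp [add_smul]
        map_smul' := fun c φ => by
          generalize HopfRep.Comod.coact (k := k) (A := A) (V := V) (Module.Free.chooseBasis k V i) = y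
          induction y with
          | zero => simp
          | add x y hx hy => simp only [map_add, smul_add, hx, hy]
          | tmul a b => simp [smul_smul] }

theorem rcon_dualCoact (f : A →ₗ[k] k) (φ : V →ₗ[k] k) :
    rcon f (dualCoact (A := A) φ) = φ ∘ₗ dact (f ∘ₗ HopfAlgebra.antipode k) := by
  refine (Module.Free.chooseBasis k V).ext fun j => ?_
  simp only [dualCoact, LinearMap.sum_apply, LinearMap.comp_apply, map_sum, TensorProduct.mk_apply, rcon_tmul,
    LinearMap.smul_apply, Module.Basis.coord_apply, Module.Basis.repr_self, smul_eq_mul]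
  rw [Finset.sum_eq_single j (fun i _ hi => by simp [hi.symm]) (fun h => absurd (Finset.mem_univ j) h)]
  simp only [Finsupp.single_eq_same, mul_one, LinearMap.coe_mk, AddHom.coe_mk, dact, LinearMap.comp_apply]
  exact eval_lcon (f ∘ₗ HopfAlgebra.antipode k) φ _

theorem dual_comp_antipode_mul (f g : A →ₗ[k] k) :
    (toConv f * toConv g).ofConv ∘ₗ HopfAlgebra.antipode k =
      (toConv (g ∘ₗ HopfAlgebra.antipode k) * toConv (f ∘ₗ HopfAlgebra.antipode k)).ofConv := by
  refine LinearMap.ext fun a => ?_
  show LinearMap.mul' k k (TensorProduct.map f g (Coalgebra.comul (R := k) (HopfAlgebra.antipode k a))) =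
    LinearMap.mul' k k (TensorProduct.map (g ∘ₗ HopfAlgebra.antipode k) (f ∘ₗ HopfAlgebra.antipode k)
      (Coalgebra.comul (R := k) a))
  rw [comul_antipode]
  induction Coalgebra.comul (R := k) a with
  | zero => simp
  | add x y hx hy => simp only [map_add, hx, hy]
  | tmul a b => simp [mul_comm]

variable (k A V) in
/-- The contragredient comodule. -/
@[reducible] def dualComod : HopfRep.Comod k A (V →ₗ[k] k) where
  coact := dualCoact
  coassoc := by
    refine LinearMap.ext fun φ => (TensorProduct.assoc k _ A A).symm.injective ?_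
    simp only [LinearMap.comp_apply, LinearEquiv.coe_coe, LinearEquiv.symm_apply_apply]
    refine ext_rcon fun g => ext_rcon fun f => ?_
    have e : ∀ y : (V →ₗ[k] k) ⊗[k] A, rcon f (rcon g ((TensorProduct.assoc k (V →ₗ[k] k) A A).symm
        (Coalgebra.comul.lTensor _ y))) = rcon (toConv f * toConv g).ofConv y := by
      intro y
      induction y with
      | zero => simp
      | add x y hx hy => simp only [map_add, hx, hy]
      | tmul a b =>
        rw [LinearMap.lTensor_tmul, rcon_tmul]
        change _ = LinearMap.mul' k k (TensorProduct.map f g (Coalgebra.comul (R := k) b)) • a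
        induction Coalgebra.comul (R := k) b with
        | zero => simp
        | add x y hx hy => simp only [TensorProduct.tmul_add, map_add, hx, hy, add_smul]
        | tmul x y => simp [smul_smul, mul_comm]
    rw [rcon_rTensor, e, rcon_dualCoact, rcon_dualCoact, rcon_dualCoact, dual_comp_antipode_mul]
    refine LinearMap.ext fun v => ?_
    simp only [LinearMap.comp_apply]
    rw [dact_mul]
  counit_comp := by
    refine LinearMap.ext fun φ => (TensorProduct.rid k _).injective ?_
    simp only [LinearMap.comp_apply, LinearMap.flip_apply, TensorProduct.mk_apply, TensorProduct.rid_tmul, one_smul]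
    change rcon Coalgebra.counit (dualCoact (A := A) φ) = φ
    rw [rcon_dualCoact, HopfAlgebra.counit_comp_antipode]
    refine LinearMap.ext fun v => congrArg φ ?_
    rw [← show (1 : WithConv (A →ₗ[k] k)).ofConv = Coalgebra.counit from
      LinearMap.ext fun c => by simp [LinearMap.convOne_def]]
    exact dact_one v

end Dual

/-- Transport a comodule structure along a linear equivalence. -/
@[reducible] def comodOfEquiv {W : Type*} [AddCommGroup W] [Module k W] {U : Type*} [AddCommGroup U]
    [Module k U] (c : HopfRep.Comod k A U) (e : U ≃ₗ[k] W) : HopfRep.Comod k A W where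
  coact := e.toLinearMap.rTensor A ∘ₗ c.coact ∘ₗ e.symm.toLinearMap
  coassoc := by
    refine LinearMap.ext fun w => ?_
    have hc := LinearMap.congr_fun c.coassoc (e.symm w)
    simp only [LinearMap.comp_apply, LinearEquiv.coe_coe] at hc ⊢
    have e1 : ∀ y : U ⊗[k] A, (e.toLinearMap.rTensor A ∘ₗ c.coact ∘ₗ e.symm.toLinearMap).rTensor A
        (e.toLinearMap.rTensor A y) = (e.toLinearMap.rTensor A).rTensor A (c.coact.rTensor A y) := by
      intro y
      induction y with
      | zero => simp
      | add x y hx hy => simp only [map_add, hx, hy]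
      | tmul a b => simp
    have e2 : ∀ y : (U ⊗[k] A) ⊗[k] A, TensorProduct.assoc k W A A ((e.toLinearMap.rTensor A).rTensor A y) =
        e.toLinearMap.rTensor (A ⊗[k] A) (TensorProduct.assoc k U A A y) := by
      intro y
      induction y with
      | zero => simp
      | add x y hx hy => simp only [map_add, hx, hy]
      | tmul a b =>
        induction a with
        | zero => simp
        | add x y hx hy => simp only [TensorProduct.add_tmul, map_add, hx, hy]
        | tmul x y => simp
    rw [e1, e2, hc, ← LinearMap.comp_apply, LinearMap.rTensor_comp_lTensor]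
    conv_rhs => rw [← LinearMap.comp_apply, LinearMap.lTensor_comp_rTensor]
  counit_comp := by
    refine LinearMap.ext fun w => ?_
    have hc := LinearMap.congr_fun c.counit_comp (e.symm w)
    simp only [LinearMap.comp_apply, LinearEquiv.coe_coe] at hc ⊢
    rw [← LinearMap.comp_apply, LinearMap.lTensor_comp_rTensor, ← LinearMap.rTensor_comp_lTensor,
      LinearMap.comp_apply, hc]
    simp

theorem exists_fixed_dual (hcrit : InvSection k A) {V : Type v} [AddCommGroup V] [Module k V]
    [cV : HopfRep.Comod k A V] [Module.Finite k V] (x : V)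
    (hone : ∀ h : A →ₗ[k] k, dact h x = h 1 • x) (hx : x ≠ 0) :
    ∃ φ : V →ₗ[k] k, dualCoact (A := A) φ = φ ⊗ₜ[k] (1 : A) ∧ φ x ≠ 0 := by
  let e : (V →ₗ[k] k) ≃ₗ[k] V := (Module.Free.chooseBasis k V).toDualEquiv.symm
  let π : V →ₗ[k] k := LinearMap.applyₗ x ∘ₗ e.symm.toLinearMap
  have hd : ∀ φ, (comodOfEquiv (dualComod k A V) e).coact (e φ) = e.toLinearMap.rTensor A (dualCoact (A := A) φ) := fun φ => by
    show e.toLinearMap.rTensor A (dualCoact (A := A) (e.symm (e φ))) = _
    rw [LinearEquiv.symm_apply_apply]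
  have hπe : ∀ φ, π (e φ) = φ x := fun φ => by simp [π]
  have hπ : Function.Surjective π := by
    obtain ⟨ψ, hψ⟩ := Module.Projective.exists_dual_ne_zero k hx
    exact fun c => ⟨e ((c * (ψ x)⁻¹) • ψ), by simp [hπe, inv_mul_cancel_right₀ hψ]⟩
  obtain ⟨w, hw, hw1⟩ := @hcrit V _ _ (comodOfEquiv (dualComod k A V) e) inferInstance π hπ (by
    refine LinearMap.ext fun y => ext_rcon fun f => ?_
    obtain ⟨φ, rfl⟩ := e.surjective y
    simp only [LinearMap.comp_apply, rcon_rTensor, LinearMap.flip_apply, TensorProduct.mk_apply, rcon_tmul, hπe]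
    rw [hd, rcon_rTensor, LinearEquiv.coe_coe, hπe, rcon_dualCoact]
    simp [hone, HopfAlgebra.antipode_one])
  obtain ⟨φ, rfl⟩ := e.surjective w
  refine ⟨φ, ?_, by rwa [hπe] at hw1⟩
  have h : e.toLinearMap.rTensor A (dualCoact (A := A) φ) = e φ ⊗ₜ[k] (1 : A) := (hd φ).symm.trans hw
  have h' := congrArg (e.symm.toLinearMap.rTensor A) h
  rwa [← LinearMap.rTensor_comp_apply, LinearMap.rTensor_tmul, LinearEquiv.coe_coe, LinearEquiv.symm_apply_apply,
    show e.symm.toLinearMap ∘ₗ e.toLinearMap = LinearMap.id from LinearMap.ext fun z => by simp,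
    LinearMap.rTensor_id_apply] at h'

/-- `l` is invariant and normalised on `N`. -/
def InvOn (l : A →ₗ[k] k) (N : Submodule k A) : Prop :=
  l 1 = 1 ∧ ∀ a ∈ N, lcon l (Coalgebra.comul (R := k) a) = l a • (1 : A)

theorem exists_invOn (hcrit : InvSection k A) (N : Submodule k A)
    (hN : HopfRep.IsSubcomod (k := k) (A := A) N) [Module.Finite k N] (h1 : (1 : A) ∈ N) :
    ∃ l : A →ₗ[k] k, InvOn l N := by
  letI := subComod N hN
  haveI : Nontrivial A := ⟨⟨1, 0, fun h => one_ne_zero (α := k)
    (by rw [← Bialgebra.counit_one (R := k) (A := A), h, map_zero])⟩⟩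
  letI := dualComod k A N
  let π : (N →ₗ[k] k) →ₗ[k] k := LinearMap.applyₗ (⟨1, h1⟩ : N)
  have hone : ∀ h : A →ₗ[k] k, dact h (⟨1, h1⟩ : N) = h 1 • (⟨1, h1⟩ : N) := by
    intro h
    refine Subtype.ext ?_
    have := isComodHom_iff.mp (isComodHom_subtype N hN) (toConv h) (⟨1, h1⟩ : N)
    refine this.trans ?_
    rw [smul_def, dact, LinearMap.comp_apply, coact_regular]
    simp [Bialgebra.comul_one, Algebra.TensorProduct.one_def]
  obtain ⟨φ, hφ, hφ1⟩ := exists_fixed_dual hcrit (V := N) (⟨1, h1⟩ : N) hone
    (fun h => one_ne_zero (α := A) (congrArg Subtype.val h))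
  have hφ' : π φ ≠ 0 := hφ1
  obtain ⟨l, hl⟩ := LinearMap.exists_extend ((π φ)⁻¹ • φ)
  have hlx : ∀ x : N, l x = (π φ)⁻¹ * φ x := fun x => LinearMap.congr_fun hl x
  refine ⟨l, ?_, fun a ha => ?_⟩
  · exact (hlx ⟨1, h1⟩).trans (inv_mul_cancel₀ hφ')
  · rw [show Coalgebra.comul (R := k) a = N.subtype.rTensor A (HopfRep.Comod.coact (k := k) (A := A) (⟨a, ha⟩ : N))
      from (rTensor_subCoact N hN ⟨a, ha⟩).symm, lcon_rTensor]
    refine (Module.Free.chooseBasis k A).repr.injective (Finsupp.ext fun i => ?_)
    set g := (Module.Free.chooseBasis k A).coord i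
    show g _ = g _
    rw [eval_lcon, map_smul]
    have h2 := LinearMap.congr_fun (congrArg (rcon (g ∘ₗ HopfAlgebra.antipode k)) hφ) (⟨a, ha⟩ : N)
    rw [rcon_dualCoact, rcon_tmul] at h2
    have hS : (g ∘ₗ HopfAlgebra.antipode k) ∘ₗ HopfAlgebra.antipode k = g :=
      LinearMap.ext fun x => by simp [antipode_antipode]
    rw [hS] at h2
    simp only [LinearMap.comp_apply, LinearMap.smul_apply, smul_eq_mul, HopfAlgebra.antipode_one] at h2
    show l (N.subtype _) = _
    rw [Submodule.subtype_apply, hlx]
    show (π φ)⁻¹ * φ (dact g (⟨a, ha⟩ : N)) = _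
    rw [h2, hlx ⟨a, ha⟩, smul_eq_mul]
    ring

theorem invOn_unique (hcrit : InvSection k A) (N : Submodule k A)
    (hN : HopfRep.IsSubcomod (k := k) (A := A) N) [Module.Finite k N] {l l' : A →ₗ[k] k}
    (hl : InvOn l N) (hl' : InvOn l' N) : ∀ a ∈ N, l a = l' a := by
  by_contra! hne
  obtain ⟨a, ha, hne⟩ := hne
  letI := subComod N hN
  let π : N →ₗ[k] k := (l - l') ∘ₗ N.subtype
  have hπ : Function.Surjective π := fun c => ⟨(c * (l a - l' a)⁻¹) • ⟨a, ha⟩, by
    simp [π, mul_assoc, inv_mul_cancel₀ (sub_ne_zero.mpr hne), ← mul_sub]⟩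
  obtain ⟨v, hv, hv1⟩ := hcrit N inferInstance π hπ (by
    refine LinearMap.ext fun x => (TensorProduct.lid k A).injective ?_
    simp only [LinearMap.comp_apply, LinearMap.flip_apply, TensorProduct.mk_apply, TensorProduct.lid_tmul]
    show lcon π _ = _
    rw [← lcon_rTensor (l - l') N.subtype]
    rw [show N.subtype.rTensor A (HopfRep.Comod.coact (k := k) (A := A) x) = Coalgebra.comul (R := k) (x : A)
      from rTensor_subCoact N hN x]
    have e : lcon (l - l') (Coalgebra.comul (R := k) (x : A)) =
        lcon l (Coalgebra.comul (R := k) (x : A)) - lcon l' (Coalgebra.comul (R := k) (x : A)) := by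
      simp [lcon, LinearMap.rTensor_sub]
    rw [e, hl.2 x x.2, hl'.2 x x.2, ← sub_smul]
    rfl)
  refine hv1 ?_
  have h1 : Coalgebra.comul (R := k) (v : A) = (v : A) ⊗ₜ[k] (1 : A) := by
    rw [show Coalgebra.comul (R := k) (v : A) = N.subtype.rTensor A (subCoact N hN v) from
      (rTensor_subCoact N hN v).symm]
    show N.subtype.rTensor A (HopfRep.Comod.coact (k := k) (A := A) v) = _
    rw [hv]
    simp
  have h2 := lcon_counit_comul (k := k) (v : A)
  rw [h1, lcon_tmul] at h2
  show (l - l') (v : A) = 0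
  rw [← h2, map_smul, LinearMap.sub_apply, hl.1, hl'.1, sub_self, smul_zero]

theorem exists_integral_of_invSection (hcrit : InvSection k A) : ∃ l : A →ₗ[k] k, IsIntegral' l := by
  let P : Finset A → Submodule (WithConv (A →ₗ[k] k)) A := fun s =>
    Submodule.span _ (insert (1 : A) (s : Set A))
  let N : Finset A → Submodule k A := fun s => (P s).restrictScalars k
  have hsub : ∀ s, HopfRep.IsSubcomod (k := k) (A := A) (N s) := fun s => isSubcomod_restrictScalars _
  haveI : ∀ s, Module.Finite k (N s) := fun s => finite_span_of_finite (s.finite_toSet.insert _)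
  have h1 : ∀ s, (1 : A) ∈ N s := fun s => Submodule.subset_span (Set.mem_insert _ _)
  choose L hL using fun s => exists_invOn hcrit (N s) (hsub s) (h1 s)
  have hmono : ∀ {s t : Finset A}, s ⊆ t → N s ≤ N t := fun h =>
    Submodule.span_mono (Set.insert_subset_insert (Finset.coe_subset.mpr h))
  have hagree : ∀ {s t : Finset A}, s ⊆ t → ∀ a ∈ N s, L t a = L s a := fun {s t} h =>
    invOn_unique hcrit (N s) (hsub s) ⟨(hL t).1, fun a ha => (hL t).2 a (hmono h ha)⟩ (hL s)
  have hmem : ∀ a : A, a ∈ N {a} := fun a => Submodule.subset_span (by simp)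
  have hany : ∀ (s : Finset A) (a : A), a ∈ N s → L {a} a = L s a := by
    classical
    intro s a ha
    rw [← hagree (Finset.subset_union_left (s₂ := s)) a (hmem a), hagree Finset.subset_union_right a ha]
  let l : A →ₗ[k] k :=
    { toFun := fun a => L {a} a
      map_add' := fun a b => by
        classical
        have ha : a ∈ N ({a} ∪ {b}) := hmono Finset.subset_union_left (hmem a)
        have hb : b ∈ N ({a} ∪ {b}) := hmono Finset.subset_union_right (hmem b)
        rw [hany _ _ (add_mem ha hb), hany _ _ ha, hany _ _ hb, map_add]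
      map_smul' := fun c a => by
        rw [hany _ _ (Submodule.smul_mem _ c (hmem a)), map_smul, RingHom.id_apply] }
  refine ⟨l, fun a => ?_, (hL {1}).1⟩
  obtain ⟨y, hy⟩ := hsub {a} a (hmem a)
  have e : l ∘ₗ (N {a}).subtype = L {a} ∘ₗ (N {a}).subtype := LinearMap.ext fun x => hany _ _ x.2
  have := (hL {a}).2 a (hmem a)
  rw [show Coalgebra.comul (R := k) a = (N {a}).subtype.rTensor A y from hy.symm] at this ⊢
  rw [lcon_rTensor, e, ← lcon_rTensor, this]
  rfl

theorem linRed_of_invSection (hcrit : InvSection k A) : HopfRep.IsLinearlyReductive k A := by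
  obtain ⟨l, hl⟩ := exists_integral_of_invSection hcrit
  exact fun V _ _ _ _ => isSemisimple_of_integral hl V

theorem invSection_of_h1 (h : ∀ (V : Type v) [AddCommGroup V] [Module k V] [HopfRep.Comod k A V],
    Module.Finite k V → Hoch.cocycles k A V 1 ≤ Hoch.coboundaries k A V 1) : InvSection k A := by
  intro V _ _ _ hfin π hπ hcomm
  obtain ⟨v, hv⟩ := hπ 1
  have hker : HopfRep.IsSubcomod (k := k) (A := A) (LinearMap.ker π) := isSubcomod_iff.mpr fun f x hx => by
    rw [LinearMap.mem_ker] at hx ⊢
    have h1 := LinearMap.congr_fun hcomm x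
    simp only [LinearMap.comp_apply, hx, map_zero] at h1
    rw [smul_def, dact, LinearMap.comp_apply, ← rcon_rTensor, h1, map_zero]
  letI := subComod (LinearMap.ker π) hker
  obtain ⟨z, hz⟩ : HopfRep.Comod.coact (k := k) (A := A) v - v ⊗ₜ[k] (1 : A) ∈
      LinearMap.range ((LinearMap.ker π).subtype.rTensor A) := by
    refine mem_range_rTensor_iff.mpr fun f => ?_
    rw [LinearMap.mem_ker, map_sub, map_sub, ← rcon_rTensor, rcon_tmul,
      show π.rTensor A (HopfRep.Comod.coact (k := k) (A := A) v) = π v ⊗ₜ[k] (1 : A) from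
        LinearMap.congr_fun hcomm v, rcon_tmul, map_smul, sub_self]
  have hhom := isComodHom_subtype (LinearMap.ker π) hker
  have hcyc : z ∈ Hoch.cocycles k A (LinearMap.ker π) 1 := by
    refine Module.Flat.rTensor_preserves_injective_linearMap (M := A) _
      (Module.Flat.rTensor_preserves_injective_linearMap (M := A) _ (Submodule.injective_subtype (LinearMap.ker π))) ?_
    rw [map_zero, ← d_one_natural (LinearMap.ker π).subtype hhom z, hz]
    exact d_one_d_zero v
  obtain ⟨u, hu⟩ := h _ inferInstance hcyc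
  refine ⟨v - (u : V), ?_, by simp [hv, LinearMap.mem_ker.mp u.2]⟩
  show HopfRep.Comod.coact (k := k) (A := A) (v - (u : V)) = (v - (u : V)) ⊗ₜ[k] (1 : A)
  have h2 : HopfRep.Comod.coact (k := k) (A := A) (u : V) - (u : V) ⊗ₜ[k] (1 : A) =
      HopfRep.Comod.coact (k := k) (A := A) v - v ⊗ₜ[k] (1 : A) := by
    rw [← hz, ← hu, Hoch.d_zero_apply, map_sub, LinearMap.rTensor_tmul]
    exact congrArg (· - _) (rTensor_subCoact (LinearMap.ker π) hker u).symm
  rw [map_sub, TensorProduct.sub_tmul]
  linear_combination (norm := module) (-1 : k) • h2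

theorem linRed_iff_invSection : HopfRep.IsLinearlyReductive k A ↔ InvSection k A :=
  ⟨invSection_of_linRed, linRed_of_invSection⟩

end Hopf

end Groth.Agent.Comodule
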