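import Mathlib
import Groth.Agent.Comodule.Sub
import Groth.Agent.Comodule.SubStruct
import Groth.Agent.Comodule.Reductive

/-!
# Matrix coefficients of pairwise non-isomorphic simple comodules; cocommutative elements
-/

set_option autoImplicit false
universe u v w

open TensorProduct WithConv

namespace Groth.Agent.Comodule

variable {k : Type u} [Field k] [IsAlgClosed k] {C : Type v} [AddCommGroup C] [Module k C] [Coalgebra k C]

local notation "𝔇" => WithConv (C →ₗ[k] k)

omit [IsAlgClosed k] in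
theorem apply_lcon {V : Type w} [AddCommGroup V] [Module k V] [HopfRep.Comod k C V]
    (g : 𝔇) (φ : V →ₗ[k] k) (v : V) :
    g.ofConv (lcon φ (HopfRep.Comod.coact (k := k) (A := C) v)) = φ (g • v) := by
  rw [smul_def, dact, LinearMap.comp_apply]
  generalize HopfRep.Comod.coact (k := k) (A := C) v = y
  induction y with
  | zero => simp
  | tmul a c => simp [lcon, rcon, mul_comm]
  | add y z hy hz => simp only [map_add, hy, hz]

theorem exists_eq_smul_of_isSimpleModule {V : Type w} [AddCommGroup V] [Module k V] [HopfRep.Comod k C V]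
    [IsSimpleModule 𝔇 V] (α : V →ₗ[𝔇] V) : ∃ a : k, ∀ x, α x = a • x := by
  haveI : Module.Finite k V := finite_of_isSimple (C := C)
  haveI : Nontrivial V := IsSimpleModule.nontrivial 𝔇 V
  obtain ⟨a, ha⟩ := Module.End.exists_eigenvalue (α.restrictScalars k : Module.End k V)
  obtain ⟨x, hx⟩ := ha.exists_hasEigenvector
  let K : Submodule 𝔇 V :=
    { carrier := {x | α x = a • x}
      add_mem' := fun {p q} hp hq => by
        simp only [Set.mem_ofPred_eq] at hp hq ⊢
        rw [map_add, hp, hq, smul_add]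
      zero_mem' := by simp
      smul_mem' := fun r p hp => by
        simp only [Set.mem_ofPred_eq] at hp ⊢
        rw [map_smul, hp, smul_comm] }
  have hxK : x ∈ K := hx.apply_eq_smul
  rcases IsSimpleOrder.eq_bot_or_eq_top K with h | h
  · rw [h, Submodule.mem_bot] at hxK
    exact absurd hxK hx.2
  · exact ⟨a, fun y => by
      have : y ∈ K := by rw [h]; exact Submodule.mem_top
      exact this⟩

/-- Functionals realise arbitrary block endomorphisms of pairwise non-isomorphic simple comodules. -/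
theorem exists_functional {ι : Type} [Fintype ι] [DecidableEq ι] (V : ι → Type w) [∀ i, AddCommGroup (V i)]
    [∀ i, Module k (V i)] [∀ i, HopfRep.Comod k C (V i)] (hs : ∀ i, HopfRep.IsSimpleComod k C (V i))
    (hne : ∀ i j, i ≠ j → ∀ P : V i ≃ₗ[k] V j, ¬ Hoch.IsComodHom C (P : V i →ₗ[k] V j))
    (T : ∀ i, V i →ₗ[k] V i) : ∃ φ : 𝔇, ∀ (i : ι) (v : V i), φ • v = T i v := by
  classical
  haveI : ∀ i, IsSimpleModule 𝔇 (V i) := fun i => isSimpleComod_iff.mp (hs i)
  haveI : ∀ i, Module.Finite k (V i) := fun i => finite_of_isSimple (C := C)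
  have hdiag : ∀ α : Module.End 𝔇 (∀ i, V i), ∀ i, ∃ a : k, ∀ x, α x i = a • x i := by
    intro α i
    obtain ⟨a, ha⟩ := exists_eq_smul_of_isSimpleModule
      ((LinearMap.proj i).comp (α.comp (LinearMap.single 𝔇 V i)))
    refine ⟨a, fun x => ?_⟩
    have hx : x = ∑ j, Pi.single j (x j) := (Finset.univ_sum_single x).symm
    conv_lhs => rw [hx, map_sum, Finset.sum_apply]
    rw [Finset.sum_eq_single i]
    · exact ha (x i)
    · intro j _ hj
      rcases LinearMap.bijective_or_eq_zero ((LinearMap.proj i).comp (α.comp (LinearMap.single 𝔇 V j))) with hb | h0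
      · exact absurd (isComodHom_restrictScalars_equiv (C := C) (LinearEquiv.ofBijective _ hb)) (hne j i hj _)
      · exact LinearMap.congr_fun h0 (x j)
    · simp
  let F : Module.End (Module.End 𝔇 (∀ i, V i)) (∀ i, V i) :=
    { toFun := fun x i => T i (x i)
      map_add' := fun x y => funext fun i => map_add (T i) _ _
      map_smul' := fun α x => funext fun i => by
        obtain ⟨a, ha⟩ := hdiag α i
        simp only [Module.End.smul_def, RingHom.id_apply, ha, map_smul] }
  let b := fun i => Module.finBasis k (V i)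
  obtain ⟨r, hr⟩ := jacobson_density F
    (Finset.univ.image fun q : Σ i, Fin (Module.finrank k (V i)) => (Pi.single q.1 (b q.1 q.2) : ∀ i, V i))
  refine ⟨r, fun i v => ?_⟩
  suffices H : dact r.ofConv = T i from LinearMap.congr_fun H v
  refine (b i).ext fun t => ?_
  have := congrFun (hr (Pi.single i (b i t))
    (Finset.mem_image.2 ⟨⟨i, t⟩, Finset.mem_univ _, rfl⟩)) i
  simp only [F, LinearMap.coe_mk, AddHom.coe_mk, Pi.smul_apply, Pi.single_eq_same] at this
  exact this.symm

section Coord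

/-- matrix coefficient -/
noncomputable def cf {d : ℕ} (c : HopfRep.Comod k C (Fin d → k)) (a b : Fin d) : C :=
  lcon (LinearMap.proj a) (c.coact (Pi.single b 1))

omit [IsAlgClosed k] in
theorem apply_cf {d : ℕ} (c : HopfRep.Comod k C (Fin d → k)) (g : 𝔇) (a b : Fin d) :
    g.ofConv (cf c a b) = @dact k _ C _ _ _ (Fin d → k) _ _ c g.ofConv (Pi.single b 1) a := by
  letI := c
  have h := apply_lcon (C := C) (V := Fin d → k) g (LinearMap.proj a) (Pi.single b 1)
  rw [smul_def, LinearMap.proj_apply] at h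
  exact h

omit [IsAlgClosed k] in
theorem conv_cf {d : ℕ} (c : HopfRep.Comod k C (Fin d → k)) (g h : 𝔇) (a b : Fin d) :
    (g * h).ofConv (cf c a b) = ∑ l, g.ofConv (cf c a l) * h.ofConv (cf c l b) := by
  letI := c
  simp only [apply_cf]
  rw [show dact (C := C) (g * h).ofConv (Pi.single b 1 : Fin d → k) =
      dact (C := C) g.ofConv (dact (C := C) h.ofConv (Pi.single b 1)) from dact_mul g.ofConv h.ofConv _]
  generalize dact (C := C) h.ofConv (Pi.single b 1 : Fin d → k) = w
  have hsum : w = ∑ l, w l • (Pi.single l 1 : Fin d → k) := by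
    funext i
    simp [Finset.sum_apply, Pi.single_apply]
  conv_lhs => rw [hsum, map_sum, Finset.sum_apply]
  refine Finset.sum_congr rfl fun l _ => ?_
  rw [map_smul, Pi.smul_apply, smul_eq_mul, mul_comm]

omit [IsAlgClosed k] in
theorem lcon_mem_span_cf {d : ℕ} (c : HopfRep.Comod k C (Fin d → k)) (φ : (Fin d → k) →ₗ[k] k) (v : Fin d → k) :
    lcon φ (c.coact v) ∈ Submodule.span k (Set.range fun q : Fin d × Fin d => cf c q.1 q.2) := by
  have h : lcon φ (c.coact v) = ∑ q : Fin d × Fin d, (φ (Pi.single q.1 1) * v q.2) • cf c q.1 q.2 := by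
    letI := c
    rw [← sub_eq_zero, ← Module.forall_dual_apply_eq_zero_iff k]
    intro g
    rw [map_sub, sub_eq_zero, map_sum]
    refine (apply_lcon (toConv g) φ v).trans ?_
    have hv : v = ∑ l, v l • (Pi.single l 1 : Fin d → k) := by
      funext i
      simp [Finset.sum_apply, Pi.single_apply]
    have hφ : ∀ w : Fin d → k, φ w = ∑ a, w a * φ (Pi.single a 1) := by
      intro w
      conv_lhs => rw [show w = ∑ l, w l • (Pi.single l 1 : Fin d → k) from by
        funext i; simp [Finset.sum_apply, Pi.single_apply]]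
      simp [map_sum, map_smul]
    simp only [map_smul, smul_eq_mul]
    rw [Fintype.sum_prod_type, hφ]
    refine Finset.sum_congr rfl fun a _ => ?_
    have e : ∀ l, g (cf c a l) = dact (C := C) g (Pi.single l 1 : Fin d → k) a := fun l => apply_cf c (toConv g) a l
    simp only [e]
    conv_lhs => rw [smul_def, hv, map_sum, Finset.sum_apply, Finset.sum_mul]
    refine Finset.sum_congr rfl fun l _ => ?_
    rw [map_smul, Pi.smul_apply, smul_eq_mul]
    ring
  rw [h]
  exact Submodule.sum_mem _ fun q _ => Submodule.smul_mem _ _ (Submodule.subset_span ⟨q, rfl⟩)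

variable {n : ℕ} {d : Fin n → ℕ} (c : (i : Fin n) → HopfRep.Comod k C (Fin (d i) → k))

/-- Elementary functional. -/
theorem exists_elem (hs : ∀ i, @HopfRep.IsSimpleComod k C _ _ _ _ (Fin (d i) → k) _ _ (c i))
    (hne : ∀ i j, i ≠ j → ∀ P : (Fin (d i) → k) ≃ₗ[k] (Fin (d j) → k),
      ¬ @Hoch.IsComodHom k _ C _ _ _ (Fin (d i) → k) _ _ (c i) (Fin (d j) → k) _ _ (c j) P.toLinearMap)
    (i : Fin n) (x y : Fin (d i)) :
    ∃ φ : 𝔇, φ.ofConv (cf (c i) x y) = 1 ∧
      ∀ j (a b : Fin (d j)), (⟨j, a, b⟩ : Σ j, Fin (d j) × Fin (d j)) ≠ ⟨i, x, y⟩ → φ.ofConv (cf (c j) a b) = 0 := by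
  classical
  letI := c
  let T : ∀ j, (Fin (d j) → k) →ₗ[k] (Fin (d j) → k) := Function.update (fun _ => 0) i
    ((LinearMap.proj y).smulRight (Pi.single x 1))
  obtain ⟨φ, hφ⟩ := exists_functional (C := C) (fun j => Fin (d j) → k) hs hne T
  refine ⟨φ, ?_, ?_⟩
  · rw [apply_cf, ← smul_def, hφ]; simp [T]
  · intro j a b hne'
    rw [apply_cf, ← smul_def, hφ]
    by_cases hj : j = i
    · subst hj
      simp only [T, Function.update_self, LinearMap.smulRight_apply, LinearMap.proj_apply, Pi.smul_apply,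
        Pi.single_apply, smul_eq_mul]
      split_ifs <;> simp_all
    · simp [T, hj]

theorem apply_comb {φ : 𝔇} (M : (Σ j, Fin (d j) × Fin (d j)) → k) (q₀ : Σ j, Fin (d j) × Fin (d j))
    (h1 : φ.ofConv (cf (c q₀.1) q₀.2.1 q₀.2.2) = 1)
    (h0 : ∀ j (a b : Fin (d j)), (⟨j, a, b⟩ : Σ j, Fin (d j) × Fin (d j)) ≠ q₀ → φ.ofConv (cf (c j) a b) = 0) :
    φ.ofConv (∑ q, M q • cf (c q.1) q.2.1 q.2.2) = M q₀ := by
  classical
  rw [map_sum, Finset.sum_eq_single q₀]
  · rw [map_smul, h1, smul_eq_mul, mul_one]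
  · intro q _ hq
    rw [map_smul, h0 q.1 q.2.1 q.2.2 hq, smul_zero]
  · simp

/-- Matrix coefficients of pairwise non-isomorphic simple comodules are linearly independent. -/
theorem linearIndependent_cf (hs : ∀ i, @HopfRep.IsSimpleComod k C _ _ _ _ (Fin (d i) → k) _ _ (c i))
    (hne : ∀ i j, i ≠ j → ∀ P : (Fin (d i) → k) ≃ₗ[k] (Fin (d j) → k),
      ¬ @Hoch.IsComodHom k _ C _ _ _ (Fin (d i) → k) _ _ (c i) (Fin (d j) → k) _ _ (c j) P.toLinearMap) :
    LinearIndependent k (fun q : Σ j, Fin (d j) × Fin (d j) => cf (c q.1) q.2.1 q.2.2) := by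
  classical
  rw [Fintype.linearIndependent_iff]
  intro M hM q
  obtain ⟨φ, h1, h0⟩ := exists_elem c hs hne q.1 q.2.1 q.2.2
  have := apply_comb c M q h1 h0
  rw [hM, map_zero] at this
  exact this.symm

theorem linearIndependent_char (hs : ∀ i, @HopfRep.IsSimpleComod k C _ _ _ _ (Fin (d i) → k) _ _ (c i))
    (hne : ∀ i j, i ≠ j → ∀ P : (Fin (d i) → k) ≃ₗ[k] (Fin (d j) → k),
      ¬ @Hoch.IsComodHom k _ C _ _ _ (Fin (d i) → k) _ _ (c i) (Fin (d j) → k) _ _ (c j) P.toLinearMap) :
    LinearIndependent k (fun i : Fin n => ∑ t, cf (c i) t t) := by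
  classical
  rw [Fintype.linearIndependent_iff]
  intro g hg i
  haveI : Nontrivial (Fin (d i) → k) := (hs i).1
  have hd : 0 < d i := by
    rcases Nat.eq_zero_or_pos (d i) with h | h
    · exfalso
      haveI : IsEmpty (Fin (d i)) := ⟨fun z => by have := z.2; omega⟩
      exact not_subsingleton (Fin (d i) → k) inferInstance
    · exact h
  obtain ⟨φ, h1, h0⟩ := exists_elem c hs hne i ⟨0, hd⟩ ⟨0, hd⟩
  have h2 := congrArg φ.ofConv hg
  rw [map_zero, map_sum, Finset.sum_eq_single i] at h2
  · rw [map_smul, map_sum, Finset.sum_eq_single ⟨0, hd⟩, h1, smul_eq_mul, mul_one] at h2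
    · exact h2
    · intro t _ ht
      refine h0 i t t fun e => ht ?_
      simpa using congrArg (fun q : Fin (d i) × Fin (d i) => q.1) (eq_of_heq (Sigma.mk.inj e).2)
    · simp
  · intro j _ hj
    rw [map_smul, map_sum, Finset.sum_eq_zero fun t _ => h0 j t t fun e => hj (congrArg Sigma.fst e), smul_zero]
  · simp

/-- A cocommutative combination of the coefficients is a combination of characters. -/
theorem mem_span_char_of_cocomm (hs : ∀ i, @HopfRep.IsSimpleComod k C _ _ _ _ (Fin (d i) → k) _ _ (c i))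
    (hne : ∀ i j, i ≠ j → ∀ P : (Fin (d i) → k) ≃ₗ[k] (Fin (d j) → k),
      ¬ @Hoch.IsComodHom k _ C _ _ _ (Fin (d i) → k) _ _ (c i) (Fin (d j) → k) _ _ (c j) P.toLinearMap)
    {f : C} (hf : f ∈ Submodule.span k (Set.range fun q : Σ j, Fin (d j) × Fin (d j) => cf (c q.1) q.2.1 q.2.2))
    (hco : ∀ g h : 𝔇, (g * h).ofConv f = (h * g).ofConv f) :
    f ∈ Submodule.span k (Set.range fun i : Fin n => ∑ t, cf (c i) t t) := by
  classical
  obtain ⟨M, rfl⟩ := (Submodule.mem_span_range_iff_exists_fun k).1 hf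
  have key : ∀ i (x y z : Fin (d i)), M ⟨i, x, z⟩ = if z = x then M ⟨i, y, y⟩ else 0 := by
    intro i x y z
    obtain ⟨φ, hφ1, hφ0⟩ := exists_elem c hs hne i x y
    obtain ⟨ψ, hψ1, hψ0⟩ := exists_elem c hs hne i y z
    have e1 : (φ * ψ).ofConv (∑ q, M q • cf (c q.1) q.2.1 q.2.2) = M ⟨i, x, z⟩ := by
      refine apply_comb c M ⟨i, x, z⟩ ?_ ?_
      · rw [conv_cf, Finset.sum_eq_single y, hφ1, hψ1, one_mul]
        · intro l _ hl
          rw [hφ0 i x l (by simp [hl]), zero_mul]
        · simp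
      · intro j a b hq
        rw [conv_cf]
        refine Finset.sum_eq_zero fun l _ => ?_
        by_cases h : (⟨j, a, l⟩ : Σ j, Fin (d j) × Fin (d j)) = ⟨i, x, y⟩
        · obtain ⟨rfl, h⟩ := Sigma.mk.inj h
          obtain ⟨rfl, rfl⟩ := Prod.mk.inj (eq_of_heq h)
          rw [hψ0 j l b (fun e => hq (by simp at e; simp [e])), mul_zero]
        · rw [hφ0 j a l h, zero_mul]
    have e2 : (ψ * φ).ofConv (∑ q, M q • cf (c q.1) q.2.1 q.2.2) = if z = x then M ⟨i, y, y⟩ else 0 := by
      split_ifs with hzx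
      · subst hzx
        refine apply_comb c M ⟨i, y, y⟩ ?_ ?_
        · rw [conv_cf, Finset.sum_eq_single z, hφ1, hψ1, one_mul]
          · intro l _ hl
            rw [hψ0 i y l (by simp [hl]), zero_mul]
          · simp
        · intro j a b hq
          rw [conv_cf]
          refine Finset.sum_eq_zero fun l _ => ?_
          by_cases h : (⟨j, a, l⟩ : Σ j, Fin (d j) × Fin (d j)) = ⟨i, y, z⟩
          · obtain ⟨rfl, h⟩ := Sigma.mk.inj h
            obtain ⟨rfl, rfl⟩ := Prod.mk.inj (eq_of_heq h)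
            rw [hφ0 j l b (fun e => hq (by simp at e; simp [e])), mul_zero]
          · rw [hψ0 j a l h, zero_mul]
      · rw [map_sum]
        refine Finset.sum_eq_zero fun q _ => ?_
        obtain ⟨j, a, b⟩ := q
        rw [map_smul, conv_cf, Finset.sum_eq_zero fun l _ => ?_, smul_zero]
        by_cases h : (⟨j, a, l⟩ : Σ j, Fin (d j) × Fin (d j)) = ⟨i, y, z⟩
        · obtain ⟨rfl, h⟩ := Sigma.mk.inj h
          obtain ⟨rfl, rfl⟩ := Prod.mk.inj (eq_of_heq h)
          rw [hφ0 j l b (fun e => hzx (by simp at e; exact e.1)), mul_zero]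
        · rw [hψ0 j a l h, zero_mul]
    rw [← e1, hco, e2]
  rw [Fintype.sum_sigma]
  refine Submodule.sum_mem _ fun i _ => ?_
  rcases Nat.eq_zero_or_pos (d i) with h | h
  · haveI : IsEmpty (Fin (d i)) := ⟨fun z => by have := z.2; omega⟩
    simp
  · have e : ∑ q : Fin (d i) × Fin (d i), M ⟨i, q⟩ • cf (c i) q.1 q.2 =
        M ⟨i, ⟨0, h⟩, ⟨0, h⟩⟩ • ∑ t, cf (c i) t t := by
      rw [Fintype.sum_prod_type, Finset.smul_sum]
      refine Finset.sum_congr rfl fun x _ => ?_
      rw [Finset.sum_eq_single x]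
      · rw [key i x ⟨0, h⟩ x, if_pos rfl]
      · intro z _ hz; rw [key i x x z, if_neg hz, zero_smul]
      · simp
    rw [e]
    exact Submodule.smul_mem _ _ (Submodule.subset_span ⟨i, rfl⟩)

end Coord

section Exist

variable {A : Type v} [CommRing A] [HopfAlgebra k A]

local notation "𝔄" => WithConv (A →ₗ[k] k)

omit [IsAlgClosed k] in
/-- Every element of a coalgebra all of whose finite comodules are semisimple is a combination of coefficients of
finitely many pairwise non-isomorphic simple comodules. -/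
theorem exists_simple_cf {f : A}
    (hss : ∀ N : Submodule 𝔄 A, Module.Finite k (N.restrictScalars k) → IsSemisimpleModule 𝔄 N) :
    ∃ (n : ℕ) (d : Fin n → ℕ) (c : (i : Fin n) → HopfRep.Comod k A (Fin (d i) → k)),
      (∀ i, @HopfRep.IsSimpleComod k A _ _ _ _ (Fin (d i) → k) _ _ (c i)) ∧
      (∀ i j, i ≠ j → ∀ P : (Fin (d i) → k) ≃ₗ[k] (Fin (d j) → k),
        ¬ @Hoch.IsComodHom k _ A _ _ _ (Fin (d i) → k) _ _ (c i) (Fin (d j) → k) _ _ (c j) P.toLinearMap) ∧
      f ∈ Submodule.span k (Set.range fun q : Σ j, Fin (d j) × Fin (d j) => cf (c q.1) q.2.1 q.2.2) := by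
  classical
  let Good : Set A := {x | ∃ (d : ℕ) (c : HopfRep.Comod k A (Fin d → k)) (a b : Fin d),
    @HopfRep.IsSimpleComod k A _ _ _ _ (Fin d → k) _ _ c ∧ cf c a b = x}
  have hsimple : ∀ S : Submodule 𝔄 A, IsSimpleModule 𝔄 S → ∀ x ∈ S, x ∈ Submodule.span k Good := by
    intro S hS x hx
    haveI := hS
    letI cS := subComod (S.restrictScalars k) (isSubcomod_restrictScalars S)
    haveI : IsSimpleModule 𝔄 (S.restrictScalars k) := by
      haveI : IsSimpleModule 𝔄 (toDual (S.restrictScalars k) (isSubcomod_restrictScalars S)) := hS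
      exact IsSimpleModule.congr (R := 𝔄) (N := toDual (S.restrictScalars k) (isSubcomod_restrictScalars S))
        (subEquiv _ _)
    haveI : Module.Finite k (S.restrictScalars k) := finite_of_isSimple (C := A)
    let e : (S.restrictScalars k) ≃ₗ[k] (Fin (Module.finrank k (S.restrictScalars k)) → k) :=
      (Module.finBasis k (S.restrictScalars k)).equivFun
    let c := comodOfEquiv cS e
    letI := c
    have hom : Hoch.IsComodHom A (e.toLinearMap) := by
      refine LinearMap.ext fun s => ?_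
      show c.coact (e s) = e.toLinearMap.rTensor A (cS.coact s)
      show e.toLinearMap.rTensor A (cS.coact (e.symm (e s))) = _
      rw [LinearEquiv.symm_apply_apply]
    have hsc : HopfRep.IsSimpleComod k A (Fin (Module.finrank k (S.restrictScalars k)) → k) :=
      isSimpleComod_iff.mpr (IsSimpleModule.congr (R := 𝔄) (toDualEquiv (C := A) e hom).symm)
    have hx' : x = lcon ((Coalgebra.counit (R := k) (A := A)) ∘ₗ (S.restrictScalars k).subtype ∘ₗ e.symm.toLinearMap)
        (c.coact (e ⟨x, hx⟩)) := by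
      show x = lcon _ (e.toLinearMap.rTensor A (cS.coact (e.symm (e ⟨x, hx⟩))))
      rw [LinearEquiv.symm_apply_apply, lcon_rTensor]
      have hcomp : ((Coalgebra.counit (R := k) (A := A)) ∘ₗ (S.restrictScalars k).subtype ∘ₗ e.symm.toLinearMap) ∘ₗ
          e.toLinearMap = (Coalgebra.counit (R := k) (A := A)) ∘ₗ (S.restrictScalars k).subtype :=
        LinearMap.ext fun s => by simp
      rw [hcomp, ← lcon_rTensor]
      show x = lcon _ ((S.restrictScalars k).subtype.rTensor A
        (subCoact (S.restrictScalars k) (isSubcomod_restrictScalars S) ⟨x, hx⟩))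
      rw [rTensor_subCoact]
      exact (lcon_counit_comul x).symm
    rw [hx']
    refine Submodule.span_mono ?_ (lcon_mem_span_cf c _ _)
    rintro _ ⟨q, rfl⟩
    exact ⟨_, c, q.1, q.2, hsc, rfl⟩
  have hfN : f ∈ Submodule.span k Good := by
    let N : Submodule 𝔄 A := Submodule.span 𝔄 {f}
    haveI := hss N (finite_span_singleton f)
    have htop := IsSemisimpleModule.sSup_simples_eq_top 𝔄 N
    have hle : N ≤ sSup {S : Submodule 𝔄 A | IsSimpleModule 𝔄 S} := by
      have := congrArg (Submodule.map N.subtype) htop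
      rw [Submodule.map_top, Submodule.range_subtype, sSup_eq_iSup, Submodule.map_iSup] at this
      rw [← this]
      refine iSup_le fun S => ?_
      rw [Submodule.map_iSup]
      refine iSup_le fun hS => le_sSup ?_
      have hat : IsAtom S := (isSimpleModule_iff_isAtom (R := 𝔄) (M := ↥N)).mp hS
      refine isSimpleModule_iff_isAtom.mpr ⟨fun e => hat.1 ?_, fun b hb => ?_⟩
      · exact Submodule.map_injective_of_injective (Submodule.injective_subtype N) (e.trans (Submodule.map_bot _).symm)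
      · have hbN : b ≤ N := hb.le.trans (Submodule.map_subtype_le N S)
        have hmap : (b.comap N.subtype).map N.subtype = b := by
          rw [Submodule.map_comap_eq, Submodule.range_subtype, inf_eq_right.2 hbN]
        have h1 : b.comap N.subtype < S := by
          refine lt_of_le_of_ne ?_ fun e => hb.ne (by rw [← hmap, e])
          exact (Submodule.comap_mono hb.le).trans (Submodule.comap_map_eq_of_injective (Submodule.injective_subtype N) S).le
        rw [← hmap, hat.2 _ h1, Submodule.map_bot]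
    have hf' := hle (Submodule.mem_span_singleton_self f)
    rw [sSup_eq_iSup'] at hf'
    refine Submodule.iSup_induction (motive := fun x => x ∈ Submodule.span k Good) _ hf'
      (fun S x hx => hsimple S.1 S.2 x hx) (zero_mem _) (fun x y hx hy => add_mem hx hy)
  obtain ⟨s, hsG, hfs⟩ := Submodule.mem_span_finite_of_mem_span hfN
  let P : ℕ → Prop := fun n => ∃ (d : Fin n → ℕ) (c : (i : Fin n) → HopfRep.Comod k A (Fin (d i) → k)),
      (∀ i, @HopfRep.IsSimpleComod k A _ _ _ _ (Fin (d i) → k) _ _ (c i)) ∧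
      f ∈ Submodule.span k (Set.range fun q : Σ j, Fin (d j) × Fin (d j) => cf (c q.1) q.2.1 q.2.2)
  have hex : ∃ n, P n := by
    choose d c a b hs hcf using fun z : (s : Set A) => hsG z.2
    let e := (Fintype.equivFin (s : Set A)).symm
    refine ⟨_, fun i => d (e i), fun i => c (e i), fun i => hs (e i), Submodule.span_mono ?_ hfs⟩
    intro z hz
    obtain ⟨i, hi⟩ := e.surjective ⟨z, hz⟩
    exact ⟨⟨i, a (e i), b (e i)⟩, (hcf (e i)).trans (congrArg Subtype.val hi)⟩
  obtain ⟨d, c, hs, hf⟩ := Nat.find_spec hex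
  refine ⟨_, d, c, hs, ?_, hf⟩
  intro i j hij Q hQ
  obtain ⟨m, hm⟩ : ∃ m, Nat.find hex = m + 1 :=
    ⟨Nat.find hex - 1, by have := i.2; omega⟩
  refine Nat.find_min hex (show m < Nat.find hex by omega) ?_
  let emb : Fin m → Fin (Nat.find hex) := fun t => Fin.cast hm.symm ((Fin.cast hm j).succAbove t)
  have hemb : ∀ l, l ≠ j → ∃ t, emb t = l := by
    intro l hl
    obtain ⟨t, ht⟩ := Fin.exists_succAbove_eq (x := Fin.cast hm l) (y := Fin.cast hm j)
      (fun e => hl (Fin.cast_injective hm e))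
    exact ⟨t, by simp [emb, ht]⟩
  refine ⟨fun t => d (emb t), fun t => c (emb t), fun t => hs _, ?_⟩
  refine Submodule.span_le.2 ?_ hf
  rintro _ ⟨⟨l, a, b⟩, rfl⟩
  have hmem : ∀ l, l ≠ j → ∀ a b : Fin (d l), cf (c l) a b ∈ Submodule.span k
      (Set.range fun q : Σ t, Fin (d (emb t)) × Fin (d (emb t)) => cf (c (emb q.1)) q.2.1 q.2.2) := by
    intro l hl a b
    obtain ⟨t, rfl⟩ := hemb l hl
    exact Submodule.subset_span ⟨⟨t, a, b⟩, rfl⟩
  by_cases hl : l = j
  · subst hl
    have e : cf (c l) a b = lcon ((LinearMap.proj a : (Fin (d l) → k) →ₗ[k] k) ∘ₗ Q.toLinearMap)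
        ((c i).coact (Q.symm (Pi.single b 1))) := by
      rw [← lcon_rTensor]
      have h := LinearMap.congr_fun hQ (Q.symm (Pi.single b 1))
      simp only [LinearMap.comp_apply, LinearEquiv.coe_coe, LinearEquiv.apply_symm_apply] at h
      exact congrArg (lcon _) h
    show cf (c l) a b ∈ _
    rw [e]
    refine Submodule.span_le.2 ?_ (lcon_mem_span_cf (c i) _ _)
    rintro _ ⟨q, rfl⟩
    exact hmem i hij q.1 q.2
  · exact hmem l hl a b

end Exist

end Groth.Agent.Comodule
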