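import Groth.Agent.Comodule.Flag
import Groth.Agent.Comodule.Finite

/-! The unipotent filtration of a comodule. -/

set_option autoImplicit false
universe u v w w'

open TensorProduct WithConv

noncomputable section

namespace Groth.Agent.Comodule

variable {k : Type u} [Field k] {A : Type v} [CommRing A] [Bialgebra k A]
variable {V : Type w} [AddCommGroup V] [Module k V] [HopfRep.Comod k A V]
variable {W : Type w'} [AddCommGroup W] [Module k W] [HopfRep.Comod k A W]

variable (k A V) in
/-- The vectors killed by the `n`th power of the augmentation ideal of the dual algebra. -/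
def fil : ℕ → Submodule k V
  | 0 => ⊥
  | n + 1 => ⨅ f : {f : WithConv (A →ₗ[k] k) // f.ofConv 1 = 0}, (fil n).comap (dact f.1.ofConv)

theorem mem_fil_succ {n : ℕ} {v : V} :
    v ∈ fil k A V (n + 1) ↔ ∀ f : WithConv (A →ₗ[k] k), f.ofConv 1 = 0 → f • v ∈ fil k A V n := by
  simp only [fil, Submodule.mem_iInf, Submodule.mem_comap, Subtype.forall, smul_def]

theorem fil_zero : fil k A V 0 = ⊥ := rfl

theorem conv_apply_one (f g : WithConv (A →ₗ[k] k)) : (f * g).ofConv 1 = f.ofConv 1 * g.ofConv 1 := by
  simp [LinearMap.convMul_def, Bialgebra.comul_one, Algebra.TensorProduct.one_def]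

theorem fil_le_succ : ∀ n, fil k A V n ≤ fil k A V (n + 1) := by
  intro n
  induction n with
  | zero => exact bot_le
  | succ n ih => exact fun v hv => mem_fil_succ.mpr fun f hf => ih (mem_fil_succ.mp hv f hf)

theorem fil_mono : Monotone (fil k A V) := monotone_nat_of_le_succ fil_le_succ

theorem smul_mem_fil {n : ℕ} (g : WithConv (A →ₗ[k] k)) {v : V} (hv : v ∈ fil k A V n) :
    g • v ∈ fil k A V n := by
  cases n with
  | zero => rw [fil_zero, Submodule.mem_bot] at hv ⊢; rw [hv, smul_zero]
  | succ n =>
    exact mem_fil_succ.mpr fun f hf => by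
      rw [← mul_smul]
      exact mem_fil_succ.mp hv _ (by rw [conv_apply_one, hf, zero_mul])

theorem isSubcomod_fil (n : ℕ) : HopfRep.IsSubcomod (k := k) (A := A) (fil k A V n) :=
  isSubcomod_iff.mpr fun g _ hv => smul_mem_fil g hv

theorem map_mem_fil {g : V →ₗ[k] W} (hg : Hoch.IsComodHom A g) : ∀ {n : ℕ} {v : V},
    v ∈ fil k A V n → g v ∈ fil k A W n := by
  intro n
  induction n with
  | zero => intro v hv; rw [fil_zero, Submodule.mem_bot] at hv ⊢; rw [hv, map_zero]
  | succ n ih =>
    intro v hv
    exact mem_fil_succ.mpr fun f hf => by rw [← isComodHom_iff.mp hg]; exact ih (mem_fil_succ.mp hv f hf)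

theorem fil_one : fil k A V 1 = HopfRep.fixedPts k A V := by
  ext v
  rw [mem_fil_succ]
  constructor
  · intro h
    change HopfRep.Comod.coact (k := k) (A := A) v = v ⊗ₜ[k] (1 : A)
    refine ext_rcon fun f => ?_
    have h1 := h (toConv f - f 1 • (1 : WithConv (A →ₗ[k] k)))
      (by simp [LinearMap.convOne_def, Bialgebra.counit_one])
    rw [fil_zero, Submodule.mem_bot, sub_smul, smul_assoc, one_smul, sub_eq_zero] at h1
    rw [smul_def, dact, LinearMap.comp_apply] at h1
    simpa [rcon] using h1
  · intro h f hf
    have h' : HopfRep.Comod.coact (k := k) (A := A) v = v ⊗ₜ[k] (1 : A) := h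
    rw [fil_zero, Submodule.mem_bot, smul_def, dact, LinearMap.comp_apply, h']
    simp [rcon, hf]

theorem mem_fil_iff_coefMap : ∀ {n : ℕ} {v : V},
    v ∈ fil k A V n ↔ ∀ φ : V →ₗ[k] k, coefMap (C := A) φ v ∈ fil k A A n := by
  intro n
  induction n with
  | zero =>
    intro v
    simp only [fil_zero, Submodule.mem_bot]
    exact ⟨fun h φ => by rw [h, map_zero], eq_zero_of_coefMap⟩
  | succ n ih =>
    intro v
    constructor
    · intro hv φ
      exact mem_fil_succ.mpr fun f hf => by
        rw [← map_smul]; exact ih.mp (mem_fil_succ.mp hv f hf) φ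
    · intro h
      refine mem_fil_succ.mpr fun f hf => ih.mpr fun φ => ?_
      rw [map_smul]
      exact mem_fil_succ.mp (h φ) f hf

theorem fixedPts_regular : HopfRep.fixedPts k A A = Submodule.span k {(1 : A)} := by
  refine le_antisymm (fun a ha => ?_) ?_
  · have h : CoalgebraStruct.comul (R := k) a = a ⊗ₜ[k] (1 : A) := ha
    have h1 : lcon (Coalgebra.counit (R := k)) (CoalgebraStruct.comul (R := k) a) = a := lcon_counit_comul a
    rw [h] at h1
    refine Submodule.mem_span_singleton.mpr ⟨Coalgebra.counit (R := k) a, ?_⟩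
    simpa [lcon] using h1
  · rw [Submodule.span_le, Set.singleton_subset_iff]
    change Coalgebra.comul (R := k) (1 : A) = (1 : A) ⊗ₜ[k] 1
    rw [Bialgebra.comul_one, Algebra.TensorProduct.one_def]

/-- Every vector of every comodule is killed by a power of the augmentation ideal, when this holds for
the regular comodule. -/
theorem exists_mem_fil (h : ∀ a : A, ∃ n, a ∈ fil k A A n) [Module.Finite k V] (v : V) :
    ∃ n, v ∈ fil k A V n := by
  let b := Module.finBasis k V
  choose N hN using fun i => h (coefMap (C := A) (b.coord i) v)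
  refine ⟨Finset.univ.sup N, mem_fil_iff_coefMap.mpr fun φ => ?_⟩
  have hφ : φ = ∑ i, φ (b i) • b.coord i := (b.sum_dual_apply_smul_coord φ).symm
  rw [coefMap_apply, hφ]
  have h2 : ∀ (i : Fin (Module.finrank k V)), lcon (b.coord i) (HopfRep.Comod.coact (k := k) (A := A) v) ∈
      fil k A A (Finset.univ.sup N) := fun i => fil_mono (Finset.le_sup (Finset.mem_univ i)) (hN i)
  have h3 : ∀ y : V ⊗[k] A, lcon (∑ i, φ (b i) • b.coord i) y = ∑ i, φ (b i) • lcon (b.coord i) y := by
    intro y
    induction y with
    | zero => simp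
    | add p q hp hq => simp only [map_add, hp, hq, smul_add, Finset.sum_add_distrib]
    | tmul p q =>
      simp only [lcon, LinearMap.comp_apply, LinearMap.rTensor_tmul, LinearEquiv.coe_coe, TensorProduct.lid_tmul,
        LinearMap.sum_apply, LinearMap.smul_apply, smul_eq_mul, Finset.sum_smul, smul_smul]
  rw [h3]
  exact Submodule.sum_mem _ fun i _ => Submodule.smul_mem _ _ (h2 i)

/-- An affine group is unipotent exactly when the filtration of its regular comodule is exhaustive. -/
theorem isUnipotent_iff_fil :
    HopfRep.IsUnipotent k A ↔ ∀ a : A, ∃ n, a ∈ fil k A A n := by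
  constructor
  · intro hU a
    let N : Submodule (WithConv (A →ₗ[k] k)) A := Submodule.span _ {a}
    have hN : HopfRep.IsSubcomod (k := k) (A := A) (N.restrictScalars k) := isSubcomod_restrictScalars N
    letI := subComod (N.restrictScalars k) hN
    obtain ⟨m, F, hmono, h0, hm, hsub, hF⟩ :=
      unipotent_iff_flags.mp hU (N.restrictScalars k) (finite_span_singleton a)
    have hle : ∀ i, ∀ x ∈ F i, x ∈ fil k A (N.restrictScalars k) i := by
      intro i
      induction i with
      | zero => intro x hx; rwa [h0] at hx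
      | succ i ih =>
        intro x hx
        refine mem_fil_succ.mpr fun f hf => ih _ ?_
        have h1 := mem_range_rTensor_iff.mp (hF i x hx) f.ofConv
        have h2 : rcon f.ofConv (x ⊗ₜ[k] (1 : A)) = 0 := by simp [rcon, hf]
        rw [map_sub, h2, sub_zero] at h1
        exact h1
    refine ⟨m, map_mem_fil (isComodHom_subtype _ hN) (hle m ⟨a, Submodule.mem_span_singleton_self a⟩ ?_)⟩
    rw [hm]
    trivial
  · intro h V _ _ _ hfin hnt hfix
    obtain ⟨v, hv⟩ := exists_ne (0 : V)
    obtain ⟨n, hn⟩ := exists_mem_fil h v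
    refine hv ?_
    clear hv
    induction n generalizing v with
    | zero => rwa [fil_zero, Submodule.mem_bot] at hn
    | succ n ih =>
      rw [← Submodule.mem_bot k, ← hfix, ← fil_one, mem_fil_succ]
      intro f hf
      rw [fil_zero, Submodule.mem_bot]
      exact ih _ (mem_fil_succ.mp hn f hf)

theorem coefMap_mem_fil : ∀ {j i : ℕ} {a : A}, a ∈ fil k A A (i + j) →
    ∀ φ : A →ₗ[k] k, (∀ x ∈ fil k A A i, φ x = 0) → coefMap (C := A) φ a ∈ fil k A A j := by
  intro j
  induction j with
  | zero =>
    intro i a ha φ hφ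
    obtain ⟨z, hz⟩ := isSubcomod_fil i a ha
    rw [fil_zero, Submodule.mem_bot, coefMap_apply, ← hz, lcon_rTensor]
    have h1 : φ ∘ₗ (fil k A A i).subtype = 0 := LinearMap.ext fun x => hφ x x.2
    rw [h1]
    simp [lcon]
  | succ j ih =>
    intro i a ha φ hφ
    refine mem_fil_succ.mpr fun f hf => ?_
    rw [← map_smul]
    exact ih (mem_fil_succ.mp ha f hf) φ hφ

/-- The comultiplication respects the filtration. -/
theorem comul_mem_fil {n : ℕ} {a : A} (ha : a ∈ fil k A A n) :
    CoalgebraStruct.comul (R := k) a ∈ ⨆ i ∈ Finset.range n,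
      LinearMap.range (TensorProduct.mapIncl (fil k A A (i + 1)) (fil k A A (n - i))) := by
  set T : Submodule k (A ⊗[k] A) := ⨆ i ∈ Finset.range n,
    LinearMap.range (TensorProduct.mapIncl (fil k A A (i + 1)) (fil k A A (n - i))) with hT
  set x := CoalgebraStruct.comul (R := k) a with hx
  have hyp : ∀ i j, i + j = n → ∀ φ : A →ₗ[k] k, (∀ y ∈ fil k A A i, φ y = 0) → lcon φ x ∈ fil k A A j := by
    intro i j hij φ hφ
    exact coefMap_mem_fil (i := i) (by rwa [hij]) φ hφ
  have hP : ∀ m, m ≤ n → ∃ u, u ∈ T ∧ u ∈ LinearMap.range ((fil k A A m).subtype.rTensor A) ∧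
      x - u ∈ LinearMap.range ((fil k A A (n - m)).subtype.lTensor A) := by
    intro m
    induction m with
    | zero =>
      intro _
      refine ⟨0, T.zero_mem, Submodule.zero_mem _, mem_range_lTensor_iff.mpr fun φ => ?_⟩
      rw [sub_zero]
      exact hyp 0 n (zero_add n) φ fun y hy => by
        rw [fil_zero, Submodule.mem_bot] at hy
        rw [hy, map_zero]
    | succ m ih =>
      intro hm
      obtain ⟨u, huT, hum, hy⟩ := ih (by omega)
      obtain ⟨p, hp⟩ := (fil k A A (m + 1)).subtype.exists_leftInverse_of_injective (Submodule.ker_subtype _)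
      set π : A →ₗ[k] A := (fil k A A (m + 1)).subtype ∘ₗ p with hπ
      have hπid : ∀ z ∈ fil k A A (m + 1), π z = z := fun z hz =>
        congrArg Subtype.val (LinearMap.congr_fun hp ⟨z, hz⟩)
      have hy1 : π.rTensor A (x - u) ∈ LinearMap.range
          (TensorProduct.map (fil k A A (m + 1)).subtype (fil k A A (n - m)).subtype) := by
        refine mem_range_map_iff.mpr ⟨⟨p.rTensor A (x - u), by rw [← LinearMap.rTensor_comp_apply]⟩, ?_⟩
        refine mem_range_lTensor_iff.mpr fun φ => ?_
        rw [lcon_rTensor]
        exact mem_range_lTensor_iff.mp hy _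
      have humono : u ∈ LinearMap.range ((fil k A A (m + 1)).subtype.rTensor A) := by
        refine mem_range_rTensor_iff.mpr fun f => ?_
        exact fil_le_succ m (mem_range_rTensor_iff.mp hum f)
      refine ⟨u + π.rTensor A (x - u), T.add_mem huT ?_, Submodule.add_mem _ humono ?_, ?_⟩
      · exact le_iSup₂ (f := fun i (_ : i ∈ Finset.range n) => LinearMap.range
          (TensorProduct.mapIncl (fil k A A (i + 1)) (fil k A A (n - i)))) m (Finset.mem_range.mpr hm) hy1
      · exact (mem_range_map_iff.mp hy1).1
      · refine mem_range_lTensor_iff.mpr fun φ => ?_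
        rw [map_sub, map_add, lcon_rTensor, map_sub]
        set ψ : A →ₗ[k] k := φ - φ ∘ₗ π with hψ
        have h1 : ∀ z : A ⊗[k] A, lcon ψ z = lcon φ z - lcon (φ ∘ₗ π) z := by
          intro z
          induction z with
          | zero => simp
          | add p q hp hq => simp only [map_add, hp, hq]; abel
          | tmul p q => simp [hψ, sub_smul]
        have h2 : lcon ψ u = 0 := by
          obtain ⟨z, hz⟩ := humono
          rw [← hz, lcon_rTensor]
          have h3 : ψ ∘ₗ (fil k A A (m + 1)).subtype = 0 := LinearMap.ext fun z => by simp [hψ, hπid]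
          rw [h3]
          simp [lcon]
        have h4 := hyp (m + 1) (n - (m + 1)) (by omega) ψ fun z hz => by simp [hψ, hπid z hz]
        have h5 : lcon φ x - (lcon φ u + (lcon (φ ∘ₗ π) x - lcon (φ ∘ₗ π) u)) = lcon ψ x - lcon ψ u := by
          rw [h1, h1]; abel
        rw [h5, h2, sub_zero]
        exact h4
  obtain ⟨u, huT, -, hxu⟩ := hP n le_rfl
  have : x - u = 0 := by
    refine ext_lcon fun φ => ?_
    have := mem_range_lTensor_iff.mp hxu φ
    rw [Nat.sub_self, fil_zero, Submodule.mem_bot] at this
    rw [this, map_zero]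
  rwa [sub_eq_zero.mp this]

/-- A coconnected filtration is below the filtration of the regular comodule. -/
theorem le_fil_of_coconnected (C : ℕ → Submodule k A) (h0 : C 0 = Submodule.span k {(1 : A)})
    (hC : ∀ r, Submodule.map (CoalgebraStruct.comul (R := k) (A := A)) (C r) ≤
      ⨆ i ∈ Finset.range (r + 1), LinearMap.range (TensorProduct.mapIncl (C i) (C (r - i)))) :
    ∀ r, C r ≤ fil k A A (r + 1) := by
  intro r
  induction r using Nat.strong_induction_on with
  | _ r ih =>
    intro a ha
    refine mem_fil_succ.mpr fun f hf => ?_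
    have h := hC r (Submodule.mem_map_of_mem ha)
    suffices H : (⨆ i ∈ Finset.range (r + 1), LinearMap.range (TensorProduct.mapIncl (C i) (C (r - i)))) ≤
        (fil k A A r).comap (rcon f.ofConv) from H h
    refine iSup₂_le fun i hi => ?_
    rintro _ ⟨z, rfl⟩
    rw [Submodule.mem_comap]
    induction z with
    | zero => simp only [map_zero]; exact Submodule.zero_mem _
    | add p q hp hq => simp only [map_add]; exact Submodule.add_mem _ hp hq
    | tmul p q =>
      rcases lt_or_eq_of_le (Nat.lt_succ_iff.mp (Finset.mem_range.mp hi)) with hlt | heq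
      · have := fil_mono (show i + 1 ≤ r by omega) (ih i hlt p.2)
        simpa [rcon, TensorProduct.mapIncl] using Submodule.smul_mem _ (f.ofConv (q : A)) this
      · have hq : (q : A) ∈ C 0 := (congrArg C (show r - i = 0 by omega)).le q.2
        rw [h0, Submodule.mem_span_singleton] at hq
        obtain ⟨c, hc⟩ := hq
        simp [rcon, TensorProduct.mapIncl, ← hc, hf]

theorem unipotent_iff_coconnected :
    HopfRep.IsUnipotent k A ↔
      ∃ C : ℕ → Submodule k A, Monotone C ∧ C 0 = Submodule.span k {(1 : A)} ∧ (⨆ r, C r) = ⊤ ∧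
        ∀ r, Submodule.map (CoalgebraStruct.comul (R := k) (A := A)) (C r) ≤
          ⨆ i ∈ Finset.range (r + 1), LinearMap.range (TensorProduct.mapIncl (C i) (C (r - i))) := by
  rw [isUnipotent_iff_fil]
  constructor
  · intro h
    refine ⟨fun r => fil k A A (r + 1), fun i j hij => fil_mono (Nat.add_le_add_right hij 1),
      by show fil k A A 1 = _; rw [fil_one, fixedPts_regular], ?_, fun r => ?_⟩
    · refine eq_top_iff.mpr fun a _ => ?_
      obtain ⟨n, hn⟩ := h a
      exact Submodule.mem_iSup_of_mem n (fil_le_succ n hn)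
    · rintro _ ⟨a, ha, rfl⟩
      refine SetLike.le_def.mp ?_ (comul_mem_fil ha)
      refine iSup₂_mono fun i hi => ?_
      rw [show r + 1 - i = r - i + 1 from by have := Finset.mem_range.mp hi; omega]
  · rintro ⟨C, hmono, h0, htop, hC⟩ a
    obtain ⟨r, hr⟩ := (Submodule.mem_iSup_of_directed C hmono.directed_le).mp (htop ▸ Submodule.mem_top : a ∈ ⨆ r, C r)
    exact ⟨r + 1, le_fil_of_coconnected C h0 hC r hr⟩

section BaseChange

variable {K : Type u} [Field K] {k A : Type u} [Field k] [Algebra k K] [CommRing A] [HopfAlgebra k A]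

theorem rcon_mapOfCompatible (f : K ⊗[k] A →ₗ[K] K) (y : A ⊗[k] A) :
    rcon f (TensorProduct.mapOfCompatibleSMul K k k _ _
      (TensorProduct.map (TensorProduct.mk k K A 1) (TensorProduct.mk k K A 1) y)) =
      TensorProduct.lift ((TensorProduct.mk k K A).compl₁₂ (f.restrictScalars k ∘ₗ TensorProduct.mk k K A 1)
        LinearMap.id) (TensorProduct.comm k A A y) := by
  induction y with
  | zero => simp
  | add p q hp hq => simp only [map_add, hp, hq]
  | tmul p q => simp [rcon, TensorProduct.smul_tmul']

theorem unipotent_baseChange_iff :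
    HopfRep.IsUnipotent k A ↔ HopfRep.IsUnipotent K (K ⊗[k] A) := by
  rw [isUnipotent_iff_fil, isUnipotent_iff_fil]
  constructor
  · intro h z
    have key : ∀ n, ∀ a ∈ fil k A A n, (1 : K) ⊗ₜ[k] a ∈ fil K (K ⊗[k] A) (K ⊗[k] A) n := by
      intro n
      induction n using Nat.strong_induction_on with
      | _ n ih =>
        intro a ha
        cases n with
        | zero => rw [fil_zero, Submodule.mem_bot] at ha ⊢; rw [ha, TensorProduct.tmul_zero]
        | succ n =>
          refine mem_fil_succ.mpr fun f hf => ?_
          rw [smul_def, dact, LinearMap.comp_apply, coact_regular, comul_one_tmul, rcon_mapOfCompatible]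
          suffices H : (⨆ i ∈ Finset.range (n + 1), LinearMap.range
              (TensorProduct.mapIncl (fil k A A (i + 1)) (fil k A A (n + 1 - i)))) ≤
              ((fil K (K ⊗[k] A) (K ⊗[k] A) n).restrictScalars k).comap
                (TensorProduct.lift ((TensorProduct.mk k K A).compl₁₂
                  (f.ofConv.restrictScalars k ∘ₗ TensorProduct.mk k K A 1) LinearMap.id) ∘ₗ
                  (TensorProduct.comm k A A).toLinearMap) from H (comul_mem_fil ha)
          refine iSup₂_le fun i hi => ?_
          rintro _ ⟨y, rfl⟩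
          rw [Submodule.mem_comap]
          induction y with
          | zero => simp only [map_zero]; exact Submodule.zero_mem _
          | add p q hp hq => simp only [map_add]; exact Submodule.add_mem _ hp hq
          | tmul p q =>
            rcases lt_or_eq_of_le (Nat.lt_succ_iff.mp (Finset.mem_range.mp hi)) with hlt | heq
            · have h1 := fil_mono (show i + 1 ≤ n by omega) (ih (i + 1) (by omega) p p.2)
              have h2 := Submodule.smul_mem _ (f.ofConv ((1 : K) ⊗ₜ[k] (q : A))) h1
              simpa [TensorProduct.mapIncl, TensorProduct.smul_tmul'] using h2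
            · have hq : (q : A) ∈ Submodule.span k {(1 : A)} := by
                rw [← fixedPts_regular, ← fil_one]
                exact (congrArg (fil k A A) (show n + 1 - i = 1 by omega)).le q.2
              obtain ⟨c, hc⟩ := Submodule.mem_span_singleton.mp hq
              have hf' : f.ofConv ((1 : K) ⊗ₜ[k] (1 : A)) = 0 := hf
              simp [TensorProduct.mapIncl, ← hc, hf', LinearMap.map_smul_of_tower]
    induction z with
    | zero => exact ⟨0, Submodule.zero_mem _⟩
    | add p q hp hq =>
      obtain ⟨m, hm⟩ := hp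
      obtain ⟨m', hm'⟩ := hq
      exact ⟨max m m', Submodule.add_mem _ (fil_mono (le_max_left _ _) hm) (fil_mono (le_max_right _ _) hm')⟩
    | tmul c a =>
      obtain ⟨n, hn⟩ := h a
      refine ⟨n, ?_⟩
      rw [show c ⊗ₜ[k] a = c • ((1 : K) ⊗ₜ[k] a) from by simp [TensorProduct.smul_tmul']]
      exact Submodule.smul_mem _ c (key n a hn)
  · intro h a
    obtain ⟨n, hn⟩ := h ((1 : K) ⊗ₜ[k] a)
    refine ⟨n, ?_⟩
    clear h
    induction n generalizing a with
    | zero =>
      rw [fil_zero, Submodule.mem_bot] at hn ⊢
      exact Algebra.TensorProduct.includeRight_injective (R := k) (A := K) (B := A) (algebraMap k K).injective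
        (by simpa using hn)
    | succ n ih =>
      refine mem_fil_succ.mpr fun f hf => ih _ ?_
      let fK : K ⊗[k] A →ₗ[K] K :=
        (TensorProduct.AlgebraTensorModule.rid k K K).toLinearMap ∘ₗ f.ofConv.baseChange K
      have hfK : ∀ (c : K) (x : A), fK (c ⊗ₜ[k] x) = f.ofConv x • c := fun c x => by simp [fK]
      have h1 := mem_fil_succ.mp hn (toConv fK) (by
        change fK (1 : K ⊗[k] A) = 0
        rw [Algebra.TensorProduct.one_def, hfK, hf, zero_smul])
      have h2 : toConv fK • ((1 : K) ⊗ₜ[k] a) = (1 : K) ⊗ₜ[k] (f • a) := by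
        rw [smul_def, dact, LinearMap.comp_apply, coact_regular, comul_one_tmul]
        change rcon fK _ = _
        rw [rcon_mapOfCompatible, smul_def, dact, LinearMap.comp_apply, coact_regular]
        induction Coalgebra.comul (R := k) a with
        | zero => simp
        | add p q hp hq => simp only [map_add, TensorProduct.tmul_add, hp, hq]
        | tmul p q => simp [rcon, hfK, TensorProduct.smul_tmul', TensorProduct.tmul_smul]
      rwa [h2] at h1

end BaseChange

end Groth.Agent.Comodule
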