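import Groth.Agent.Comodule.StableLocus
import Groth.Agent.RosenlichtLib.Alg

/-! A reduced connected affine group over an algebraically closed field is integral; its units. -/

set_option autoImplicit false
set_option backward.isDefEq.respectTransparency false
universe u v

open TensorProduct WithConv

noncomputable section

namespace Groth.Agent.Comodule.ConnDomain

variable {k : Type u} [Field k] [IsAlgClosed k] {A : Type v} [CommRing A] [HopfAlgebra k A]
  [Algebra.FiniteType k A]

theorem exists_pt_of_ne_top {I : Ideal A} (hI : I ≠ ⊤) : ∃ φ : A →ₐ[k] k, I ≤ RingHom.ker φ := by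
  obtain ⟨q, hq, hle⟩ := Ideal.exists_le_maximal _ hI
  haveI := hq
  letI : Field (A ⧸ q) := Ideal.Quotient.field q
  haveI : Module.Finite k (A ⧸ q) := finite_of_finite_type_of_isJacobsonRing k (A ⧸ q)
  let e : k ≃ₐ[k] A ⧸ q := AlgEquiv.ofBijective (Algebra.ofId k (A ⧸ q)) IsAlgClosed.algebraMap_bijective_of_isIntegral
  exact ⟨e.symm.toAlgHom.comp (Ideal.Quotient.mkₐ k q), hle.trans fun r hr => by
    simp [Ideal.Quotient.eq_zero_iff_mem.2 hr]⟩

theorem exists_pt_of_not_isNilpotent {a : A} (ha : ¬ IsNilpotent a) : ∃ φ : A →ₐ[k] k, φ a ≠ 0 := by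
  haveI : IsJacobsonRing A := isJacobsonRing_of_finiteType (A := k)
  have h0 : a ∉ (nilradical A).jacobson := by
    rw [show (nilradical A).jacobson = nilradical A from
      IsJacobsonRing.out inferInstance (Ideal.radical_isRadical ⊥)]
    exact ha
  rw [Ideal.jacobson, Ideal.mem_sInf] at h0
  push Not at h0
  obtain ⟨q, ⟨-, hq⟩, haq⟩ := h0
  obtain ⟨φ, hφ⟩ := exists_pt_of_ne_top (k := k) hq.ne_top
  exact ⟨φ, fun h => haq ((hq.eq_of_le (RingHom.ker_ne_top φ) hφ).symm ▸ (RingHom.mem_ker.2 h))⟩

/-- Translation by a rational point. -/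
def tr (g : A →ₐ[k] k) : A →ₐ[k] A :=
  ((Algebra.TensorProduct.rid k k A).toAlgHom.comp (Algebra.TensorProduct.map (AlgHom.id k A) g)).comp
    (Bialgebra.comulAlgHom k A)

omit [IsAlgClosed k] [Algebra.FiniteType k A] in
theorem tr_apply (g : A →ₐ[k] k) (a : A) : tr g a = dact g.toLinearMap a := by
  simp only [tr, AlgHom.comp_apply, Bialgebra.comulAlgHom_apply, dact, LinearMap.comp_apply, coact_regular]
  induction Coalgebra.comul (R := k) a with
  | zero => simp
  | add p q hp hq => simp only [map_add, hp, hq]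
  | tmul p q => simp [rcon]

omit [IsAlgClosed k] [Algebra.FiniteType k A] in
theorem tr_tr (g g' : A →ₐ[k] k) (h : toConv g * toConv g' = 1) (a : A) : tr g (tr g' a) = a := by
  have e : (toConv g.toLinearMap * toConv g'.toLinearMap).ofConv = (1 : WithConv (A →ₗ[k] k)).ofConv := by
    refine LinearMap.ext fun c => ?_
    have := congrArg (fun z : WithConv (A →ₐ[k] k) => z.ofConv c) h
    simp only [AlgHom.convMul_apply, AlgHom.convOne_def, WithConv.ofConv_toConv] at this
    rw [LinearMap.convMul_def, LinearMap.convOne_def]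
    simp only [LinearMap.comp_apply, WithConv.ofConv_toConv]
    refine Eq.trans ?_ (this.trans (by simp))
    induction Coalgebra.comul (R := k) c with
    | zero => simp
    | add p q hp hq => simp only [map_add, hp, hq]
    | tmul p q => simp
  rw [tr_apply g, tr_apply g', ← dact_mul, e, dact_one]

omit [IsAlgClosed k] [Algebra.FiniteType k A] in
theorem comp_antipode (g : A →ₐ[k] k) :
    toConv g * toConv (g.comp (HopfAlgebra.antipodeAlgHom k A)) = 1 ∧
      toConv (g.comp (HopfAlgebra.antipodeAlgHom k A)) * toConv g = 1 := by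
  constructor
  · refine WithConv.ofConv_injective (AlgHom.ext fun a => ?_)
    rw [AlgHom.convMul_apply, AlgHom.convOne_def]
    simp only [WithConv.ofConv_toConv]
    have h : g (LinearMap.mul' k A ((HopfAlgebra.antipode k (A := A)).lTensor A (Coalgebra.comul (R := k) a))) =
        Coalgebra.counit (R := k) a := by
      rw [HopfAlgebra.mul_antipode_lTensor_comul_apply, AlgHom.commutes]; rfl
    refine Eq.trans ?_ (h.trans (by simp))
    induction Coalgebra.comul (R := k) a with
    | zero => simp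
    | add p q hp hq => simp only [map_add, hp, hq]
    | tmul p q => simp
  · refine WithConv.ofConv_injective (AlgHom.ext fun a => ?_)
    rw [AlgHom.convMul_apply, AlgHom.convOne_def]
    simp only [WithConv.ofConv_toConv]
    have h : g (LinearMap.mul' k A ((HopfAlgebra.antipode k (A := A)).rTensor A (Coalgebra.comul (R := k) a))) =
        Coalgebra.counit (R := k) a := by
      rw [HopfAlgebra.mul_antipode_rTensor_comul_apply, AlgHom.commutes]; rfl
    refine Eq.trans ?_ (h.trans (by simp))
    induction Coalgebra.comul (R := k) a with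
    | zero => simp
    | add p q hp hq => simp only [map_add, hp, hq]
    | tmul p q => simp

/-- Translation as an automorphism. -/
def trE (g : A →ₐ[k] k) : A ≃ₐ[k] A :=
  AlgEquiv.ofAlgHom (tr g) (tr (g.comp (HopfAlgebra.antipodeAlgHom k A)))
    (AlgHom.ext fun a => tr_tr g _ (comp_antipode g).1 a)
    (AlgHom.ext fun a => tr_tr _ g (comp_antipode g).2 a)

omit [IsAlgClosed k] [Algebra.FiniteType k A] in
theorem ker_eq_comap_trE (g : A →ₐ[k] k) :
    RingHom.ker g = (RingHom.ker (Bialgebra.counitAlgHom k A)).comap (trE g).toRingEquiv := by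
  have e : ∀ a, Bialgebra.counitAlgHom k A (tr g a) = g a := by
    intro a
    simp only [tr, AlgHom.comp_apply, Bialgebra.comulAlgHom_apply]
    have h : ∀ z : A ⊗[k] A, Bialgebra.counitAlgHom k A (Algebra.TensorProduct.rid k k A
        (Algebra.TensorProduct.map (AlgHom.id k A) g z)) =
        g (TensorProduct.lid k A ((Coalgebra.counit (R := k)).rTensor A z)) := by
      intro z
      induction z with
      | zero => simp
      | add p q hp hq => simp only [map_add, hp, hq]
      | tmul p q => simp [mul_comm]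
    exact (h _).trans (by simp [Coalgebra.rTensor_counit_comul])
  ext a
  rw [RingHom.mem_ker, Ideal.mem_comap, RingHom.mem_ker]
  rw [← e a]
  rfl

theorem isDomain_of_connected (k : Type u) [Field k] [IsAlgClosed k] {A : Type v} [CommRing A] [HopfAlgebra k A]
    [Algebra.FiniteType k A] [IsReduced A] (hconn : ∀ e : A, IsIdempotentElem e → e = 0 ∨ e = 1) : IsDomain A := by
  classical
  haveI : IsNoetherianRing A := Algebra.FiniteType.isNoetherianRing k A
  haveI : Nontrivial A := (Bialgebra.counitAlgHom k A).toRingHom.domain_nontrivial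
  have hfin : (minimalPrimes A).Finite := minimalPrimes.finite_of_isNoetherianRing A
  obtain ⟨P₀, hP₀⟩ := Ideal.nonempty_minimalPrimes (I := (⊥ : Ideal A)) bot_ne_top
  have hP₀' : P₀ ∈ minimalPrimes A := hP₀
  let s := hfin.toFinset.erase P₀
  have hex : ∀ Q : s, ∃ a, a ∈ (Q : Ideal A) ∧ a ∉ P₀ := fun Q => by
    obtain ⟨hne, hQ⟩ := Finset.mem_erase.1 Q.2
    exact SetLike.not_le_iff_exists.1 fun h => hne (le_antisymm h (hP₀.2 ((hfin.mem_toFinset.1 hQ)).1 h))
  choose a ha ha₀ using hex
  have hprod : ∏ Q, a Q ∉ P₀ := fun h => by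
    obtain ⟨Q, -, hQ⟩ := (hP₀.1.1.prod_mem_iff).1 h
    exact ha₀ Q hQ
  obtain ⟨g, hg⟩ := exists_pt_of_not_isNilpotent (k := k) (a := ∏ Q, a Q)
    (fun hn => hprod (by rw [isNilpotent_iff_eq_zero.1 hn]; exact P₀.zero_mem))
  have huniq : ∀ Q ∈ minimalPrimes A, Q ≤ RingHom.ker g → Q = P₀ := by
    intro Q hQ hle
    by_contra hne
    refine hg (RingHom.mem_ker.1 (hle ?_))
    have hmem : Q ∈ s := Finset.mem_erase.2 ⟨hne, hfin.mem_toFinset.2 hQ⟩
    obtain ⟨c, hc⟩ := Finset.dvd_prod_of_mem a (Finset.mem_univ ⟨Q, hmem⟩)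
    rw [hc]
    exact Ideal.mul_mem_right _ _ (ha ⟨Q, hmem⟩)
  have hone : ∀ (h : A →ₐ[k] k), ∀ P ∈ minimalPrimes A, ∀ Q ∈ minimalPrimes A,
      P ≤ RingHom.ker h → Q ≤ RingHom.ker h → P = Q := by
    intro h
    let σ : A ≃+* A := ((trE g).trans (trE h).symm).toRingEquiv
    have hσ : RingHom.ker g = (RingHom.ker h).comap σ := by
      rw [ker_eq_comap_trE g, ker_eq_comap_trE h]
      ext b
      simp [σ]
    have hmove : ∀ P ∈ minimalPrimes A, P.comap σ ∈ minimalPrimes A := by
      intro P hP
      haveI := hP.1.1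
      refine ⟨⟨Ideal.IsPrime.comap _, bot_le⟩, fun R hR hRP => ?_⟩
      haveI := hR.1
      have h1 : R.comap σ.symm ≤ P := fun b hb => by
        have := Ideal.mem_comap.1 (hRP (Ideal.mem_comap.1 hb))
        rwa [σ.apply_symm_apply] at this
      have h2 := hP.2 ⟨Ideal.IsPrime.comap _, bot_le⟩ h1
      intro b hb
      have := Ideal.mem_comap.1 (h2 (Ideal.mem_comap.1 hb))
      rwa [σ.symm_apply_apply] at this
    intro P hP Q hQ hPh hQh
    have e := (huniq _ (hmove P hP) (hσ.symm ▸ Ideal.comap_mono hPh)).trans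
      (huniq _ (hmove Q hQ) (hσ.symm ▸ Ideal.comap_mono hQh)).symm
    exact Ideal.comap_injective_of_surjective σ σ.surjective e
  have hcop : ∀ Q ∈ s, P₀ ⊔ Q = ⊤ := by
    intro Q hQ
    by_contra hne
    obtain ⟨h, hh⟩ := exists_pt_of_ne_top (k := k) hne
    exact (Finset.mem_erase.1 hQ).1 (hone h Q (hfin.mem_toFinset.1 (Finset.mem_erase.1 hQ).2) P₀ hP₀'
      (le_sup_right.trans hh) (le_sup_left.trans hh))
  have htop : P₀ ⊔ (⨅ Q ∈ s, Q) = ⊤ := Ideal.sup_iInf_eq_top fun Q hQ => hcop Q hQ
  obtain ⟨p, hp, q, hq, hpq⟩ := Submodule.mem_sup.1 (htop.ge (Submodule.mem_top : (1 : A) ∈ ⊤))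
  simp only [Submodule.mem_iInf] at hq
  have hnil : ∀ c : A, (∀ Q ∈ minimalPrimes A, c ∈ Q) → c = 0 := by
    intro c hc
    refine IsNilpotent.eq_zero ?_
    rw [← mem_nilradical, nilradical, ← Ideal.sInf_minimalPrimes, Ideal.mem_sInf]
    exact fun {Q} hQ => hc Q hQ
  have hidem : IsIdempotentElem q := by
    refine sub_eq_zero.1 (hnil _ fun Q hQ => ?_)
    rcases eq_or_ne Q P₀ with rfl | hne
    · rw [show q * q - q = q * -p by rw [eq_sub_of_add_eq hpq]; ring]
      exact Q.mul_mem_left _ (Q.neg_mem hp)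
    · have := hq Q (Finset.mem_erase.2 ⟨hne, hfin.mem_toFinset.2 hQ⟩)
      exact Q.sub_mem (Q.mul_mem_left _ this) this
  rcases hconn q hidem with rfl | rfl
  · rw [add_zero] at hpq
    exact absurd (P₀.eq_top_iff_one.2 (hpq ▸ hp)) hP₀.1.1.ne_top
  · have honly : ∀ Q ∈ minimalPrimes A, Q = P₀ := fun Q hQ => by
      by_contra hne
      haveI := hQ.1.1
      exact hQ.1.1.ne_top (Q.eq_top_iff_one.2 (hq Q (Finset.mem_erase.2 ⟨hne, hfin.mem_toFinset.2 hQ⟩)))
    haveI := hP₀.1.1
    have hbot : P₀ = ⊥ := le_bot_iff.1 fun c hc => (Submodule.mem_bot A).2 (hnil c fun Q hQ => honly Q hQ ▸ hc)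
    haveI : (⊥ : Ideal A).IsPrime := hbot ▸ hP₀.1.1
    exact IsDomain.of_bot_isPrime A

/-- Units of a connected reduced group with value one at the identity are characters. -/
theorem comul_unit [IsDomain A] (u : Aˣ) (hu : Coalgebra.counit (R := k) (u : A) = 1) :
    Coalgebra.comul (R := k) (u : A) = (u : A) ⊗ₜ[k] (u : A) := by
  have hui : Coalgebra.counit (R := k) ((u⁻¹ : Aˣ) : A) = 1 := by
    have := Bialgebra.counit_mul (R := k) (u : A) ((u⁻¹ : Aˣ) : A)
    rw [u.mul_inv, hu, one_mul, Bialgebra.counit_one] at this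
    exact this.symm
  let U : (A ⊗[k] A)ˣ := Units.map (Bialgebra.comulAlgHom k A : A →* A ⊗[k] A) u
  let L : (A ⊗[k] A)ˣ := Units.map (Algebra.TensorProduct.includeLeft : A →ₐ[k] A ⊗[k] A).toRingHom.toMonoidHom u
  let R : (A ⊗[k] A)ˣ := Units.map (Algebra.TensorProduct.includeRight : A →ₐ[k] A ⊗[k] A).toRingHom.toMonoidHom u
  have e1 : ∀ z : A ⊗[k] A, Algebra.TensorProduct.lift (AlgHom.id k A)
      ((Algebra.ofId k A).comp (Bialgebra.counitAlgHom k A)) (fun _ _ => Commute.all _ _) z =
      TensorProduct.rid k A ((Coalgebra.counit (R := k)).lTensor A z) := by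
    intro z
    induction z with
    | zero => simp
    | add p q hp hq => simp only [map_add, hp, hq]
    | tmul p q => simp [Algebra.smul_def, mul_comm]
  have e2 : ∀ z : A ⊗[k] A, Algebra.TensorProduct.lift ((Algebra.ofId k A).comp (Bialgebra.counitAlgHom k A))
      (AlgHom.id k A) (fun _ _ => Commute.all _ _) z =
      TensorProduct.lid k A ((Coalgebra.counit (R := k)).rTensor A z) := by
    intro z
    induction z with
    | zero => simp
    | add p q hp hq => simp only [map_add, hp, hq]
    | tmul p q => simp [Algebra.smul_def]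
  have h := RosenlichtLib.unit_eq_one (U * (L⁻¹ * R⁻¹)) (Bialgebra.counitAlgHom k A) (Bialgebra.counitAlgHom k A)
    (by
      simp only [Units.val_mul, map_mul, U, L, R, Units.coe_map, Units.coe_map_inv]
      simp [e1, Coalgebra.lTensor_counit_comul, hui, hu])
    (by
      simp only [Units.val_mul, map_mul, U, L, R, Units.coe_map, Units.coe_map_inv]
      simp [e2, Coalgebra.rTensor_counit_comul, hui, hu])
  rw [mul_eq_one_iff_eq_inv, mul_inv, inv_inv, inv_inv] at h
  have := congrArg Units.val h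
  simpa [U, L, R, Algebra.TensorProduct.tmul_mul_tmul] using this

theorem comul_comp_eq [IsReduced A] (hconn : ∀ e : A, IsIdempotentElem e → e = 0 ∨ e = 1)
    {B : Type v} [CommRing B] [HopfAlgebra k B] (hB : HopfRep.IsDiagonalizable k B) (f : B →ₐ[k] A)
    (hf : (Bialgebra.counitAlgHom k A).comp f = Bialgebra.counitAlgHom k B) :
    (Bialgebra.comulAlgHom k A).comp f = (Algebra.TensorProduct.map f f).comp (Bialgebra.comulAlgHom k B) := by
  haveI := isDomain_of_connected k hconn
  refine AlgHom.toLinearMap_injective (LinearMap.ext_on hB ?_)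
  intro b hb
  have hu : IsUnit (f b) :=
    (IsUnit.of_mul_eq_one _ (by rw [mul_comm]; exact hb.antipode_mul_cancel) : IsUnit b).map f
  have hc : Coalgebra.counit (R := k) (f b) = 1 := by
    have := DFunLike.congr_fun hf b
    simpa [hb.counit_eq_one] using this
  have h := comul_unit (k := k) hu.unit (by rw [hu.unit_spec]; exact hc)
  rw [hu.unit_spec] at h
  simp [h, hb.comul_eq_tmul_self]

end Groth.Agent.Comodule.ConnDomain
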