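import Mathlib

/-! Semisimple submodules generated by given simple submodules. -/

set_option autoImplicit false
universe u v w x

open Submodule

namespace Groth.Agent.Comodule

theorem exists_isCompl_iSupIndep {α : Type*} [CompleteLattice α] [IsCompactlyGenerated α]
    [IsModularLattice α] {ι : Type*} {p : ι → α} (hp : ∀ i, IsAtom (p i)) (htop : iSup p = ⊤) (b : α) :
    ∃ J : Set ι, iSupIndep (fun j : J => p j) ∧ IsCompl b (⨆ j : J, p j) := by
  classical
  have zorn := zorn_subset
    (S := {s : Set α | sSupIndep s ∧ Disjoint b (sSup s) ∧ s ⊆ Set.range p})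
    fun c hc1 hc2 =>
      ⟨⋃₀ c,
        ⟨iSupIndep_sUnion_of_directed hc2.directedOn fun s hs => (hc1 hs).1, by
          rw [sSup_sUnion, ← sSup_image, DirectedOn.disjoint_sSup_right]
          · rintro _ ⟨s, hs, rfl⟩
            exact (hc1 hs).2.1
          · rw [directedOn_image]
            exact hc2.directedOn.mono @fun s t => sSup_le_sSup,
          fun a ⟨s, sc, has⟩ => (hc1 sc).2.2 has⟩,
        fun _ => Set.subset_sUnion_of_mem⟩
  simp_rw [maximal_subset_iff] at zorn
  obtain ⟨s, ⟨s_ind, b_inf, s_sub⟩, s_max⟩ := zorn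
  have hcod : b ⊔ sSup s = ⊤ := by
    rw [eq_top_iff, ← htop, iSup_le_iff]
    intro i
    rw [← inf_eq_left]
    refine ((hp i).le_iff.mp inf_le_left).resolve_left fun con => (hp i).1 ?_
    rw [← con, eq_comm, inf_eq_left]
    refine (le_sSup ?_).trans le_sup_right
    rw [← disjoint_iff] at con
    have a_dis : Disjoint (p i) (sSup s) := con.mono_right le_sup_right
    have hmem : s ∪ {p i} ∈ {s : Set α | sSupIndep s ∧ Disjoint b (sSup s) ∧ s ⊆ Set.range p} := by
      refine ⟨fun y hy => ?_, ?_, Set.union_subset s_sub (by simp)⟩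
      · rw [Set.mem_union, Set.mem_singleton_iff] at hy
        obtain rfl | ya := eq_or_ne y (p i)
        · simp only [Set.mem_singleton, Set.insert_sdiff_of_mem, Set.union_singleton]
          exact con.mono_right ((sSup_le_sSup Set.sdiff_subset).trans le_sup_right)
        · have h : (s ∪ {p i}) \ {y} = s \ {y} ∪ {p i} := by
            simp only [Set.union_singleton]
            rw [Set.insert_sdiff_of_notMem]
            rw [Set.mem_singleton_iff]
            exact Ne.symm ya
          rw [h, sSup_union, sSup_singleton]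
          apply (s_ind (hy.resolve_right ya)).disjoint_sup_right_of_disjoint_sup_left
            (a_dis.mono_right _).symm
          rw [← sSup_insert, Set.insert_sdiff_singleton, Set.insert_eq_of_mem (hy.resolve_right ya)]
      · rw [sSup_union, sSup_singleton]
        exact b_inf.disjoint_sup_right_of_disjoint_sup_left con.symm
    rw [s_max hmem Set.subset_union_left]
    exact Set.mem_union_right _ (Set.mem_singleton _)
  choose g hg using fun a : s => s_sub a.2
  have hginj : Function.Injective g := fun a a' h => Subtype.ext (by rw [← hg a, ← hg a', h])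
  refine ⟨Set.range g, ?_, ?_⟩
  · have h1 : iSupIndep (fun a : s => p (g a)) := by simpa [hg] using (sSupIndep_iff s).mp s_ind
    have := h1.comp (Equiv.ofInjective g hginj).symm.injective
    convert this using 1
    funext j
    simp [Function.comp, Equiv.apply_ofInjective_symm]
  · have e : (⨆ j : Set.range g, p j) = sSup s := by
      rw [iSup_range', sSup_eq_iSup']
      exact iSup_congr hg
    rw [e]
    exact ⟨b_inf, codisjoint_iff.mpr hcod⟩

variable {R : Type u} [Ring R] {M : Type v} [AddCommGroup M] [Module R M]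

theorem exists_equiv_of_le_iSup_range {ι : Type x} {K : ι → Type w} [∀ i, AddCommGroup (K i)]
    [∀ i, Module R (K i)] [∀ i, IsSimpleModule R (K i)] (g : ∀ i, K i →ₗ[R] M)
    {S : Type*} [AddCommGroup S] [Module R S] [IsSimpleModule R S] (f : S →ₗ[R] M)
    (hf : Function.Injective f) (h : LinearMap.range f ≤ ⨆ i, LinearMap.range (g i)) :
    ∃ i, Nonempty (S ≃ₗ[R] K i) := by
  let s : Set (Submodule R M) := {m | ∃ i, Function.Injective (g i) ∧ m = LinearMap.range (g i)}
  have hsimple : ∀ m : s, IsSimpleModule R m.1 := by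
    rintro ⟨m, i, hi, rfl⟩
    exact IsSimpleModule.congr (LinearEquiv.ofInjective _ hi).symm
  have hle : (⨆ i, LinearMap.range (g i)) ≤ sSup s := iSup_le fun i => by
    rcases (g i).injective_or_eq_zero with hi | hi
    · exact le_sSup ⟨i, hi, rfl⟩
    · simp [hi]
  haveI : IsSimpleModule R (LinearMap.range f) := IsSimpleModule.congr (LinearEquiv.ofInjective _ hf).symm
  obtain ⟨m, ⟨i, hi, rfl⟩, ⟨e⟩⟩ := (LinearMap.range f).linearEquiv_of_le_sSup s (h.trans hle)
  exact ⟨i, ⟨(LinearEquiv.ofInjective _ hf).trans (e.trans (LinearEquiv.ofInjective _ hi).symm)⟩⟩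

/-- The isotypic components of pairwise non-isomorphic simple modules are independent. -/
theorem iSupIndep_homImages {ι : Type x} (S : ι → Type w) [∀ j, AddCommGroup (S j)] [∀ j, Module R (S j)]
    [∀ j, IsSimpleModule R (S j)] (hne : ∀ j j', j ≠ j' → IsEmpty (S j ≃ₗ[R] S j')) :
    iSupIndep fun j => ⨆ f : S j →ₗ[R] M, LinearMap.range f := by
  intro j
  rw [disjoint_iff]
  by_contra hT
  set N := (⨆ f : S j →ₗ[R] M, LinearMap.range f)
  haveI : IsSemisimpleModule R N := by
    rw [show N = ⨆ f ∈ (Set.univ : Set (S j →ₗ[R] M)), LinearMap.range f from iSup_univ.symm]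
    exact isSemisimpleModule_biSup_of_isSemisimpleModule_submodule fun φ _ => IsSemisimpleModule.range _
  set T := N ⊓ ⨆ (j' : ι) (_ : j' ≠ j), ⨆ f : S j' →ₗ[R] M, LinearMap.range f
  haveI : Nontrivial T := (Submodule.nontrivial_iff_ne_bot).mpr hT
  haveI : IsSemisimpleModule R T :=
    IsSemisimpleModule.of_injective (Submodule.inclusion (inf_le_left : T ≤ N)) (Submodule.inclusion_injective _)
  obtain ⟨U, hU⟩ := IsSemisimpleModule.exists_simple_submodule R T
  haveI := hU
  let f : U →ₗ[R] M := T.subtype.comp U.subtype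
  have hf : Function.Injective f := T.injective_subtype.comp U.injective_subtype
  have hfle : LinearMap.range f ≤ T := by rintro _ ⟨x, rfl⟩; exact (U.subtype x).2
  obtain ⟨-, ⟨e⟩⟩ := exists_equiv_of_le_iSup_range (K := fun _ : S j →ₗ[R] M => S j) (fun g => g) f hf
    (hfle.trans inf_le_left)
  obtain ⟨⟨⟨j', hj'⟩, g'⟩, ⟨e'⟩⟩ := exists_equiv_of_le_iSup_range
    (K := fun q : Σ j' : {j' // j' ≠ j}, (S j'.1 →ₗ[R] M) => S q.1.1) (fun q => q.2) f hf
    (hfle.trans (inf_le_right.trans (iSup₂_le fun j' hj' => iSup_le fun g =>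
      le_iSup (fun q : Σ j' : {j' // j' ≠ j}, (S j'.1 →ₗ[R] M) => LinearMap.range q.2) ⟨⟨j', hj'⟩, g⟩)))
  exact (hne j' j hj').false (e'.symm.trans e)

end Groth.Agent.Comodule
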