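import Groth.Agent.Comodule.Cosemi
import Groth.Agent.Comodule.Lattice

/-! Further generalities on comodules over a field. -/

set_option autoImplicit false
universe u v v' w w'

open TensorProduct WithConv

noncomputable section

namespace Groth.Agent.Comodule

variable {k : Type u} [Field k] {C : Type v} [AddCommGroup C] [Module k C] [Coalgebra k C]
variable {V : Type w} [AddCommGroup V] [Module k V] [HopfRep.Comod k C V]

local notation "𝔇" => WithConv (C →ₗ[k] k)

theorem atom_cases {S : Submodule 𝔇 V} (hS : IsSimpleModule 𝔇 S) {W' : Submodule k V}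
    (hW' : HopfRep.IsSubcomod (k := k) (A := C) W') (hle : W' ≤ S.restrictScalars k) :
    W' = ⊥ ∨ W' = S.restrictScalars k := by
  rcases (isSimpleModule_iff_isAtom.mp hS).le_iff.mp (show toDual W' hW' ≤ S from hle) with h1 | h1
  · left; rw [← restrictScalars_toDual hW', h1, Submodule.restrictScalars_bot]
  · right; rw [← restrictScalars_toDual hW', h1]

theorem isAtom_toDual {S : Submodule k V} (hS : HopfRep.IsSubcomod (k := k) (A := C) S) (h0 : S ≠ ⊥)
    (h : ∀ W' : Submodule k V, HopfRep.IsSubcomod (k := k) (A := C) W' → W' ≤ S → W' = ⊥ ∨ W' = S) :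
    IsAtom (toDual S hS) := by
  refine ⟨fun hb => h0 (by rw [← restrictScalars_toDual hS, hb, Submodule.restrictScalars_bot]), fun N hN => ?_⟩
  rcases h (N.restrictScalars k) (isSubcomod_restrictScalars N) hN.le with h1 | h1
  · simpa using h1
  · exact absurd (Submodule.restrictScalars_injective k _ _ (h1.trans (restrictScalars_toDual hS).symm)) hN.ne

theorem semisimple_of_simples {ι : Type*} (W : ι → Submodule k V)
    (hsub : ∀ i, HopfRep.IsSubcomod (k := k) (A := C) (W i))
    (hW : ∀ i, W i ≠ ⊥ ∧ ∀ W' : Submodule k V, HopfRep.IsSubcomod (k := k) (A := C) W' → W' ≤ W i → W' = ⊥ ∨ W' = W i)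
    (htop : iSup W = ⊤) : IsSemisimpleModule 𝔇 V := by
  haveI := fun i => isSimpleModule_iff_isAtom.mpr (isAtom_toDual (hsub i) (hW i).1 (hW i).2)
  refine isSemisimpleModule_of_isSemisimpleModule_submodule' (p := fun i => toDual (W i) (hsub i))
    (fun i => inferInstance) ?_
  apply Submodule.restrictScalars_injective k
  rw [Submodule.restrictScalars_iSup, Submodule.restrictScalars_top]
  exact htop

theorem iSupIndep_restrictScalars {S R M : Type*} [Semiring S] [Semiring R] [AddCommMonoid M] [Module S M]
    [Module R M] [SMul S R] [IsScalarTower S R M] {ι : Type*} {p : ι → Submodule R M} (h : iSupIndep p) :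
    iSupIndep fun i => (p i).restrictScalars S := by
  intro i
  have h1 := h i
  rw [disjoint_iff] at h1 ⊢
  simp only [← Submodule.restrictScalars_iSup, ← Submodule.restrictScalars_inf, h1, Submodule.restrictScalars_bot]

section Change

variable {D : Type v'} [AddCommGroup D] [Module k D] [Coalgebra k D] (i : C →ₗc[k] D)

variable (V) in
/-- Push a comodule along a coalgebra map. -/
@[reducible] def pushComod : HopfRep.Comod k D V where
  coact := (i : C →ₗ[k] D).lTensor V ∘ₗ HopfRep.Comod.coact (k := k) (A := C)
  coassoc := by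
    refine LinearMap.ext fun v => ?_
    simp only [LinearMap.comp_apply, LinearEquiv.coe_coe]
    have hc := LinearMap.congr_fun (HopfRep.Comod.coassoc (k := k) (A := C) (V := V)) v
    simp only [LinearMap.comp_apply, LinearEquiv.coe_coe] at hc
    have e1 : ∀ y : (V ⊗[k] C) ⊗[k] C,
        TensorProduct.assoc k V D D ((((i : C →ₗ[k] D).lTensor V)).rTensor D ((i : C →ₗ[k] D).lTensor _ y)) =
          (TensorProduct.map (i : C →ₗ[k] D) (i : C →ₗ[k] D)).lTensor V (TensorProduct.assoc k V C C y) := by
      intro y
      induction y with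
      | zero => simp
      | add y z hy hz => simp only [map_add, hy, hz]
      | tmul a c =>
        induction a with
        | zero => simp
        | add a b ha hb => simp only [TensorProduct.add_tmul, map_add, ha, hb]
        | tmul a b => simp
    have hi : TensorProduct.map (i : C →ₗ[k] D) (i : C →ₗ[k] D) ∘ₗ Coalgebra.comul =
        Coalgebra.comul ∘ₗ (i : C →ₗ[k] D) := i.map_comp_comul
    rw [← LinearMap.lTensor_comp_apply, ← hi, LinearMap.lTensor_comp_apply, ← hc, ← e1]
    congr 1
    generalize HopfRep.Comod.coact (k := k) (A := C) v = y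
    induction y with
    | zero => simp
    | add y z hy hz => simp only [map_add, hy, hz]
    | tmul a c => simp
  counit_comp := by
    refine LinearMap.ext fun v => ?_
    simp only [LinearMap.comp_apply]
    rw [← LinearMap.lTensor_comp_apply, show Coalgebra.counit ∘ₗ (i : C →ₗ[k] D) = Coalgebra.counit from i.counit_comp]
    exact LinearMap.congr_fun (HopfRep.Comod.counit_comp (k := k) (A := C) (V := V)) v

theorem isSubcomod_push (W : Submodule k V) (hW : HopfRep.IsSubcomod (k := k) (A := C) W) :
    letI := pushComod V i; HopfRep.IsSubcomod (k := k) (A := D) W := by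
  letI := pushComod V i
  refine isSubcomod_iff.mpr fun f v hv => ?_
  have := isSubcomod_iff.mp hW (toConv (f.ofConv ∘ₗ (i : C →ₗ[k] D))) v hv
  rw [smul_def] at this ⊢
  simp only [dact, LinearMap.comp_apply] at this
  show rcon f.ofConv ((i : C →ₗ[k] D).lTensor V (HopfRep.Comod.coact (k := k) (A := C) v)) ∈ W
  rwa [rcon_lTensor]

theorem isSubcomod_pull (hi : Function.Injective i) (W : Submodule k V)
    (hW : letI := pushComod V i; HopfRep.IsSubcomod (k := k) (A := D) W) :
    HopfRep.IsSubcomod (k := k) (A := C) W := by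
  refine isSubcomod_iff.mpr fun f v hv => ?_
  obtain ⟨l, hl⟩ := (i : C →ₗ[k] D).exists_leftInverse_of_injective (LinearMap.ker_eq_bot.mpr hi)
  letI cD := pushComod V i
  have h := isSubcomod_iff.mp hW (toConv (f.ofConv ∘ₗ l)) v hv
  simp only [smul_def, dact, LinearMap.comp_apply] at h ⊢
  change rcon (f.ofConv ∘ₗ l) ((i : C →ₗ[k] D).lTensor V (HopfRep.Comod.coact (k := k) (A := C) v)) ∈ W at h
  rwa [rcon_lTensor, LinearMap.comp_assoc, hl, LinearMap.comp_id] at h

end Change

section Lift

variable {D : Type v'} [AddCommGroup D] [Module k D] [Coalgebra k D] (i : C →ₗc[k] D) (hi : Function.Injective i)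
variable (U : Type w') [AddCommGroup U] [Module k U] [HopfRep.Comod k D U]

include hi in
theorem exists_liftComod
    (h : ∀ v : U, HopfRep.Comod.coact (k := k) (A := D) v ∈ LinearMap.range ((i : C →ₗ[k] D).lTensor U)) :
    ∃ c : HopfRep.Comod k C U,
      (i : C →ₗ[k] D).lTensor U ∘ₗ c.coact = HopfRep.Comod.coact (k := k) (A := D) := by
  have hinj : Function.Injective ((i : C →ₗ[k] D).lTensor U) :=
    Module.Flat.lTensor_preserves_injective_linearMap _ hi
  let ρ : U →ₗ[k] U ⊗[k] C := (LinearEquiv.ofInjective _ hinj).symm.toLinearMap ∘ₗ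
    LinearMap.codRestrict _ (HopfRep.Comod.coact (k := k) (A := D)) h
  have hρ : ∀ v, (i : C →ₗ[k] D).lTensor U (ρ v) = HopfRep.Comod.coact (k := k) (A := D) v := by
    intro v
    exact congrArg Subtype.val ((LinearEquiv.ofInjective _ hinj).apply_symm_apply _)
  refine ⟨⟨ρ, ?_, ?_⟩, LinearMap.ext hρ⟩
  · have hinj2 : Function.Injective ((TensorProduct.map (i : C →ₗ[k] D) (i : C →ₗ[k] D)).lTensor U) := by
      refine Module.Flat.lTensor_preserves_injective_linearMap _ ?_
      rw [← LinearMap.lTensor_comp_rTensor, LinearMap.coe_comp]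
      exact (Module.Flat.lTensor_preserves_injective_linearMap (M := D) _ hi).comp
        (Module.Flat.rTensor_preserves_injective_linearMap (M := C) _ hi)
    refine LinearMap.ext fun v => hinj2 ?_
    simp only [LinearMap.comp_apply, LinearEquiv.coe_coe]
    have hc := LinearMap.congr_fun (HopfRep.Comod.coassoc (k := k) (A := D) (V := U)) v
    simp only [LinearMap.comp_apply, LinearEquiv.coe_coe] at hc
    have e1 : ∀ y : (U ⊗[k] C) ⊗[k] C,
        (TensorProduct.map (i : C →ₗ[k] D) (i : C →ₗ[k] D)).lTensor U (TensorProduct.assoc k U C C y) =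
        TensorProduct.assoc k U D D ((((i : C →ₗ[k] D).lTensor U)).rTensor D ((i : C →ₗ[k] D).lTensor _ y)) := by
      intro y
      induction y with
      | zero => simp
      | add y z hy hz => simp only [map_add, hy, hz]
      | tmul a c =>
        induction a with
        | zero => simp
        | add a b ha hb => simp only [TensorProduct.add_tmul, map_add, ha, hb]
        | tmul a b => simp
    have e2 : ∀ y : U ⊗[k] C, ((i : C →ₗ[k] D).lTensor U).rTensor D ((i : C →ₗ[k] D).lTensor _ (ρ.rTensor C y)) =
        (HopfRep.Comod.coact (k := k) (A := D)).rTensor D ((i : C →ₗ[k] D).lTensor U y) := by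
      intro y
      induction y with
      | zero => simp
      | add y z hy hz => simp only [map_add, hy, hz]
      | tmul a c => simp [hρ]
    have hi' : TensorProduct.map (i : C →ₗ[k] D) (i : C →ₗ[k] D) ∘ₗ Coalgebra.comul =
        Coalgebra.comul ∘ₗ (i : C →ₗ[k] D) := i.map_comp_comul
    rw [e1, e2, hρ, hc, ← LinearMap.lTensor_comp_apply, hi', LinearMap.lTensor_comp_apply, hρ]
  · refine LinearMap.ext fun v => ?_
    simp only [LinearMap.comp_apply]
    rw [← (show Coalgebra.counit ∘ₗ (i : C →ₗ[k] D) = Coalgebra.counit from i.counit_comp),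
      LinearMap.lTensor_comp_apply, hρ]
    exact LinearMap.congr_fun (HopfRep.Comod.counit_comp (k := k) (A := D) (V := U)) v

theorem exists_least_admissible :
    ∃ K : Submodule k U, HopfRep.IsSubcomod (k := k) (A := D) K ∧
      (∀ v : U, K.mkQ.rTensor D (HopfRep.Comod.coact (k := k) (A := D) v) ∈
        LinearMap.range ((i : C →ₗ[k] D).lTensor (U ⧸ K))) ∧
      ∀ K' : Submodule k U, HopfRep.IsSubcomod (k := k) (A := D) K' →
        (∀ v : U, K'.mkQ.rTensor D (HopfRep.Comod.coact (k := k) (A := D) v) ∈
          LinearMap.range ((i : C →ₗ[k] D).lTensor (U ⧸ K'))) → K ≤ K' := by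
  refine ⟨(Submodule.span (WithConv (D →ₗ[k] k))
    {x : U | ∃ (f : D →ₗ[k] k) (v : U), f ∘ₗ (i : C →ₗ[k] D) = 0 ∧ x = dact f v}).restrictScalars k,
    isSubcomod_restrictScalars _, fun v => ?_, fun K' hK' h' => ?_⟩
  · refine (mem_range_lTensor_map_iff _).mpr fun f hf => ?_
    rw [rcon_rTensor, Submodule.mkQ_apply, Submodule.Quotient.mk_eq_zero]
    exact Submodule.subset_span ⟨f, v, hf, rfl⟩
  · intro x hx
    refine (Submodule.span_le (p := toDual K' hK')).mpr ?_ hx
    rintro _ ⟨f, v, hf, rfl⟩
    have h1 := (mem_range_lTensor_map_iff _).mp (h' v) f hf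
    rwa [rcon_rTensor, Submodule.mkQ_apply, Submodule.Quotient.mk_eq_zero] at h1

end Lift

theorem simple_iff_isotypic [Nontrivial C] :
    (∀ B : Submodule k C, (∀ b ∈ B, CoalgebraStruct.comul (R := k) b ∈ LinearMap.range (TensorProduct.map B.subtype B.subtype)) → B = ⊥ ∨ B = ⊤) ↔
    ∃ (E : Type v) (_ : AddCommGroup E) (_ : Module k E) (_ : HopfRep.Comod k C E),
      HopfRep.IsSimpleComod k C E ∧
      ∃ (ι : Type v) (f : ι → (E →ₗ[k] C)),
        (∀ i, Hoch.IsComodHom C (f i) ∧ Function.Injective (f i)) ∧
        iSupIndep (fun i => LinearMap.range (f i)) ∧ (⨆ i, LinearMap.range (f i)) = ⊤ := by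
  constructor
  · intro hsimple
    have h : IsSimpleSubcoalg (⊤ : Submodule k C) := ⟨top_ne_bot,
      isSubcoalg_restrictScalars_iff (N := (⊤ : Submodule 𝔇 C)).mpr (fun f => le_top),
      fun B _ hB => hsimple B hB⟩
    haveI : IsSemisimpleModule 𝔇 C := by
      haveI := h.isSemisimpleModule
      have h' : IsSemisimpleModule 𝔇 (toDual (⊤ : Submodule k C) h.2.1.isSubcomod) := h.isSemisimpleModule
      haveI := h'
      exact (Submodule.topEquiv (R := 𝔇) (M := C)).isSemisimpleModule_iff.mp h'
    obtain ⟨E, hE, -, hEs, he⟩ := h.exists_simple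
    letI := subComod E hE
    haveI : IsSimpleModule 𝔇 E := by
      refine IsSimpleModule.congr (R := 𝔇) (N := toDual E hE) ?_
      exact subEquiv E hE
    obtain ⟨s, hind, hsup, hs⟩ := IsSemisimpleModule.exists_sSupIndep_sSup_simples_eq_top 𝔇 C
    have heq : ∀ m : s, Nonempty (m.1 ≃ₗ[𝔇] E) := fun m => by
      haveI := hs _ m.2
      refine equiv_of_le_coef (k := k) (V := E) (S := m.1) ?_
      intro x _
      show x ∈ (coef k C E).restrictScalars k
      rw [he]; trivial
    let F : s → (E →ₗ[𝔇] C) := fun m => m.1.subtype.comp (heq m).some.symm.toLinearMap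
    have hF : ∀ m, LinearMap.range (F m) = m.1 := fun m => by
      rw [LinearMap.range_comp, LinearEquiv.range, Submodule.map_top, Submodule.range_subtype]
    refine ⟨E, inferInstance, inferInstance, subComod E hE, isSimpleComod_iff.mpr ‹_›, s,
      fun m => (F m).restrictScalars k, fun m => ⟨isComodHom_restrictScalars _,
        m.1.injective_subtype.comp (heq m).some.symm.injective⟩, ?_, ?_⟩
    · have := iSupIndep_restrictScalars (S := k) (p := fun m => LinearMap.range (F m))
        (by simpa only [hF] using (sSupIndep_iff _).mp hind)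
      exact this
    · show (⨆ m, (LinearMap.range (F m)).restrictScalars k) = ⊤
      rw [← Submodule.restrictScalars_iSup]
      simp only [hF]
      rw [← sSup_eq_iSup', hsup, Submodule.restrictScalars_top]
  · rintro ⟨E, _, _, _, hE, ι, f, hf, -, htop⟩ B hB
    haveI := isSimpleComod_iff.mp hE
    have htop' : (coef k C E).restrictScalars k = ⊤ := by
      rw [eq_top_iff, ← htop, iSup_le_iff]
      rintro i _ ⟨x, rfl⟩
      rw [Submodule.restrictScalars_mem, show f i x = toDualHom (f i) (hf i).1 x from rfl,
        eq_coefMap (toDualHom (f i) (hf i).1)]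
      exact coefMap_mem_coef _ _
    have h := (coef_simple (k := k) (C := C) (V := E)).2.2 B (by rw [htop']; exact le_top) hB
    rwa [htop'] at h

end Groth.Agent.Comodule
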