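import Groth.Prelude.Def_W4c1tameactTame
import Groth.Agent.Comodule.Antipode

/-! Total integrals, Reynolds retractions and invariant rings of tame actions. -/

set_option autoImplicit false
universe u v w w'

open TensorProduct WithConv

noncomputable section

namespace Groth.Agent.Comodule

section Ind

variable {k : Type u} [CommRing k] {A : Type v} [AddCommGroup A] [Module k A] [Coalgebra k A]
variable {M : Type w} [AddCommGroup M] [Module k M] [HopfRep.Comod k A M]
variable {N : Type w'} [AddCommGroup N] [Module k N]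

theorem isComodHom_indLift (h : M →ₗ[k] N) : Hoch.IsComodHom A
    ((Hoch.Ind.equiv k A N).toLinearMap ∘ₗ h.rTensor A ∘ₗ HopfRep.Comod.coact (k := k) (A := A)) := by
  refine LinearMap.ext fun m => ?_
  have hc := LinearMap.congr_fun (HopfRep.Comod.coassoc (k := k) (A := A) (V := M)) m
  simp only [LinearMap.comp_apply, LinearEquiv.coe_coe] at hc ⊢
  let ρ := HopfRep.Comod.coact (k := k) (A := A) (V := M)
  change Hoch.Ind.coactAux k A N (h.rTensor A (ρ m)) = (h.rTensor A ∘ₗ ρ).rTensor A (ρ m)
  have e1 : ∀ y : M ⊗[k] A, Hoch.Ind.coactAux k A N (h.rTensor A y) =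
      (h.rTensor A).rTensor A ((TensorProduct.assoc k M A A).symm (Coalgebra.comul.lTensor M y)) := by
    intro y
    induction y with
    | zero => simp
    | add p q hp hq => simp only [map_add, hp, hq]
    | tmul p a =>
      simp only [LinearMap.rTensor_tmul, Hoch.Ind.coactAux_tmul, LinearMap.lTensor_tmul]
      generalize Coalgebra.comul (R := k) a = z
      induction z with
      | zero => simp
      | add p q hp hq => simp only [TensorProduct.tmul_add, map_add, hp, hq]
      | tmul x y => simp
  rw [e1, ← hc, LinearEquiv.symm_apply_apply, ← LinearMap.rTensor_comp_apply]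

theorem indCounit_indLift (h : M →ₗ[k] N) : Hoch.Ind.counit k A N ∘ₗ
    ((Hoch.Ind.equiv k A N).toLinearMap ∘ₗ h.rTensor A ∘ₗ HopfRep.Comod.coact (k := k) (A := A)) = h := by
  refine LinearMap.ext fun m => ?_
  simp only [LinearMap.comp_apply, LinearEquiv.coe_coe, Hoch.Ind.counit, LinearEquiv.symm_apply_apply]
  have e : (Coalgebra.counit (R := k) (A := A)).lTensor N ∘ₗ h.rTensor A =
      h.rTensor k ∘ₗ (Coalgebra.counit (R := k) (A := A)).lTensor M := by
    rw [LinearMap.lTensor_comp_rTensor, LinearMap.rTensor_comp_lTensor]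
  rw [show (Coalgebra.counit (R := k) (A := A)).lTensor N (h.rTensor A (HopfRep.Comod.coact (k := k) (A := A) m)) =
    h.rTensor k ((Coalgebra.counit (R := k) (A := A)).lTensor M (HopfRep.Comod.coact (k := k) (A := A) m)) from
      LinearMap.congr_fun e _]
  rw [show (Coalgebra.counit (R := k) (A := A)).lTensor M (HopfRep.Comod.coact (k := k) (A := A) m) = m ⊗ₜ[k] 1 from
    LinearMap.congr_fun (HopfRep.Comod.counit_comp (k := k) (A := A) (V := M)) m]
  simp

theorem indLift_existsUnique (f : M →ₗ[k] Hoch.Ind k A N) (hf : Hoch.IsComodHom A f) :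
    ∃! h : M →ₗ[k] N,
      f = (Hoch.Ind.equiv k A N).toLinearMap ∘ₗ h.rTensor A ∘ₗ HopfRep.Comod.coact (k := k) (A := A) := by
  refine ⟨Hoch.Ind.counit k A N ∘ₗ f, LinearMap.ext fun m => ?_, fun h hh => by rw [hh, indCounit_indLift]⟩
  have h1 := LinearMap.congr_fun hf m
  simp only [LinearMap.comp_apply, LinearEquiv.coe_coe] at h1 ⊢
  rw [LinearMap.rTensor_comp_apply, ← h1]
  generalize f m = z
  change z = (Hoch.Ind.equiv k A N) ((Hoch.Ind.counit k A N).rTensor A (Hoch.Ind.coactAux k A N z))
  let cu : N ⊗[k] A →ₗ[k] N :=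
    (TensorProduct.rid k N).toLinearMap ∘ₗ (Coalgebra.counit (R := k) (A := A)).lTensor N
  have e : ∀ y : N ⊗[k] A, cu.rTensor A (Hoch.Ind.coactAux k A N y) = y := by
    intro y
    induction y with
    | zero => simp
    | add p q hp hq => simp only [map_add, hp, hq]
    | tmul n a =>
      have e2 : ∀ z : A ⊗[k] A, cu.rTensor A ((TensorProduct.assoc k N A A).symm (n ⊗ₜ[k] z)) =
          n ⊗ₜ[k] (TensorProduct.lid k A ((Coalgebra.counit (R := k) (A := A)).rTensor A z)) := by
        intro z
        induction z with
        | zero => simp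
        | add p q hp hq => simp only [TensorProduct.tmul_add, map_add, hp, hq]
        | tmul x y => simp [cu, TensorProduct.smul_tmul]
      rw [Hoch.Ind.coactAux_tmul, e2, Coalgebra.rTensor_counit_comul, TensorProduct.lid_tmul, one_smul]
  exact (e z).symm

theorem isComodHom_toInd_injective :
    Hoch.IsComodHom A (Hoch.toInd k A M) ∧ Function.Injective (Hoch.toInd k A M) := by
  have e : Hoch.toInd k A M = (Hoch.Ind.equiv k A M).toLinearMap ∘ₗ (LinearMap.id : M →ₗ[k] M).rTensor A ∘ₗ
      HopfRep.Comod.coact (k := k) (A := A) := by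
    rw [LinearMap.rTensor_id, LinearMap.id_comp]; rfl
  refine ⟨e ▸ isComodHom_indLift _, fun x y h => ?_⟩
  have h1 := congrArg (Hoch.Ind.counit k A M) h
  rw [e] at h1
  simpa only [← LinearMap.comp_apply, indCounit_indLift, LinearMap.id_apply] using h1

end Ind

section Tame

variable {k : Type u} [CommRing k] {A : Type v} [CommRing A] [HopfAlgebra k A]
variable {B : Type w} [CommRing B] [Algebra k B] [HopfRep.Comod k A B] [GLin.IsCoactAlg k A B]
variable {T : Type w'} [CommRing T] [Algebra k T]

/-- Move a point of the space by a point of the group. -/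
def movePt (f : B →ₐ[k] T) (g : A →ₐ[k] T) : B →ₐ[k] T :=
  (Algebra.TensorProduct.lift f g fun _ _ => Commute.all _ _).comp (GLin.coactAlgHom k A B)

theorem movePt_movePt (f : B →ₐ[k] T) (g h : A →ₐ[k] T) :
    movePt (movePt f g) h = movePt f (toConv g * toConv h).ofConv := by
  refine AlgHom.ext fun b => ?_
  have hc := LinearMap.congr_fun (HopfRep.Comod.coassoc (k := k) (A := A) (V := B)) b
  simp only [LinearMap.comp_apply, LinearEquiv.coe_coe] at hc
  let L : B ⊗[k] (A ⊗[k] A) →ₗ[k] T := TensorProduct.lift (LinearMap.mul k T) ∘ₗ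
    TensorProduct.map f.toLinearMap (Algebra.TensorProduct.lift g h fun _ _ => Commute.all _ _).toLinearMap
  simp only [movePt, AlgHom.comp_apply, GLin.coactAlgHom_apply]
  have e1 : ∀ y : B ⊗[k] A, Algebra.TensorProduct.lift (movePt f g) h (fun _ _ => Commute.all _ _) y =
      L (TensorProduct.assoc k B A A ((HopfRep.Comod.coact (k := k) (A := A)).rTensor A y)) := by
    intro y
    induction y with
    | zero => simp
    | add p q hp hq => simp only [map_add, hp, hq]
    | tmul x a =>
      simp only [Algebra.TensorProduct.lift_tmul, LinearMap.rTensor_tmul, movePt, AlgHom.comp_apply,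
        GLin.coactAlgHom_apply]
      generalize HopfRep.Comod.coact (k := k) (A := A) x = z
      induction z with
      | zero => simp
      | add p q hp hq => simp only [TensorProduct.add_tmul, map_add, add_mul, hp, hq]
      | tmul p c => simp [L, mul_assoc]
  have e2 : ∀ y : B ⊗[k] A, L (Coalgebra.comul.lTensor B y) =
      Algebra.TensorProduct.lift f (toConv g * toConv h).ofConv (fun _ _ => Commute.all _ _) y := by
    intro y
    induction y with
    | zero => simp
    | add p q hp hq => simp only [map_add, hp, hq]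
    | tmul x a => simp [L, AlgHom.convMul_apply]
  exact (e1 _).trans ((congrArg L hc).trans (e2 _))

theorem movePt_one (f : B →ₐ[k] T) : movePt f (1 : WithConv (A →ₐ[k] T)).ofConv = f := by
  refine AlgHom.ext fun b => ?_
  have hc := LinearMap.congr_fun (HopfRep.Comod.counit_comp (k := k) (A := A) (V := B)) b
  simp only [LinearMap.comp_apply] at hc
  have e : ∀ y : B ⊗[k] A,
      Algebra.TensorProduct.lift f (1 : WithConv (A →ₐ[k] T)).ofConv (fun _ _ => Commute.all _ _) y =
        f (TensorProduct.rid k B ((Coalgebra.counit (R := k) (A := A)).lTensor B y)) := by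
    intro y
    induction y with
    | zero => simp
    | add p q hp hq => simp only [map_add, hp, hq]
    | tmul x a =>
      simp only [Algebra.TensorProduct.lift_tmul, AlgHom.convOne_apply, LinearMap.lTensor_tmul,
        TensorProduct.rid_tmul, map_smul]
      rw [Algebra.smul_def, mul_comm]
  refine (e _).trans ?_
  refine (congrArg (fun z => f (TensorProduct.rid k B z)) hc).trans ?_
  simp

theorem comp_antipode_mul (f : A →ₐ[k] T) :
    toConv (f.comp (HopfAlgebra.antipodeAlgHom k A)) * toConv f = 1 := by
  refine WithConv.ofConv_injective (AlgHom.ext fun a => ?_)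
  rw [AlgHom.convMul_apply, AlgHom.convOne_apply, ← f.commutes (Coalgebra.counit (R := k) a),
    ← HopfAlgebra.mul_antipode_rTensor_comul_apply (R := k) a]
  induction Coalgebra.comul (R := k) a with
  | zero => simp
  | tmul x y => simp
  | add x y hx hy => simp only [map_add, hx, hy]

theorem mul_comp_antipode (f : A →ₐ[k] T) :
    toConv f * toConv (f.comp (HopfAlgebra.antipodeAlgHom k A)) = 1 := by
  refine WithConv.ofConv_injective (AlgHom.ext fun a => ?_)
  rw [AlgHom.convMul_apply, AlgHom.convOne_apply, ← f.commutes (Coalgebra.counit (R := k) a),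
    ← HopfAlgebra.mul_antipode_lTensor_comul_apply (R := k) a]
  induction Coalgebra.comul (R := k) a with
  | zero => simp
  | tmul x y => simp
  | add x y hx hy => simp only [map_add, hx, hy]

local notation "S" => HopfAlgebra.antipodeAlgHom k A
local notation "iB" => (Algebra.TensorProduct.includeLeft : B →ₐ[k] B ⊗[k] A)
local notation "iA" => (Algebra.TensorProduct.includeRight : A →ₐ[k] B ⊗[k] A)

variable (k A B) in
/-- The untwisting `b ⊗ a ↦ Σ b₀ ⊗ S(b₁) a`. -/
def untwist : B ⊗[k] A →ₐ[k] B ⊗[k] A :=
  Algebra.TensorProduct.lift (movePt iB ((iA).comp S)) iA fun _ _ => Commute.all _ _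

theorem untwist_includeLeft : (untwist k A B).comp iB = movePt iB ((iA).comp S) :=
  AlgHom.ext fun b => by simp [untwist]

theorem untwist_includeRight : (untwist k A B).comp iA = iA := AlgHom.ext fun a => by simp [untwist]

theorem untwist_coact (b : B) : untwist k A B (GLin.coactAlgHom k A B b) = b ⊗ₜ[k] (1 : A) := by
  have e : (untwist k A B).comp (GLin.coactAlgHom k A B) = movePt (movePt iB ((iA).comp S)) iA := by
    have h2 : untwist k A B = Algebra.TensorProduct.lift (movePt iB ((iA).comp S)) iA (fun _ _ => Commute.all _ _) := rfl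
    rw [h2]; rfl
  rw [← AlgHom.comp_apply, e, movePt_movePt, comp_antipode_mul, movePt_one]
  rfl

variable (α : A →ₗ[k] B)

variable (k A B) in
/-- `b ⊗ a ↦ b α(a)`. -/
def mulInt : B ⊗[k] A →ₗ[k] B := LinearMap.mul' k B ∘ₗ α.lTensor B

theorem mulInt_tmul (b : B) (a : A) : mulInt k A B α (b ⊗ₜ[k] a) = b * α a := by simp [mulInt]

variable (k A B) in
/-- The coaction moved onto `B ⊗ A`, keeping the middle factor. -/
def liftCoact : B ⊗[k] A →ₐ[k] (B ⊗[k] A) ⊗[k] A :=
  Algebra.TensorProduct.lift
    ((Algebra.TensorProduct.map iB (AlgHom.id k A)).comp (GLin.coactAlgHom k A B))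
    ((Algebra.TensorProduct.map iA (AlgHom.id k A)).comp (Bialgebra.comulAlgHom k A))
    fun _ _ => Commute.all _ _

variable (k A B) in
/-- The coaction of the free comodule, as an algebra map. -/
def freeCoact : B ⊗[k] A →ₐ[k] (B ⊗[k] A) ⊗[k] A :=
  Algebra.TensorProduct.lift
    ((Algebra.TensorProduct.includeLeft : B ⊗[k] A →ₐ[k] (B ⊗[k] A) ⊗[k] A).comp iB)
    ((Algebra.TensorProduct.map iA (AlgHom.id k A)).comp (Bialgebra.comulAlgHom k A))
    fun _ _ => Commute.all _ _

omit [HopfRep.Comod k A B] [GLin.IsCoactAlg k A B] in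
theorem freeCoact_eq (z : B ⊗[k] A) : freeCoact k A B z = Hoch.Ind.coactAux k A B z := by
  induction z with
  | zero => simp
  | add p q hp hq => simp only [map_add, hp, hq]
  | tmul b a =>
    simp only [freeCoact, Algebra.TensorProduct.lift_tmul, AlgHom.comp_apply, Bialgebra.comulAlgHom_apply,
      Hoch.Ind.coactAux_tmul]
    generalize Coalgebra.comul (R := k) a = y
    induction y with
    | zero => simp
    | add p q hp hq => simp only [map_add, TensorProduct.tmul_add, mul_add, hp, hq]
    | tmul x y => simp [Algebra.TensorProduct.tmul_mul_tmul]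

theorem liftCoact_untwist :
    (liftCoact k A B).comp (untwist k A B) =
      (Algebra.TensorProduct.map (untwist k A B) (AlgHom.id k A)).comp (freeCoact k A B) := by
  refine Algebra.TensorProduct.ext ?_ ?_
  · let j1 : B →ₐ[k] (B ⊗[k] A) ⊗[k] A := Algebra.TensorProduct.includeLeft.comp iB
    let j2 : A →ₐ[k] (B ⊗[k] A) ⊗[k] A := Algebra.TensorProduct.includeLeft.comp iA
    let j3 : A →ₐ[k] (B ⊗[k] A) ⊗[k] A := Algebra.TensorProduct.includeRight
    have e1 : (liftCoact k A B).comp iB = movePt j1 j3 := by
      refine AlgHom.ext fun b => ?_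
      simp only [liftCoact, AlgHom.comp_apply, Algebra.TensorProduct.includeLeft_apply,
        Algebra.TensorProduct.lift_tmul, map_one, mul_one, movePt, GLin.coactAlgHom_apply]
      generalize HopfRep.Comod.coact (k := k) (A := A) b = z
      induction z with
      | zero => simp
      | add p q hp hq => simp only [map_add, hp, hq]
      | tmul x a => simp [j1, j3, Algebra.TensorProduct.tmul_mul_tmul]
    have e2 : toConv (((liftCoact k A B).comp iA).comp S) = toConv (j3.comp S) * toConv (j2.comp S) := by
      refine WithConv.ofConv_injective (AlgHom.ext fun a => ?_)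
      rw [AlgHom.convMul_apply]
      simp only [liftCoact, AlgHom.comp_apply, Algebra.TensorProduct.includeRight_apply,
        Algebra.TensorProduct.lift_tmul, map_one, one_mul, Bialgebra.comulAlgHom_apply, ofConv_toConv,
        HopfAlgebra.antipodeAlgHom_apply, comul_antipode]
      generalize Coalgebra.comul (R := k) a = z
      induction z with
      | zero => simp
      | add p q hp hq => simp only [map_add, hp, hq]
      | tmul x y => simp [j2, j3, Algebra.TensorProduct.tmul_mul_tmul]
    have hL : ((liftCoact k A B).comp (untwist k A B)).comp iB =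
        movePt ((liftCoact k A B).comp iB) (((liftCoact k A B).comp iA).comp S) := by
      rw [AlgHom.comp_assoc, untwist_includeLeft]
      refine AlgHom.ext fun b => ?_
      simp only [movePt, AlgHom.comp_apply, GLin.coactAlgHom_apply]
      generalize HopfRep.Comod.coact (k := k) (A := A) b = z
      induction z with
      | zero => simp
      | add p q hp hq => simp only [map_add, hp, hq]
      | tmul x a =>
        simp only [Algebra.TensorProduct.lift_tmul, AlgHom.comp_apply, Algebra.TensorProduct.includeLeft_apply,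
          Algebra.TensorProduct.includeRight_apply, ← map_mul, Algebra.TensorProduct.tmul_mul_tmul, mul_one, one_mul]
    have hR : (((Algebra.TensorProduct.map (untwist k A B) (AlgHom.id k A)).comp (freeCoact k A B))).comp iB =
        movePt j1 (j2.comp S) := by
      refine AlgHom.ext fun b => ?_
      simp only [freeCoact, AlgHom.comp_apply, Algebra.TensorProduct.includeLeft_apply,
        Algebra.TensorProduct.lift_tmul, map_one, mul_one, Algebra.TensorProduct.map_tmul, AlgHom.id_apply,
        untwist, movePt, GLin.coactAlgHom_apply]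
      generalize HopfRep.Comod.coact (k := k) (A := A) b = z
      induction z with
      | zero => simp
      | add p q hp hq => simp only [map_add, TensorProduct.add_tmul, hp, hq]
      | tmul x a => simp [j1, j2, Algebra.TensorProduct.tmul_mul_tmul]
    rw [hL, hR, e1, movePt_movePt]
    refine congrArg (movePt j1) ?_
    rw [e2]
    refine congrArg WithConv.ofConv (a₂ := toConv (j2.comp S)) ?_
    exact (mul_assoc (G := WithConv (A →ₐ[k] (B ⊗[k] A) ⊗[k] A)) (toConv j3) (toConv (j3.comp S)) (toConv (j2.comp S))).symm.trans ((congrArg (fun z => z * toConv (j2.comp S)) (mul_comp_antipode j3)).trans (one_mul (M := WithConv (A →ₐ[k] (B ⊗[k] A) ⊗[k] A)) (toConv (j2.comp S))))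
  · refine AlgHom.ext fun a => ?_
    simp only [AlgHom.comp_apply, AlgHom.restrictScalars_apply, Algebra.TensorProduct.includeRight_apply, untwist,
      liftCoact, freeCoact, Algebra.TensorProduct.lift_tmul, map_one, one_mul, Bialgebra.comulAlgHom_apply]
    generalize Coalgebra.comul (R := k) a = z
    induction z with
    | zero => simp
    | add p q hp hq => simp only [map_add, ← hp, ← hq]
    | tmul x y => simp

theorem coact_mulInt (hα : Hoch.IsComodHom A α) (z : B ⊗[k] A) :
    HopfRep.Comod.coact (k := k) (A := A) (mulInt k A B α z) =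
      (mulInt k A B α).rTensor A (liftCoact k A B z) := by
  induction z with
  | zero => simp
  | add p q hp hq => simp only [map_add, hp, hq]
  | tmul b a =>
    have h1 : HopfRep.Comod.coact (k := k) (A := A) (α a) = α.rTensor A (Coalgebra.comul (R := k) a) :=
      LinearMap.congr_fun hα a
    rw [mulInt_tmul, GLin.IsCoactAlg.coact_mul, h1]
    simp only [liftCoact, Algebra.TensorProduct.lift_tmul, AlgHom.comp_apply, GLin.coactAlgHom_apply,
      Bialgebra.comulAlgHom_apply]
    generalize HopfRep.Comod.coact (k := k) (A := A) b = p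
    generalize Coalgebra.comul (R := k) a = q
    induction p with
    | zero => simp
    | add p p' hp hp' => simp only [map_add, add_mul, hp, hp']
    | tmul x c =>
      induction q with
      | zero => simp
      | add q q' hq hq' => simp only [map_add, mul_add, hq, hq']
      | tmul y d => simp [Algebra.TensorProduct.tmul_mul_tmul, mulInt_tmul]

variable (k A B) in
/-- The retraction of the coaction given by a total integral. -/
def tameRetr : Hoch.Ind k A B →ₗ[k] B :=
  mulInt k A B α ∘ₗ (untwist k A B).toLinearMap ∘ₗ (Hoch.Ind.equiv k A B).symm.toLinearMap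

theorem isComodHom_tameRetr (hα : Hoch.IsComodHom A α) : Hoch.IsComodHom A (tameRetr k A B α) := by
  refine LinearMap.ext fun z => ?_
  have key : ∀ y : B ⊗[k] A, HopfRep.Comod.coact (k := k) (A := A) (mulInt k A B α (untwist k A B y)) =
      (mulInt k A B α ∘ₗ (untwist k A B).toLinearMap).rTensor A (Hoch.Ind.coactAux k A B y) := by
    intro y
    rw [coact_mulInt α hα, show liftCoact k A B (untwist k A B y) =
      Algebra.TensorProduct.map (untwist k A B) (AlgHom.id k A) (freeCoact k A B y) from
        DFunLike.congr_fun liftCoact_untwist y, freeCoact_eq, LinearMap.rTensor_comp_apply]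
    rfl
  exact key _

theorem tameRetr_toInd (h1 : α 1 = 1) : tameRetr k A B α ∘ₗ Hoch.toInd k A B = LinearMap.id := by
  refine LinearMap.ext fun b => ?_
  change mulInt k A B α (untwist k A B (GLin.coactAlgHom k A B b)) = b
  rw [untwist_coact, mulInt_tmul, h1, mul_one]

variable (k A B) in
theorem totalIntegral_iff : (∃ α : A →ₗ[k] B, Hoch.IsComodHom A α ∧ α 1 = 1) ↔
    ∃ lam : Hoch.Ind k A B →ₗ[k] B, Hoch.IsComodHom A lam ∧ lam ∘ₗ Hoch.toInd k A B = LinearMap.id := by
  constructor
  · rintro ⟨α, hα, h1⟩
    exact ⟨tameRetr k A B α, isComodHom_tameRetr α hα, tameRetr_toInd α h1⟩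
  · rintro ⟨lam, hlam, hl⟩
    let j : A →ₗ[k] Hoch.Ind k A B := (Hoch.Ind.equiv k A B).toLinearMap ∘ₗ TensorProduct.mk k B A 1
    have hj : ∀ a, HopfRep.Comod.coact (k := k) (A := A) (j a) = j.rTensor A (Coalgebra.comul (R := k) a) := by
      intro a
      change Hoch.Ind.coactAux k A B ((1 : B) ⊗ₜ[k] a) = _
      rw [Hoch.Ind.coactAux_tmul]
      let j₀ : A →ₗ[k] B ⊗[k] A := TensorProduct.mk k B A 1
      change _ = j₀.rTensor A (Coalgebra.comul (R := k) a)
      generalize Coalgebra.comul (R := k) a = z
      induction z with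
      | zero => simp
      | add p q hp hq => simp only [TensorProduct.tmul_add, map_add, hp, hq]
      | tmul x y => rfl
    refine ⟨lam ∘ₗ j, LinearMap.ext fun a => ?_, ?_⟩
    · simp only [LinearMap.comp_apply, LinearMap.rTensor_comp_apply]
      exact (LinearMap.congr_fun hlam (j a)).trans (congrArg (lam.rTensor A) (hj a))
    · have h := LinearMap.congr_fun hl 1
      simp only [LinearMap.comp_apply, LinearMap.id_apply, Hoch.toInd] at h
      rw [GLin.IsCoactAlg.coact_one (k := k) (A := A) (R := B)] at h
      exact h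

theorem tameRetr_fixed (hα : Hoch.IsComodHom A α) (b : B) :
    tameRetr k A B α (Hoch.Ind.equiv k A B (b ⊗ₜ[k] 1)) ∈ GLin.invariants k A B := by
  rw [GLin.mem_invariants_iff]
  refine (LinearMap.congr_fun (isComodHom_tameRetr α hα) _).trans ?_
  change (tameRetr k A B α).rTensor A (Hoch.Ind.coactAux k A B (b ⊗ₜ[k] (1 : A))) = _
  rw [Hoch.Ind.coactAux_tmul, Bialgebra.comul_one, Algebra.TensorProduct.one_def, TensorProduct.assoc_symm_tmul]
  rfl

variable (k A B) in
/-- The Reynolds retraction onto the invariants. -/
def reynoldsInv (hα : Hoch.IsComodHom A α) : B →ₗ[GLin.invariants k A B] GLin.invariants k A B where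
  toFun b := ⟨tameRetr k A B α (Hoch.Ind.equiv k A B (b ⊗ₜ[k] 1)), tameRetr_fixed α hα b⟩
  map_add' x y := Subtype.ext (by simp [TensorProduct.add_tmul, map_add])
  map_smul' c b := by
    refine Subtype.ext ?_
    change mulInt k A B α (untwist k A B (((c : B) * b) ⊗ₜ[k] (1 : A))) =
      (c : B) * mulInt k A B α (untwist k A B (b ⊗ₜ[k] (1 : A)))
    have hc : untwist k A B ((c : B) ⊗ₜ[k] (1 : A)) = (c : B) ⊗ₜ[k] (1 : A) := by
      have h := untwist_coact (k := k) (A := A) (c : B)
      rwa [GLin.coactAlgHom_apply, (GLin.mem_invariants_iff _ _ _ _).mp c.2] at h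
    rw [show ((c : B) * b) ⊗ₜ[k] (1 : A) = ((c : B) ⊗ₜ[k] (1 : A)) * (b ⊗ₜ[k] 1) by
      rw [Algebra.TensorProduct.tmul_mul_tmul, one_mul], map_mul, hc]
    generalize untwist k A B (b ⊗ₜ[k] (1 : A)) = z
    induction z with
    | zero => simp
    | add p q hp hq => simp only [mul_add, map_add, hp, hq]
    | tmul x a => simp [Algebra.TensorProduct.tmul_mul_tmul, mulInt_tmul, mul_assoc]

theorem reynoldsInv_coe (hα : Hoch.IsComodHom A α) (h1 : α 1 = 1) (c : GLin.invariants k A B) :
    reynoldsInv k A B α hα (c : B) = c := by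
  refine Subtype.ext ?_
  have h := LinearMap.congr_fun (tameRetr_toInd α h1) (c : B)
  simp only [LinearMap.comp_apply, LinearMap.id_apply, Hoch.toInd] at h
  rwa [(GLin.mem_invariants_iff _ _ _ _).mp c.2] at h

theorem comap_map_invariants (hα : Hoch.IsComodHom A α) (h1 : α 1 = 1) (c : Ideal (GLin.invariants k A B)) :
    (c.map (algebraMap (GLin.invariants k A B) B)).comap (algebraMap (GLin.invariants k A B) B) = c := by
  refine le_antisymm (fun x hx => ?_) Ideal.le_comap_map
  have key : ∀ y ∈ c.map (algebraMap (GLin.invariants k A B) B), reynoldsInv k A B α hα y ∈ c := by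
    intro y hy
    suffices h : ∀ b : B, reynoldsInv k A B α hα (b * y) ∈ c by simpa using h 1
    induction hy using Submodule.span_induction with
    | mem z hz =>
      obtain ⟨z, hz, rfl⟩ := hz
      intro b
      rw [mul_comm, ← Algebra.smul_def, map_smul]
      exact c.mul_mem_right _ hz
    | zero => intro b; simp
    | add p q _ _ hp hq => intro b; rw [mul_add, map_add]; exact c.add_mem (hp b) (hq b)
    | smul r p _ hp => intro b; rw [smul_eq_mul, ← mul_assoc]; exact hp _
  simpa [reynoldsInv_coe α hα h1] using key _ hx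

theorem reynoldsInv_mem (hα : Hoch.IsComodHom A α) (b : Ideal B)
    (hb : HopfRep.IsSubcomod (k := k) (A := A) (b.restrictScalars k)) {x : B} (hx : x ∈ b) :
    (reynoldsInv k A B α hα x : B) ∈ b := by
  change mulInt k A B α (untwist k A B (x ⊗ₜ[k] (1 : A))) ∈ b
  obtain ⟨z, hz⟩ := hb x hx
  rw [untwist, Algebra.TensorProduct.lift_tmul, map_one, mul_one, movePt, AlgHom.comp_apply, GLin.coactAlgHom_apply,
    ← hz]
  clear hz
  induction z with
  | zero => simp
  | add p q hp hq => simp only [map_add]; exact b.add_mem hp hq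
  | tmul p a =>
    simp only [LinearMap.rTensor_tmul, Submodule.subtype_apply, Algebra.TensorProduct.lift_tmul, AlgHom.comp_apply,
      Algebra.TensorProduct.includeLeft_apply, Algebra.TensorProduct.includeRight_apply,
      Algebra.TensorProduct.tmul_mul_tmul, one_mul, mul_one, mulInt_tmul]
    exact b.mul_mem_right _ p.2

theorem comap_sup_invariants (hα : Hoch.IsComodHom A α) (h1 : α 1 = 1) (b : Ideal B)
    (hb : HopfRep.IsSubcomod (k := k) (A := A) (b.restrictScalars k)) (P : Ideal (GLin.invariants k A B))
    (hP : b.comap (algebraMap (GLin.invariants k A B) B) ≤ P) :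
    (b ⊔ P.map (algebraMap (GLin.invariants k A B) B)).comap (algebraMap (GLin.invariants k A B) B) = P := by
  refine le_antisymm (fun x hx => ?_) fun x hx => Ideal.mem_sup_right (Ideal.mem_map_of_mem _ hx)
  obtain ⟨y, hy, z, hz, hyz⟩ := Submodule.mem_sup.mp (Ideal.mem_comap.mp hx)
  have e : reynoldsInv k A B α hα y + reynoldsInv k A B α hα z = x := by
    rw [← map_add, hyz]; exact reynoldsInv_coe α hα h1 x
  rw [← e]
  refine P.add_mem (hP (Ideal.mem_comap.mpr (reynoldsInv_mem α hα b hb hy))) ?_
  have key : ∀ w ∈ P.map (algebraMap (GLin.invariants k A B) B), ∀ r : B, reynoldsInv k A B α hα (r * w) ∈ P := by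
    intro w hw
    induction hw using Submodule.span_induction with
    | mem z hz =>
      obtain ⟨z, hz, rfl⟩ := hz
      intro b
      rw [mul_comm, ← Algebra.smul_def, map_smul]
      exact P.mul_mem_right _ hz
    | zero => intro b; simp
    | add p q _ _ hp hq => intro b; rw [mul_add, map_add]; exact P.add_mem (hp b) (hq b)
    | smul r p _ hp => intro b; rw [smul_eq_mul, ← mul_assoc]; exact hp _
  simpa using key z hz 1

theorem image_zeroLocus (hα : Hoch.IsComodHom A α) (h1 : α 1 = 1) (b : Ideal B)
    (hb : HopfRep.IsSubcomod (k := k) (A := A) (b.restrictScalars k)) :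
    PrimeSpectrum.comap (algebraMap (GLin.invariants k A B) B) '' PrimeSpectrum.zeroLocus (b : Set B) =
      PrimeSpectrum.zeroLocus
        ((b.comap (algebraMap (GLin.invariants k A B) B) : Ideal (GLin.invariants k A B)) :
          Set (GLin.invariants k A B)) := by
  refine Set.Subset.antisymm ?_ ?_
  · rintro _ ⟨Q, hQ, rfl⟩
    intro x hx
    exact hQ hx
  · intro P hP
    have hc := comap_sup_invariants α hα h1 b hb P.asIdeal hP
    let f := algebraMap (GLin.invariants k A B) B
    obtain ⟨Q, hQ, hle, hdis⟩ := Ideal.exists_le_prime_disjoint (b ⊔ P.asIdeal.map f)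
      (P.asIdeal.primeCompl.map f) (Set.disjoint_left.mpr fun y hy hy' => by
        obtain ⟨x, hx, rfl⟩ := hy'
        exact hx (hc ▸ Ideal.mem_comap.mpr hy))
    refine ⟨⟨Q, hQ⟩, fun x hx => hle (Ideal.mem_sup_left hx), PrimeSpectrum.ext (le_antisymm ?_ ?_)⟩
    · intro x hx
      by_contra hxP
      exact Set.disjoint_left.mp hdis hx ⟨x, hxP, rfl⟩
    · intro x hx
      exact hle (Ideal.mem_sup_right (Ideal.mem_map_of_mem f hx))

theorem comap_surjective (hα : Hoch.IsComodHom A α) (h1 : α 1 = 1) :
    Function.Surjective (PrimeSpectrum.comap (algebraMap (GLin.invariants k A B) B)) := by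
  intro P
  have hb : HopfRep.IsSubcomod (k := k) (A := A) ((⊥ : Ideal B).restrictScalars k) := fun x hx =>
    ⟨0, by rw [map_zero, show x = 0 from hx, map_zero]⟩
  have h := image_zeroLocus α hα h1 ⊥ hb
  have hP : P ∈ PrimeSpectrum.zeroLocus
      (((⊥ : Ideal B).comap (algebraMap (GLin.invariants k A B) B) : Ideal (GLin.invariants k A B)) :
        Set (GLin.invariants k A B)) := by
    intro x hx
    have h0 : (x : B) = 0 := hx
    rw [show x = 0 from Subtype.ext h0]
    exact P.asIdeal.zero_mem
  rw [← h] at hP
  obtain ⟨Q, -, hQ⟩ := hP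
  exact ⟨Q, hQ⟩

end Tame

section HopfMod

variable {k : Type u} [CommRing k] {A : Type v} [CommRing A] [HopfAlgebra k A]
variable {B : Type w} [CommRing B] [Algebra k B] [HopfRep.Comod k A B] [GLin.IsCoactAlg k A B]
variable {M : Type w'} [AddCommGroup M] [Module k M] [Module B M] [IsScalarTower k B M]
variable [HopfRep.Comod k A M] [TameAct.IsHopfMod k A B M]

variable (k A B M) in
theorem hopfModHom_bij :
    (∀ f : B →ₗ[B] M, Hoch.IsComodHom A (f.restrictScalars k) → f 1 ∈ HopfRep.fixedPts k A M) ∧
      ∀ m ∈ HopfRep.fixedPts k A M,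
        ∃! f : B →ₗ[B] M, Hoch.IsComodHom A (f.restrictScalars k) ∧ f 1 = m := by
  refine ⟨fun f hf => ?_, fun m hm => ⟨LinearMap.toSpanSingleton B M m, ⟨LinearMap.ext fun b => ?_, one_smul _ _⟩,
    fun g hg => LinearMap.ext_ring (by simp [hg.2])⟩⟩
  · have h := LinearMap.congr_fun hf 1
    simp only [LinearMap.comp_apply, LinearMap.coe_restrictScalars] at h
    rw [GLin.IsCoactAlg.coact_one (k := k) (A := A) (R := B), Algebra.TensorProduct.one_def,
      LinearMap.rTensor_tmul] at h
    exact h
  · simp only [LinearMap.comp_apply, LinearMap.coe_restrictScalars, LinearMap.toSpanSingleton_apply]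
    rw [TameAct.IsHopfMod.coact_smul, show HopfRep.Comod.coact (k := k) (A := A) m = m ⊗ₜ[k] (1 : A) from hm]
    generalize HopfRep.Comod.coact (k := k) (A := A) b = z
    induction z with
    | zero => simp
    | add p q hp hq => simp only [map_add, LinearMap.add_apply, hp, hq]
    | tmul x a => simp

end HopfMod

end Groth.Agent.Comodule
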