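import Groth.Agent.Comodule.Extension
import Groth.Prelude.Def_RedSub
import Groth.Prelude.Def_CoactBr
import Mathlib

/-! An affine quotient by a closed subgroup, algebraically. -/

set_option autoImplicit false
universe u

open CategoryTheory MonoidalCategory CartesianMonoidalCategory MonObj AlgebraicGeometry WithConv
open scoped TensorProduct

noncomputable section

namespace Groth.Agent.Comodule.AffineQuotient

variable {k : Type u} [Field k] {AG AH : Type u} [CommRing AG] [HopfAlgebra k AG]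
  [CommRing AH] [HopfAlgebra k AH]

omit [HopfAlgebra k AG] in
theorem pt_surjective [Bialgebra k AG] {T : Type u} [CommRing T] [Algebra k T]
    (u : CoactBr.sp k T ⟶ CoactBr.sp k AG) : ∃ g : AG →ₐ[k] T, CoactBr.pt g = u :=
  ⟨(Spec.mapMulEquiv.symm u).ofConv, Spec.mapMulEquiv.apply_symm_apply u⟩

theorem pt_mul {T : Type u} [CommRing T] [Algebra k T] (g h : AG →ₐ[k] T) :
    CoactBr.pt g * CoactBr.pt h = CoactBr.pt (toConv g * toConv h).ofConv :=
  (map_mul Spec.mapMulEquiv (toConv g) (toConv h)).symm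

variable (ψ : AG →ₐc[k] AH)

theorem lift_whisker_mul {T : Type u} [CommRing T] [Algebra k T] (g : AG →ₐ[k] T) (h : AH →ₐ[k] T) :
    lift (CoactBr.pt g) (CoactBr.pt h) ≫
        (CoactBr.sp k AG ◁ CoactBr.pt (ψ : AG →ₐ[k] AH)) ≫ MonObj.mul (X := CoactBr.sp k AG) =
      CoactBr.pt (toConv g * toConv (h.comp (ψ : AG →ₐ[k] AH))).ofConv := by
  rw [lift_whiskerLeft_assoc, ← CoactBr.pt_comp, ← Hom.mul_def, pt_mul]

variable {Q : Over (Spec (CommRingCat.of k))} (q : CoactBr.sp k AG ⟶ Q) [IsAffine Q.left]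

/-- The ring map of `q`. -/
def qMap : Γ(Q.left, ⊤) →+* AG := (Spec.preimage (q.left ≫ Q.left.isoSpec.hom)).hom

theorem Spec_map_qMap : Spec.map (CommRingCat.ofHom (qMap q)) = q.left ≫ Q.left.isoSpec.hom :=
  Spec.map_preimage _

theorem algebraMap_mem_range (c : k) : algebraMap k AG c ∈ (qMap q).range := by
  let g : CommRingCat.of k ⟶ Γ(Q.left, ⊤) := Spec.preimage (Q.left.isoSpec.inv ≫ Q.hom)
  have h : g ≫ CommRingCat.ofHom (qMap q) = CommRingCat.ofHom (algebraMap k AG) := by
    apply Spec.map_injective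
    rw [Spec.map_comp, Spec_map_qMap, Spec.map_preimage]
    refine (Category.assoc _ _ _).trans ?_
    refine (congrArg (q.left ≫ ·) (Iso.hom_inv_id_assoc Q.left.isoSpec Q.hom)).trans ?_
    exact Over.w q
  exact ⟨g.hom c, congrArg (fun F : CommRingCat.of k ⟶ CommRingCat.of AG => F.hom c) h⟩

theorem pt_comp_eq_iff {T : Type u} [CommRing T] [Algebra k T] (p₁ p₂ : AG →ₐ[k] T) :
    CoactBr.pt p₁ ≫ q = CoactBr.pt p₂ ≫ q ↔
      (p₁ : AG →+* T).comp (qMap q) = (p₂ : AG →+* T).comp (qMap q) := by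
  have key : ∀ p : AG →ₐ[k] T, (CoactBr.pt p ≫ q).left ≫ Q.left.isoSpec.hom =
      Spec.map (CommRingCat.ofHom ((p : AG →+* T).comp (qMap q))) := by
    intro p
    rw [CommRingCat.ofHom_comp, Spec.map_comp, Spec_map_qMap]
    exact Category.assoc _ _ _
  constructor
  · intro h
    have h' : Spec.map (CommRingCat.ofHom ((p₁ : AG →+* T).comp (qMap q))) =
        Spec.map (CommRingCat.ofHom ((p₂ : AG →+* T).comp (qMap q))) := by
      rw [← key, ← key, h]
    exact congrArg CommRingCat.Hom.hom (Spec.map_injective h')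
  · intro h
    ext1
    rw [← cancel_mono Q.left.isoSpec.hom, key, key, h]

variable [IsMonHom (CoactBr.pt (ψ : AG →ₐ[k] AH))] (hq : RedSub.IsQuotient (CoactBr.pt (ψ : AG →ₐ[k] AH)) q)

include hq

theorem faithfullyFlat_qMap : (qMap q).FaithfullyFlat := by
  have h := flat_and_surjective_SpecMap_iff (CommRingCat.ofHom (qMap q))
  refine h.mp ?_
  rw [Spec_map_qMap]
  exact ⟨MorphismProperty.comp_mem @Flat _ _ hq.2.1 inferInstance,
    ⟨Function.Surjective.comp (g := Q.left.isoSpec.hom) Q.left.isoSpec.hom.surjective hq.1.surj⟩⟩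

theorem exists_lift {T : Type u} [CommRing T] [Algebra k T] (p₁ p₂ : AG →ₐ[k] T)
    (h : (p₁ : AG →+* T).comp (qMap q) = (p₂ : AG →+* T).comp (qMap q)) :
    ∃ cc : AH →ₐ[k] T, toConv p₁ * toConv (cc.comp (ψ : AG →ₐ[k] AH)) = toConv p₂ := by
  have sq := hq.2.2.2
  let u := sq.lift (CoactBr.pt p₁) (CoactBr.pt p₂) ((pt_comp_eq_iff q p₁ p₂).mpr h)
  obtain ⟨cc, hcc⟩ := pt_surjective (u ≫ snd _ _)
  refine ⟨cc, ?_⟩
  have hu : u = lift (CoactBr.pt p₁) (CoactBr.pt cc) := by
    apply CartesianMonoidalCategory.hom_ext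
    · rw [lift_fst]; exact sq.lift_fst _ _ _
    · rw [lift_snd, hcc]
  have h2 := sq.lift_snd (CoactBr.pt p₁) (CoactBr.pt p₂) ((pt_comp_eq_iff q p₁ p₂).mpr h)
  rw [show sq.lift _ _ _ = u from rfl, hu] at h2
  rw [lift_whisker_mul] at h2
  exact WithConv.ofConv_injective (CoactBr.pt_injective h2)

theorem mul_comp_qMap {T : Type u} [CommRing T] [Algebra k T] (g : AG →ₐ[k] T) (h : AH →ₐ[k] T) :
    ((toConv g * toConv (h.comp (ψ : AG →ₐ[k] AH))).ofConv : AG →+* T).comp (qMap q) =
      (g : AG →+* T).comp (qMap q) := by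
  refine ((pt_comp_eq_iff q _ _).mp ?_)
  rw [← lift_whisker_mul, Category.assoc, ← hq.2.2.2.w, ← Category.assoc, lift_fst]

omit hq

/-- Left invariants: the translate of the functions on the quotient by the inversion. -/
def invImg : Subalgebra k AG where
  toSubsemiring := (qMap q).rangeS.comap (HopfAlgebra.antipodeAlgHom k AG : AG →+* AG)
  algebraMap_mem' c := by
    show HopfAlgebra.antipodeAlgHom k AG (algebraMap k AG c) ∈ (qMap q).rangeS
    rw [AlgHom.commutes]
    exact algebraMap_mem_range q c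

theorem mem_invImg_iff {a : AG} : a ∈ invImg q ↔ ∃ b, qMap q b = HopfAlgebra.antipode k a := Iff.rfl

theorem antipode_qMap_mem (b : Γ(Q.left, ⊤)) : HopfAlgebra.antipode k (qMap q b) ∈ invImg q :=
  ⟨b, (antipode_antipode k AG (qMap q b)).symm⟩

include hq

theorem faithfullyFlat_invImg : Module.FaithfullyFlat (invImg q) AG := by
  let σ : AG ≃+* AG :=
    { (HopfAlgebra.antipodeAlgHom k AG : AG →+* AG) with
      invFun := HopfAlgebra.antipode k
      left_inv := antipode_antipode k AG
      right_inv := antipode_antipode k AG }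
  let F : Γ(Q.left, ⊤) →+* invImg q := ((σ : AG →+* AG).comp (qMap q)).codRestrict _ (antipode_qMap_mem q)
  have hff : ((σ : AG →+* AG).comp (qMap q)).FaithfullyFlat :=
    RingHom.FaithfullyFlat.stableUnderComposition _ _ (faithfullyFlat_qMap ψ q hq)
      (RingHom.FaithfullyFlat.of_bijective σ.bijective)
  have hF : Function.Bijective F := by
    constructor
    · intro a b hab
      exact hff.injective (congrArg Subtype.val hab)
    · rintro ⟨a, b, hb⟩
      exact ⟨b, Subtype.ext ((congrArg (HopfAlgebra.antipode k) hb).trans (antipode_antipode k AG a))⟩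
  let e := RingEquiv.ofBijective F hF
  have he : ((algebraMap (invImg q) AG).comp (e : Γ(Q.left, ⊤) →+* invImg q)) = (σ : AG →+* AG).comp (qMap q) := rfl
  have h2 : (algebraMap (invImg q) AG) = ((σ : AG →+* AG).comp (qMap q)).comp (e.symm : invImg q →+* Γ(Q.left, ⊤)) := by
    rw [← he, RingHom.comp_assoc]
    ext x
    simp
  rw [← RingHom.faithfullyFlat_algebraMap_iff, h2]
  exact RingHom.FaithfullyFlat.stableUnderComposition _ _
    (RingHom.FaithfullyFlat.of_bijective e.symm.bijective) hff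

theorem delta_invImg (a : AG) (ha : a ∈ invImg q) : delta (k := k) ψ a = a ⊗ₜ[k] (1 : AH) := by
  obtain ⟨b, hb⟩ := ha
  have h := RingHom.congr_fun (mul_comp_qMap ψ q hq (T := AG ⊗[k] AH)
    Algebra.TensorProduct.includeLeft Algebra.TensorProduct.includeRight) b
  simp only [RingHom.comp_apply, RingHom.coe_coe] at h
  rw [AlgHom.convMul_apply] at h
  have hS : a = HopfAlgebra.antipode k (qMap q b) := by
    rw [hb]; exact (antipode_antipode k AG a).symm
  subst hS
  have e : delta (k := k) ψ (HopfAlgebra.antipode k (qMap q b)) =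
      TensorProduct.map (HopfAlgebra.antipode k : AG →ₗ[k] AG) (HopfAlgebra.antipode k : AH →ₗ[k] AH)
        ((qMap q b) ⊗ₜ[k] (1 : AH)) := by
    rw [show (qMap q b) ⊗ₜ[k] (1 : AH) = (Algebra.TensorProduct.includeLeft : AG →ₐ[k] AG ⊗[k] AH) (qMap q b) from rfl]
    erw [← h]
    simp only [delta, AlgHom.comp_apply, Bialgebra.comulAlgHom_apply]
    rw [comul_antipode]
    generalize Coalgebra.comul (R := k) (qMap q b) = z
    induction z with
    | zero => simp
    | add x y hx hy => simp only [map_add, hx, hy]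
    | tmul x y => simp [HopfFF.map_antipode' ψ]
  rw [e]
  simp [HopfAlgebra.antipode_one]

theorem ker_le_twistL (hψ : Function.Surjective ψ) :
    RingHom.ker (ψ : AG →ₐ[k] AH) ≤ RingHom.ker (HopfFF.twistL (k := k) (A := AG) (invImg q)) := by
  let B := invImg q
  obtain ⟨cc, hcc⟩ := exists_lift ψ q hq (T := AG ⊗[B] AG)
    ((HopfFF.inB₁ B).comp (HopfAlgebra.antipodeAlgHom k AG))
    ((HopfFF.inB₂ B).comp (HopfAlgebra.antipodeAlgHom k AG)) (by
      ext b
      have hb := antipode_qMap_mem q b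
      have h := HopfFF.move (B := B) ⟨_, hb⟩ (1 : AG)
      rw [_root_.mul_one] at h
      exact h.symm)
  have h2 : toConv (cc.comp (ψ : AG →ₐ[k] AH)) = toConv (HopfFF.twistL B) := by
    rw [HopfFF.twistL, WithConv.toConv_ofConv]
    have h3 := HopfFF.comp_antipode_right (HopfFF.inB₁ B)
    calc toConv (cc.comp (ψ : AG →ₐ[k] AH))
        = (toConv (HopfFF.inB₁ B) * toConv ((HopfFF.inB₁ B).comp (HopfAlgebra.antipodeAlgHom k AG))) *
            toConv (cc.comp (ψ : AG →ₐ[k] AH)) := by rw [h3]; exact (_root_.one_mul (M := WithConv (AG →ₐ[k] AG ⊗[B] AG)) _).symm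
      _ = _ := by rw [_root_.mul_assoc (G := WithConv (AG →ₐ[k] AG ⊗[B] AG))]; erw [hcc]
  intro x hx
  rw [RingHom.mem_ker] at hx ⊢
  rw [← WithConv.toConv_injective h2]
  show cc (ψ x) = 0
  rw [show ψ x = 0 from hx, map_zero]

theorem linRed (hG : HopfRep.IsLinearlyReductive k AG) (hψ : Function.Surjective ψ) :
    HopfRep.IsLinearlyReductive k AH := by
  obtain ⟨l, hl⟩ := exists_integral_of_invSection (invSection_of_linRed hG)
  refine linRed_of_invSection ?_
  intro V _ _ _ _ π hπ hcomm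
  haveI := faithfullyFlat_invImg ψ q hq
  exact exists_section_of_galois ψ V (invImg q) (delta_invImg ψ q hq)
    (ker_le_twistL ψ q hq hψ) hψ hl π hπ hcomm

end Groth.Agent.Comodule.AffineQuotient
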