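import Mathlib

/-! Contractions of tensors against linear functionals, over a field. -/

set_option autoImplicit false
universe u v w w'

open TensorProduct

namespace Groth.Agent.Comodule

variable {k : Type u} [CommRing k]
variable {V : Type w} [AddCommGroup V] [Module k V] {W : Type w'} [AddCommGroup W] [Module k W]
variable {C : Type v} [AddCommGroup C] [Module k C]

/-- `v ⊗ c ↦ f c • v`. -/
noncomputable def rcon (f : C →ₗ[k] k) : V ⊗[k] C →ₗ[k] V :=
  (TensorProduct.rid k V).toLinearMap ∘ₗ f.lTensor V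

/-- `v ⊗ c ↦ φ v • c`. -/
noncomputable def lcon (φ : V →ₗ[k] k) : V ⊗[k] C →ₗ[k] C :=
  (TensorProduct.lid k C).toLinearMap ∘ₗ φ.rTensor C

@[simp] theorem rcon_tmul (f : C →ₗ[k] k) (v : V) (c : C) : rcon f (v ⊗ₜ[k] c) = f c • v := by
  simp [rcon]

@[simp] theorem lcon_tmul (φ : V →ₗ[k] k) (v : V) (c : C) : lcon φ (v ⊗ₜ[k] c) = φ v • c := by
  simp [lcon]

theorem rcon_rTensor (f : C →ₗ[k] k) (g : V →ₗ[k] W) (x : V ⊗[k] C) :
    rcon f (g.rTensor C x) = g (rcon f x) := by
  induction x with
  | zero => simp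
  | tmul v c => simp
  | add x y hx hy => simp only [map_add, hx, hy]

theorem rcon_lTensor {C' : Type*} [AddCommGroup C'] [Module k C'] (f : C' →ₗ[k] k) (i : C →ₗ[k] C')
    (x : V ⊗[k] C) : rcon f (i.lTensor V x) = rcon (f ∘ₗ i) x := by
  induction x with
  | zero => simp
  | tmul v c => simp
  | add x y hx hy => simp only [map_add, hx, hy]

theorem lcon_rTensor (φ : W →ₗ[k] k) (g : V →ₗ[k] W) (x : V ⊗[k] C) :
    lcon φ (g.rTensor C x) = lcon (φ ∘ₗ g) x := by
  induction x with
  | zero => simp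
  | tmul v c => simp
  | add x y hx hy => simp only [map_add, hx, hy]

theorem lcon_lTensor {C' : Type*} [AddCommGroup C'] [Module k C'] (φ : V →ₗ[k] k) (i : C →ₗ[k] C')
    (x : V ⊗[k] C) : lcon φ (i.lTensor V x) = i (lcon φ x) := by
  induction x with
  | zero => simp
  | tmul v c => simp
  | add x y hx hy => simp only [map_add, hx, hy]

section Basis

theorem eq_zero_of_rcon [Module.Free k C] {x : V ⊗[k] C} (h : ∀ f : C →ₗ[k] k, rcon f x = 0) : x = 0 := by
  classical
  let b := Module.Free.chooseBasis k C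
  let e := TensorProduct.equivFinsuppOfBasisRight (M := V) b
  have he : ∀ (y : V ⊗[k] C) i, e y i = rcon (b.coord i) y := by
    intro y i
    induction y with
    | zero => simp
    | tmul v c => simp [e, Module.Basis.coord_apply]
    | add y z hy hz => simp only [map_add, Finsupp.add_apply, hy, hz]
  exact e.map_eq_zero_iff.mp (Finsupp.ext fun i => by rw [he, h]; rfl)

theorem eq_zero_of_lcon [Module.Free k V] {x : V ⊗[k] C} (h : ∀ φ : V →ₗ[k] k, lcon φ x = 0) : x = 0 := by
  have e : ∀ (f : V →ₗ[k] k), rcon f (TensorProduct.comm k V C x) = 0 := by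
    intro f
    rw [← h f]
    generalize x = y
    induction y with
    | zero => simp
    | tmul v c => simp
    | add y z hy hz => simp only [map_add, hy, hz]
  exact (TensorProduct.comm k V C).map_eq_zero_iff.mp (eq_zero_of_rcon e)

theorem ext_rcon [Module.Free k C] {x y : V ⊗[k] C} (h : ∀ f : C →ₗ[k] k, rcon f x = rcon f y) : x = y :=
  sub_eq_zero.mp (eq_zero_of_rcon fun f => by rw [map_sub, h, sub_self])

theorem ext_lcon [Module.Free k V] {x y : V ⊗[k] C} (h : ∀ f : V →ₗ[k] k, lcon f x = lcon f y) : x = y :=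
  sub_eq_zero.mp (eq_zero_of_lcon fun f => by rw [map_sub, h, sub_self])

theorem exists_sum_rcon [Module.Free k C] (x : V ⊗[k] C) :
    ∃ S : Finset V, ∀ f : C →ₗ[k] k, rcon f x ∈ Submodule.span k (S : Set V) := by
  classical
  obtain ⟨T, hT⟩ := TensorProduct.exists_finset x
  refine ⟨T.image Prod.fst, fun f => ?_⟩
  rw [hT, map_sum]
  refine Submodule.sum_mem _ fun p hp => ?_
  rw [rcon_tmul]
  exact Submodule.smul_mem _ _ (Submodule.subset_span (Finset.mem_image_of_mem _ hp))

end Basis

section Field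

variable {K : Type u} [Field K] {M : Type w} [AddCommGroup M] [Module K M]
variable {D : Type v} [AddCommGroup D] [Module K D]

theorem mem_range_rTensor_iff {N : Submodule K M} {x : M ⊗[K] D} :
    x ∈ LinearMap.range (N.subtype.rTensor D) ↔ ∀ f : D →ₗ[K] K, rcon f x ∈ N := by
  constructor
  · rintro ⟨y, rfl⟩ f
    rw [rcon_rTensor]
    exact SetLike.coe_mem _
  · intro h
    have hx : N.mkQ.rTensor D x = 0 := eq_zero_of_rcon fun f => by
      rw [rcon_rTensor, Submodule.mkQ_apply, Submodule.Quotient.mk_eq_zero]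
      exact h f
    exact ((rTensor_exact D (LinearMap.exact_subtype_mkQ N) N.mkQ_surjective) x).mp hx

theorem mem_range_lTensor_iff {N : Submodule K D} {x : M ⊗[K] D} :
    x ∈ LinearMap.range (N.subtype.lTensor M) ↔ ∀ φ : M →ₗ[K] K, lcon φ x ∈ N := by
  constructor
  · rintro ⟨y, rfl⟩ f
    rw [lcon_lTensor]
    exact SetLike.coe_mem _
  · intro h
    have hx : N.mkQ.lTensor M x = 0 := eq_zero_of_lcon fun f => by
      rw [lcon_lTensor, Submodule.mkQ_apply, Submodule.Quotient.mk_eq_zero]
      exact h f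
    exact ((lTensor_exact M (LinearMap.exact_subtype_mkQ N) N.mkQ_surjective) x).mp hx

theorem mem_range_map_iff {N : Submodule K M} {N' : Submodule K D} {x : M ⊗[K] D} :
    x ∈ LinearMap.range (TensorProduct.map N.subtype N'.subtype) ↔
      x ∈ LinearMap.range (N.subtype.rTensor D) ∧ x ∈ LinearMap.range (N'.subtype.lTensor M) := by
  constructor
  · rintro ⟨y, rfl⟩
    refine ⟨⟨N'.subtype.lTensor N y, ?_⟩, ⟨N.subtype.rTensor N' y, ?_⟩⟩ <;>
      simp [LinearMap.rTensor, LinearMap.lTensor, TensorProduct.map_map]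
  · rintro ⟨⟨y, hy⟩, ⟨z, hz⟩⟩
    obtain ⟨p, hp⟩ := N.subtype.exists_leftInverse_of_injective N.ker_subtype
    obtain ⟨q, hq⟩ := N'.subtype.exists_leftInverse_of_injective N'.ker_subtype
    refine ⟨TensorProduct.map p q x, ?_⟩
    have h1 : ∀ u : N ⊗[K] D, (N.subtype ∘ₗ p).rTensor D (N.subtype.rTensor D u) = N.subtype.rTensor D u := by
      intro u
      rw [← LinearMap.rTensor_comp_apply, LinearMap.comp_assoc, hp, LinearMap.comp_id]
    have h2 : ∀ u : M ⊗[K] N', (N'.subtype ∘ₗ q).lTensor M (N'.subtype.lTensor M u) = N'.subtype.lTensor M u := by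
      intro u
      rw [← LinearMap.lTensor_comp_apply, LinearMap.comp_assoc, hq, LinearMap.comp_id]
    have e : TensorProduct.map N.subtype N'.subtype (TensorProduct.map p q x) =
        (N.subtype ∘ₗ p).rTensor D ((N'.subtype ∘ₗ q).lTensor M x) := by
      simp [LinearMap.rTensor, LinearMap.lTensor, TensorProduct.map_map]
    rw [e, ← hz, h2, hz, ← hy, h1]

theorem mem_range_lTensor_map_iff {D' : Type*} [AddCommGroup D'] [Module K D'] (i : D →ₗ[K] D')
    {x : M ⊗[K] D'} : x ∈ LinearMap.range (i.lTensor M) ↔ ∀ f : D' →ₗ[K] K, f ∘ₗ i = 0 → rcon f x = 0 := by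
  constructor
  · rintro ⟨y, rfl⟩ f hf
    rw [rcon_lTensor, hf]
    simp [rcon]
  · intro h
    have hx : (LinearMap.range i).mkQ.lTensor M x = 0 := eq_zero_of_rcon fun f => by
      rw [rcon_lTensor]
      refine h _ ?_
      ext d
      simp [(Submodule.Quotient.mk_eq_zero _).mpr (LinearMap.mem_range_self i d)]
    exact ((lTensor_exact M i.exact_map_mkQ_range (Submodule.mkQ_surjective _)) x).mp hx

end Field

end Groth.Agent.Comodule
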