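import Groth.Prelude.Def_HopfRep
import Groth.Prelude.Def_Hoch
import Groth.Agent.Comodule.Contract

/-! A right comodule as a module over the convolution algebra dual to the coalgebra. -/

set_option autoImplicit false
universe u v w w'

open TensorProduct WithConv

namespace Groth.Agent.Comodule

variable {k : Type u} [CommRing k] {C : Type v} [AddCommGroup C] [Module k C] [Coalgebra k C]
variable {V : Type w} [AddCommGroup V] [Module k V] [HopfRep.Comod k C V]

/-- The action of a functional on a comodule. -/
noncomputable def dact (f : C →ₗ[k] k) : V →ₗ[k] V := rcon f ∘ₗ HopfRep.Comod.coact (k := k) (A := C)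

theorem dact_mul (f g : C →ₗ[k] k) (v : V) :
    dact (toConv f * toConv g).ofConv v = dact f (dact g v) := by
  have e : ∀ y : (V ⊗[k] C) ⊗[k] C, rcon f (rcon g y) =
      rcon (LinearMap.mul' k k ∘ₗ TensorProduct.map f g) (TensorProduct.assoc k V C C y) := by
    intro y
    induction y with
    | zero => simp
    | add y z hy hz => simp only [map_add, hy, hz]
    | tmul x c =>
      induction x with
      | zero => simp
      | add a b ha hb => simp only [TensorProduct.add_tmul, map_add, ha, hb]
      | tmul a b => simp [smul_smul, mul_comm]
  have hc := LinearMap.congr_fun (HopfRep.Comod.coassoc (k := k) (A := C) (V := V)) v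
  simp only [LinearMap.comp_apply, LinearEquiv.coe_coe] at hc
  simp only [dact, LinearMap.comp_apply]
  rw [← rcon_rTensor, e, hc, rcon_lTensor]
  rfl

theorem dact_one (v : V) : dact (1 : WithConv (C →ₗ[k] k)).ofConv v = v := by
  have hc := LinearMap.congr_fun (HopfRep.Comod.counit_comp (k := k) (A := C) (V := V)) v
  simp only [LinearMap.comp_apply] at hc
  have h1 : (1 : WithConv (C →ₗ[k] k)).ofConv = Coalgebra.counit := by
    ext c
    simp [LinearMap.convOne_def]
  rw [h1]
  simp only [dact, rcon, LinearMap.comp_apply, hc]
  simp

theorem dact_add (f g : C →ₗ[k] k) (v : V) : dact (f + g) v = dact f v + dact g v := by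
  simp only [dact, rcon, LinearMap.comp_apply, LinearMap.lTensor_add, LinearMap.add_apply, map_add]

/-- A comodule is a left module over the dual algebra. -/
noncomputable instance dualModule : Module (WithConv (C →ₗ[k] k)) V where
  smul f v := dact f.ofConv v
  one_smul := dact_one
  mul_smul f g v := dact_mul f.ofConv g.ofConv v
  smul_zero f := map_zero _
  smul_add f := map_add _
  add_smul f g v := dact_add f.ofConv g.ofConv v
  zero_smul v := by
    change dact (0 : C →ₗ[k] k) v = 0
    simp [dact, rcon]

theorem smul_def (f : WithConv (C →ₗ[k] k)) (v : V) : f • v = dact f.ofConv v := rfl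

theorem dact_smul (c : k) (f : C →ₗ[k] k) (v : V) : dact (c • f) v = c • dact f v := by
  simp only [dact, rcon, LinearMap.comp_apply, LinearMap.lTensor_smul, LinearMap.smul_apply, map_smul]

noncomputable instance dual_isScalarTower : IsScalarTower k (WithConv (C →ₗ[k] k)) V where
  smul_assoc c f v := dact_smul c f.ofConv v

noncomputable instance dual_smulCommClass : SMulCommClass k (WithConv (C →ₗ[k] k)) V where
  smul_comm c f v := ((dact f.ofConv).map_smul c v).symm

end Groth.Agent.Comodule
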