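import Groth.Agent.Comodule.InvFinite
import Groth.Agent.Comodule.Coalg
import Groth.Prelude.Def_GLin
import Mathlib.RingTheory.MvPolynomial.Homogeneous

/-! Hilbert finiteness for invariants of linearly reductive groups; separation of closed orbit closures. -/

set_option autoImplicit false
set_option backward.isDefEq.respectTransparency false
universe u v w

open TensorProduct WithConv

noncomputable section

namespace Groth.Agent.Comodule.HilbertFG

open Groth.Agent.Comodule.InvFinite

variable {k : Type u} [Field k] {A : Type v} [CommRing A] [HopfAlgebra k A]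
variable {C : Type w} [CommRing C] [Algebra k C] [HopfRep.Comod k A C]

local notation "ρ" => HopfRep.Comod.coact (k := k) (A := A)

theorem mul_mem_range_rTensor {P Q : Submodule k C} {p q : C ⊗[k] A}
    (hp : p ∈ LinearMap.range (P.subtype.rTensor A)) (hq : q ∈ LinearMap.range (Q.subtype.rTensor A)) :
    p * q ∈ LinearMap.range ((P * Q).subtype.rTensor A) := by
  obtain ⟨x, rfl⟩ := hp
  obtain ⟨y, rfl⟩ := hq
  induction x with
  | zero => simp
  | add a b ha hb => rw [map_add, add_mul]; exact Submodule.add_mem _ ha hb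
  | tmul a r =>
    induction y with
    | zero => simp
    | add a b ha hb => rw [map_add, mul_add]; exact Submodule.add_mem _ ha hb
    | tmul b t => exact ⟨⟨(a : C) * b, Submodule.mul_mem_mul a.2 b.2⟩ ⊗ₜ[k] (r * t), by simp⟩

variable [GLin.IsCoactAlg k A C]

theorem isSubcomod_mul {P Q : Submodule k C} (hP : HopfRep.IsSubcomod (k := k) (A := A) P)
    (hQ : HopfRep.IsSubcomod (k := k) (A := A) Q) : HopfRep.IsSubcomod (k := k) (A := A) (P * Q) := by
  intro c hc
  refine Submodule.mul_induction_on hc (fun a ha b hb => ?_) (fun a b ha hb => ?_)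
  · rw [GLin.IsCoactAlg.coact_mul]
    exact mul_mem_range_rTensor (hP a ha) (hQ b hb)
  · rw [map_add]; exact Submodule.add_mem _ ha hb

theorem isSubcomod_one : HopfRep.IsSubcomod (k := k) (A := A) (1 : Submodule k C) := by
  intro c hc
  obtain ⟨a, rfl⟩ := Submodule.mem_one.1 hc
  refine ⟨(⟨algebraMap k C a, Submodule.mem_one.2 ⟨a, rfl⟩⟩ : (1 : Submodule k C)) ⊗ₜ[k] (1 : A), ?_⟩
  rw [LinearMap.rTensor_tmul]
  exact ((GLin.mem_invariants_iff _ _ _ _).1 ((GLin.invariants k A C).algebraMap_mem a)).symm

theorem isSubcomod_pow {P : Submodule k C} (hP : HopfRep.IsSubcomod (k := k) (A := A) P) :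
    ∀ n : ℕ, HopfRep.IsSubcomod (k := k) (A := A) (P ^ n)
  | 0 => by rw [Submodule.pow_zero]; exact isSubcomod_one
  | n + 1 => by rw [Submodule.pow_succ]; exact isSubcomod_mul (isSubcomod_pow hP n) hP

theorem reynolds_mem_of_isSubcomod (α : A →ₗ[k] C) {P : Submodule k C}
    (hP : HopfRep.IsSubcomod (k := k) (A := A) P) (hα : ∀ a, α a ∈ (1 : Submodule k C)) {x : C} (hx : x ∈ P) :
    TameAct.reynolds k A C C α x ∈ P := by
  obtain ⟨z, hz⟩ := hP x hx
  simp only [TameAct.reynolds, LinearMap.comp_apply, ← hz]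
  clear hz
  induction z with
  | zero => simp
  | add p q hp hq => simp only [map_add]; exact P.add_mem hp hq
  | tmul p q =>
    obtain ⟨c, hc⟩ := Submodule.mem_one.1 (hα (HopfAlgebra.antipode k q))
    simp only [LinearMap.rTensor_tmul, Submodule.subtype_apply, TensorProduct.lift.tmul, LinearMap.flip_apply,
      LinearMap.comp_apply, AlgHom.toLinearMap_apply, Algebra.lsmul_coe, smul_eq_mul, ← hc, ← Algebra.smul_def]
    exact P.smul_mem c p.2

variable (C) in
theorem exists_scalar_total (hA : HopfRep.IsLinearlyReductive k A) :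
    ∃ α : A →ₗ[k] C, Hoch.IsComodHom A α ∧ α 1 = 1 ∧ ∀ a, α a ∈ (1 : Submodule k C) := by
  obtain ⟨l, hl⟩ := exists_integral_of_linRed hA
  refine ⟨Algebra.linearMap k C ∘ₗ l, LinearMap.ext fun a => ?_, by simp [hl.2],
    fun a => Submodule.mem_one.2 ⟨l a, rfl⟩⟩
  have h : l.rTensor A (Coalgebra.comul (R := k) a) = l a ⊗ₜ[k] (1 : A) := (LinearMap.congr_fun hl.1 a).symm
  simp only [LinearMap.comp_apply, Algebra.linearMap_apply, coact_regular, LinearMap.rTensor_comp_apply, h,
    LinearMap.rTensor_tmul]
  exact (GLin.mem_invariants_iff _ _ _ _).1 ((GLin.invariants k A C).algebraMap_mem (l a))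

theorem exists_finset_invariants_eq_adjoin (hA : HopfRep.IsLinearlyReductive k A) (B₀ : Subalgebra k C)
    [IsNoetherianRing B₀] [Algebra.FiniteType B₀ C]
    (hB₀ : HopfRep.IsSubcomod (k := k) (A := A) (Subalgebra.toSubmodule B₀)) :
    ∃ s : Finset C, (↑s : Set C) ⊆ GLin.invariants k A C ∧
      GLin.invariants k A C = Algebra.adjoin k (((B₀ : Set C) ∩ GLin.invariants k A C) ∪ ↑s) := by
  classical
  obtain ⟨α, hα, h1, hα1⟩ := exists_scalar_total C hA
  obtain ⟨g, hg⟩ := (Algebra.FiniteType.out : (⊤ : Subalgebra B₀ C).FG)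
  let V : Submodule k C := (Submodule.span (WithConv (A →ₗ[k] k)) (g : Set C)).restrictScalars k
  haveI hVfin : Module.Finite k V := finite_span_of_finite g.finite_toSet
  have hV : HopfRep.IsSubcomod (k := k) (A := A) V := isSubcomod_restrictScalars _
  have hgV : ∀ x ∈ g, x ∈ V := fun x hx => Submodule.subset_span hx
  have h1B : (1 : C) ∈ Subalgebra.toSubmodule B₀ := B₀.one_mem
  let U : Submodule k C := 1 ⊔ V
  have hU : HopfRep.IsSubcomod (k := k) (A := A) U := by
    intro c hc
    obtain ⟨a, ha, b, hb, rfl⟩ := Submodule.mem_sup.1 hc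
    rw [map_add]
    obtain ⟨z, hz⟩ := isSubcomod_one (k := k) (A := A) (C := C) a ha
    obtain ⟨z', hz'⟩ := hV b hb
    exact ⟨(Submodule.inclusion le_sup_left).rTensor A z + (Submodule.inclusion le_sup_right).rTensor A z', by
      rw [map_add, ← LinearMap.rTensor_comp_apply, ← LinearMap.rTensor_comp_apply, ← hz, ← hz']; rfl⟩
  let F : ℕ → Submodule k C := fun n => Subalgebra.toSubmodule B₀ * U ^ n
  have hF : ∀ n, HopfRep.IsSubcomod (k := k) (A := A) (F n) := fun n => isSubcomod_mul hB₀ (isSubcomod_pow hU n)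
  have hFmul : ∀ m n, F m * F n ≤ F (m + n) := fun m n => by
    simp only [F]
    rw [mul_mul_mul_comm, (Subalgebra.isIdempotentElem_toSubmodule B₀).eq, pow_add]
  have hFmono : Monotone F := monotone_nat_of_le_succ fun n x hx => by
    have h1U : (1 : C) ∈ U := Submodule.mem_sup_left (Submodule.one_le.1 le_rfl)
    simp only [F, Submodule.pow_succ, ← mul_assoc]
    simpa using Submodule.mul_mem_mul hx h1U
  have hB₀F : ∀ b ∈ B₀, b ∈ F 0 := fun b hb => by simpa [F] using hb
  haveI : Module.Finite k (1 : Submodule k C) :=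
    Module.Finite.iff_fg.2 (by rw [Submodule.one_eq_span]; exact Submodule.fg_span_singleton 1)
  obtain ⟨gU, hgU⟩ := (Module.Finite.iff_fg.1 (inferInstance : Module.Finite k (U : Submodule k C)))
  let S : Subalgebra B₀ (Polynomial C) := Algebra.adjoin B₀ ((fun u => Polynomial.monomial 1 u) '' (gU : Set C))
  haveI : Algebra.FiniteType B₀ S := (Subalgebra.fg_iff_finiteType S).1
    (Subalgebra.fg_def.2 ⟨_, gU.finite_toSet.image _, rfl⟩)
  haveI : IsNoetherianRing S := Algebra.FiniteType.isNoetherianRing B₀ S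
  have hS : ∀ p ∈ S, ∀ n, p.coeff n ∈ F n := by
    intro p hp
    induction hp using Algebra.adjoin_induction with
    | mem p hp =>
      obtain ⟨u, hu, rfl⟩ := hp
      intro n
      rw [Polynomial.coeff_monomial]
      split
      · subst n
        have hu' : u ∈ U := hgU ▸ Submodule.subset_span hu
        simpa [F] using Submodule.mul_mem_mul h1B hu'
      · exact Submodule.zero_mem _
    | algebraMap b =>
      intro n
      rw [Polynomial.algebraMap_apply, Polynomial.coeff_C]
      split
      · subst n; exact hB₀F _ b.2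
      · exact Submodule.zero_mem _
    | add p q _ _ hp hq => intro n; rw [Polynomial.coeff_add]; exact Submodule.add_mem _ (hp n) (hq n)
    | mul p q _ _ hp hq =>
      intro n
      rw [Polynomial.coeff_mul]
      refine Submodule.sum_mem _ fun x hx => ?_
      have := hFmul _ _ (Submodule.mul_mem_mul (hp x.1) (hq x.2))
      rwa [Finset.HasAntidiagonal.mem_antidiagonal.1 hx] at this
  have hFS : ∀ n, ∀ f ∈ F n, Polynomial.monomial n f ∈ S := by
    have hb : ∀ b ∈ B₀, Polynomial.monomial 0 b ∈ S := fun b hb => by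
      simpa [Polynomial.algebraMap_apply] using S.algebraMap_mem ⟨b, hb⟩
    have hu : ∀ u ∈ U, Polynomial.monomial 1 u ∈ S := fun u hu => by
      rw [← hgU] at hu
      induction hu using Submodule.span_induction with
      | mem x hx => exact Algebra.subset_adjoin ⟨x, hx, rfl⟩
      | zero => simp
      | add x y _ _ hx hy => rw [map_add]; exact S.add_mem hx hy
      | smul c x _ hx =>
        have := S.mul_mem (hb (algebraMap k C c) (B₀.algebraMap_mem c)) hx
        rwa [Polynomial.monomial_mul_monomial, zero_add, ← Algebra.smul_def] at this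
    have hpow : ∀ n, ∀ f ∈ U ^ n, Polynomial.monomial n f ∈ S := by
      intro n
      induction n with
      | zero =>
        intro f hf
        rw [Submodule.pow_zero] at hf
        obtain ⟨c, rfl⟩ := Submodule.mem_one.1 hf
        exact hb _ (B₀.algebraMap_mem c)
      | succ n ih =>
        intro f hf
        rw [Submodule.pow_succ] at hf
        induction hf using Submodule.mul_induction_on' with
        | mem_mul_mem a ha b hb => rw [← Polynomial.monomial_mul_monomial]; exact S.mul_mem (ih a ha) (hu b hb)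
        | add x _ y _ hx hy => rw [map_add]; exact S.add_mem hx hy
    intro n f hf
    induction hf using Submodule.mul_induction_on' with
    | mem_mul_mem a ha b hb' =>
      rw [← zero_add n, ← Polynomial.monomial_mul_monomial]
      exact S.mul_mem (hb a ha) (hpow n b hb')
    | add x _ y _ hx hy => rw [map_add]; exact S.add_mem hx hy
  let G : Set S := {p | ∃ d f, 0 < d ∧ f ∈ F d ∧ f ∈ GLin.invariants k A C ∧ (p : Polynomial C) = Polynomial.monomial d f}
  obtain ⟨t, htG, ht⟩ := Submodule.fg_span_iff_fg_span_finset_subset G |>.1 (IsNoetherian.noetherian (Ideal.span G))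
  choose d f hd hf hfi hpf using fun p : t => htG p.2
  let s : Finset C := Finset.univ.image f
  refine ⟨s, fun x hx => ?_, le_antisymm ?_ (Algebra.adjoin_le ?_)⟩
  · obtain ⟨p, -, rfl⟩ := Finset.mem_image.1 hx
    exact hfi p
  swap
  · rintro x (hx | hx)
    · exact hx.2
    · obtain ⟨p, -, rfl⟩ := Finset.mem_image.1 hx
      exact hfi p
  let T := Algebra.adjoin k (((B₀ : Set C) ∩ GLin.invariants k A C) ∪ ↑s)
  have key : ∀ n, ∀ x ∈ F n, x ∈ GLin.invariants k A C → x ∈ T := by
    intro n
    induction n using Nat.strong_induction_on with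
    | _ n ih =>
    intro x hx hxi
    rcases Nat.eq_zero_or_pos n with rfl | hn
    · exact Algebra.subset_adjoin (Or.inl ⟨by simpa [F] using hx, hxi⟩)
    have hmem : (⟨_, hFS n x hx⟩ : S) ∈ Submodule.span S (↑t : Set S) := by
      rw [← ht]
      exact Submodule.subset_span ⟨n, x, hn, hx, hxi, rfl⟩
    obtain ⟨c, hc⟩ := Submodule.mem_span_range_iff_exists_fun S |>.1
      (show _ ∈ Submodule.span S (Set.range (Subtype.val : t → S)) by rwa [Subtype.range_coe_subtype, Finset.setOf_mem])
    have hx' : x = ∑ p : t, (if d p ≤ n then (c p : Polynomial C).coeff (n - d p) else 0) * f p := by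
      have := congrArg (fun q : S => (q : Polynomial C).coeff n) hc
      simp only [AddSubmonoidClass.coe_finsetSum, Polynomial.finset_sum_coeff, smul_eq_mul, MulMemClass.coe_mul,
        Polynomial.coeff_monomial, if_true, ↓reduceIte] at this
      rw [← this]
      refine Finset.sum_congr rfl fun p _ => ?_
      rw [hpf p]
      split
      · rename_i h
        conv_lhs => rw [show n = (n - d p) + d p by omega]
        rw [Polynomial.coeff_mul_monomial]
      · rename_i h
        rw [zero_mul, ← Polynomial.C_mul_X_pow_eq_monomial, ← mul_assoc, Polynomial.coeff_mul_X_pow', if_neg h]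
    have hE := (reynolds_fixed (k := k) (A := A) (M := C) α h1 (m := x) hxi).symm
    rw [hE]
    conv => arg 2; rw [hx', map_sum]
    refine Subalgebra.sum_mem T fun p _ => ?_
    rw [← smul_eq_mul, reynolds_smul_fixed α _ (hfi p), smul_eq_mul]
    refine T.mul_mem ?_ (Algebra.subset_adjoin (Or.inr (Finset.mem_image_of_mem f (Finset.mem_univ p))))
    split
    · rename_i h
      exact ih (n - d p) (by have := hd p; omega) _
        (reynolds_mem_of_isSubcomod α (hF _) hα1 (hS _ (c p).2 _)) (reynolds_mem_fixedPts α hα _)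
    · simp
  intro x hx
  have : ∃ n, x ∈ F n := by
    have hxt : x ∈ Algebra.adjoin B₀ (g : Set C) := hg ▸ Algebra.mem_top
    clear hx
    induction hxt using Algebra.adjoin_induction with
    | mem y hy =>
      have hyU : y ∈ U := Submodule.mem_sup_right (hgV y hy)
      exact ⟨1, by simpa [F] using Submodule.mul_mem_mul h1B hyU⟩
    | algebraMap b => exact ⟨0, hB₀F _ b.2⟩
    | add a b _ _ ha hb =>
      obtain ⟨m, ha⟩ := ha
      obtain ⟨n, hb⟩ := hb
      exact ⟨max m n, Submodule.add_mem _ (hFmono (le_max_left m n) ha) (hFmono (le_max_right m n) hb)⟩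
    | mul a b _ _ ha hb =>
      obtain ⟨m, ha⟩ := ha
      obtain ⟨n, hb⟩ := hb
      exact ⟨m + n, hFmul m n (Submodule.mul_mem_mul ha hb)⟩
  obtain ⟨n, hn⟩ := this
  exact key n x hn hx

section orbit

variable {R : Type w} [CommRing R] [Algebra k R] [HopfRep.Comod k A R] [GLin.IsCoactAlg k A R]

theorem orbit_eq_coefMap (x : R →ₐ[k] k) (r : R) :
    GLin.orbitHom k A x r = coefMap (C := A) x.toLinearMap r := by
  rw [coefMap_apply]
  simp only [GLin.orbitHom, AlgHom.comp_apply, GLin.coactAlgHom_apply]
  induction HopfRep.Comod.coact (k := k) (A := A) r with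
  | zero => simp
  | add a b ha hb => simp only [map_add, ha, hb]
  | tmul a b => simp

theorem counit_orbitHom (x : R →ₐ[k] k) (r : R) : Coalgebra.counit (R := k) (GLin.orbitHom k A x r) = x r := by
  rw [orbit_eq_coefMap, counit_coefMap]; rfl

theorem isSubcomod_ker_orbit (x : R →ₐ[k] k) :
    HopfRep.IsSubcomod (k := k) (A := A) ((RingHom.ker (GLin.orbitHom k A x)).restrictScalars k) := by
  refine isSubcomod_iff.mpr fun f r hr => ?_
  rw [Submodule.restrictScalars_mem, RingHom.mem_ker, orbit_eq_coefMap] at hr ⊢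
  rw [map_smul, hr, smul_zero]

theorem reynolds_mem_ker_orbit (x : R →ₐ[k] k) (α : A →ₗ[k] R) (hα : ∀ a, α a ∈ (1 : Submodule k R)) {r : R}
    (hr : GLin.orbitHom k A x r = 0) : GLin.orbitHom k A x (TameAct.reynolds k A R R α r) = 0 :=
  RingHom.mem_ker.1 (reynolds_mem_of_isSubcomod α (isSubcomod_ker_orbit x) hα (RingHom.mem_ker.2 hr) :
    TameAct.reynolds k A R R α r ∈ (RingHom.ker (GLin.orbitHom k A x)).restrictScalars k)

theorem eq_of_mem_ker_orbit {x z : R →ₐ[k] k} (h : GLin.InOrbitClosure k A x z) {f : R}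
    (hf : f ∈ GLin.invariants k A R) : z f = x f := by
  have : f - algebraMap k R (x f) ∈ RingHom.ker (GLin.orbitHom k A x) := by
    rw [RingHom.mem_ker, map_sub, AlgHom.commutes, sub_eq_zero]
    simp [GLin.orbitHom, (GLin.mem_invariants_iff _ _ _ _).1 hf, Algebra.algebraMap_eq_smul_one]
  simpa [sub_eq_zero] using RingHom.mem_ker.1 (h this)

theorem eq_on_invariants_iff [IsAlgClosed k] [Algebra.FiniteType k R] (hA : HopfRep.IsLinearlyReductive k A)
    (x₁ x₂ : R →ₐ[k] k) :
    x₁.comp (GLin.invariants k A R).val = x₂.comp (GLin.invariants k A R).val ↔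
      ∃ z : R →ₐ[k] k, GLin.InOrbitClosure k A x₁ z ∧ GLin.InOrbitClosure k A x₂ z := by
  refine ⟨fun h => ?_, fun ⟨z, h₁, h₂⟩ => AlgHom.ext fun f => ?_⟩
  swap
  · exact (eq_of_mem_ker_orbit h₁ f.2).symm.trans (eq_of_mem_ker_orbit h₂ f.2)
  by_cases htop : RingHom.ker (GLin.orbitHom k A x₁) ⊔ RingHom.ker (GLin.orbitHom k A x₂) = ⊤
  · obtain ⟨α, hα, h1, hα1⟩ := exists_scalar_total R hA
    obtain ⟨a, ha, b, hb, hab⟩ := Submodule.mem_sup.1 (htop ▸ Submodule.mem_top : (1 : R) ∈ _)
    let E := TameAct.reynolds k A R R α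
    have hE : E a + E b = 1 := by
      rw [← map_add, hab]
      exact reynolds_fixed α h1 (GLin.invariants k A R).one_mem
    have e1 : x₁ (E a) = 0 := by
      rw [← counit_orbitHom (A := A), reynolds_mem_ker_orbit x₁ α hα1 (RingHom.mem_ker.1 ha), map_zero]
    have e2 : x₂ (E b) = 0 := by
      rw [← counit_orbitHom (A := A), reynolds_mem_ker_orbit x₂ α hα1 (RingHom.mem_ker.1 hb), map_zero]
    have e3 : x₁ (E a) = x₂ (E a) := DFunLike.congr_fun h ⟨_, reynolds_mem_fixedPts α hα a⟩
    exact absurd (congrArg x₂ hE) (by rw [map_add, e2, ← e3, e1, map_one, add_zero]; exact zero_ne_one)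
  · obtain ⟨q, hq, hle⟩ := Ideal.exists_le_maximal _ htop
    haveI := hq
    letI : Field (R ⧸ q) := Ideal.Quotient.field q
    haveI : Module.Finite k (R ⧸ q) := finite_of_finite_type_of_isJacobsonRing k (R ⧸ q)
    let e : k ≃ₐ[k] R ⧸ q := AlgEquiv.ofBijective (Algebra.ofId k (R ⧸ q)) IsAlgClosed.algebraMap_bijective_of_isIntegral
    have hk : q ≤ RingHom.ker (e.symm.toAlgHom.comp (Ideal.Quotient.mkₐ k q)) := fun r hr => by
      simp [Ideal.Quotient.eq_zero_iff_mem.2 hr]
    exact ⟨_, (le_sup_left.trans hle).trans hk, (le_sup_right.trans hle).trans hk⟩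

end orbit

section semistable

variable {ι : Type w} [Fintype ι] [HopfRep.Comod k A (MvPolynomial ι k)] [GLin.IsCoactAlg k A (MvPolynomial ι k)]

theorem isSubcomod_homogeneous (hlin : GLin.IsLinear k A ι) (n : ℕ) :
    HopfRep.IsSubcomod (k := k) (A := A) (MvPolynomial.homogeneousSubmodule ι k n) := by
  rw [← MvPolynomial.homogeneousSubmodule_one_pow]
  refine isSubcomod_pow (fun f hf => ?_) n
  rw [MvPolynomial.homogeneousSubmodule_one_eq_span_X] at hf
  induction hf using Submodule.span_induction with
  | mem y hy =>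
    obtain ⟨i, rfl⟩ := hy
    obtain ⟨m, hm⟩ := hlin i
    rw [hm]
    exact Submodule.sum_mem _ fun j _ => ⟨⟨_, MvPolynomial.isHomogeneous_X k j⟩ ⊗ₜ[k] m j, rfl⟩
  | zero => rw [map_zero]; exact Submodule.zero_mem _
  | add a b _ _ ha hb => rw [map_add]; exact Submodule.add_mem _ ha hb
  | smul c a _ ha => rw [map_smul]; exact Submodule.smul_mem _ c ha

theorem homogeneousComponent_mem_invariants (hlin : GLin.IsLinear k A ι) {g : MvPolynomial ι k}
    (hg : g ∈ GLin.invariants k A (MvPolynomial ι k)) (n : ℕ) :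
    MvPolynomial.homogeneousComponent n g ∈ GLin.invariants k A (MvPolynomial ι k) := by
  classical
  let π := MvPolynomial.homogeneousComponent (σ := ι) (R := k) n
  have e : ∀ m, π.rTensor A (ρ (MvPolynomial.homogeneousComponent m g)) =
      if m = n then ρ (MvPolynomial.homogeneousComponent m g) else 0 := by
    intro m
    obtain ⟨z, hz⟩ := isSubcomod_homogeneous (A := A) hlin m _ (MvPolynomial.homogeneousComponent_mem m g)
    rw [← hz]
    clear hz
    induction z with
    | zero => simp
    | add p q hp hq => simp only [map_add, hp, hq]; split <;> simp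
    | tmul p q =>
      simp only [LinearMap.rTensor_tmul, Submodule.subtype_apply, π]
      rw [MvPolynomial.homogeneousComponent_of_mem p.2]
      by_cases h : m = n
      · subst h; simp
      · simp [h, Ne.symm h]
  rw [GLin.mem_invariants_iff]
  have h := congrArg (π.rTensor A) ((GLin.mem_invariants_iff _ _ _ _).1 hg)
  conv_lhs at h => rw [← MvPolynomial.sum_homogeneousComponent g]
  rw [map_sum, map_sum, Finset.sum_congr rfl fun m _ => e m, Finset.sum_ite_eq', LinearMap.rTensor_tmul] at h
  by_cases hn : n ∈ Finset.range (g.totalDegree + 1)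
  · rwa [if_pos hn] at h
  · have : MvPolynomial.homogeneousComponent n g = 0 :=
      MvPolynomial.homogeneousComponent_eq_zero n g (by simp at hn; omega)
    simp [this]

theorem orbit_zero (hlin : GLin.IsLinear k A ι) (f : MvPolynomial ι k) :
    GLin.orbitHom k A (GLin.vecPt k ι (0 : ι → k)) f = algebraMap k A (GLin.vecPt k ι (0 : ι → k) f) := by
  have : GLin.orbitHom k A (GLin.vecPt k ι (0 : ι → k)) =
      (Algebra.ofId k A).comp (GLin.vecPt k ι (0 : ι → k)) := by
    refine MvPolynomial.algHom_ext fun i => ?_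
    obtain ⟨m, hm⟩ := hlin i
    simp [GLin.orbitHom, hm]
  rw [this]; rfl

theorem isSemistableVec_iff (hA : HopfRep.IsLinearlyReductive k A) (hlin : GLin.IsLinear k A ι) (v : ι → k) :
    GLin.IsSemistableVec k A v ↔
      ¬ GLin.InOrbitClosure k A (GLin.vecPt k ι v) (GLin.vecPt k ι (fun _ => (0 : k))) := by
  classical
  let o : MvPolynomial ι k →ₐ[k] k := GLin.vecPt k ι (0 : ι → k)
  change _ ↔ ¬ GLin.InOrbitClosure k A (GLin.vecPt k ι v) o
  constructor
  · intro hs hc
    simp only [GLin.IsSemistableVec, GLin.IsNullform, not_forall] at hs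
    obtain ⟨F, hF, d, hd, hFd, hne⟩ := hs
    refine hne ?_
    have h0 := eq_of_mem_ker_orbit hc hF
    rw [show MvPolynomial.eval v F = GLin.vecPt k ι v F from rfl, ← h0]
    simp only [o, GLin.vecPt, MvPolynomial.aeval_zero, Algebra.algebraMap_self, RingHom.id_apply,
      MvPolynomial.constantCoeff_eq]
    exact hFd.coeff_eq_zero (by simpa using hd.ne)
  · intro hc
    simp only [GLin.InOrbitClosure, SetLike.not_le_iff_exists, RingHom.mem_ker] at hc
    obtain ⟨h, hh, hne⟩ := hc
    obtain ⟨α, hα, h1, hα1⟩ := exists_scalar_total (MvPolynomial ι k) hA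
    let E := TameAct.reynolds k A (MvPolynomial ι k) (MvPolynomial ι k) α
    let h' := MvPolynomial.C (o h)⁻¹ * h
    let g := E h'
    have hgi : g ∈ GLin.invariants k A (MvPolynomial ι k) := reynolds_mem_fixedPts α hα _
    have hgv : GLin.vecPt k ι v g = 0 := by
      rw [← counit_orbitHom (A := A), reynolds_mem_ker_orbit _ α hα1 (by simp [h', hh]), map_zero]
    have hgo : o g = 1 := by
      have h1' : GLin.orbitHom k A o (h' - 1) = 0 := by
        rw [orbit_zero hlin, map_sub, map_mul, map_one, ← MvPolynomial.algebraMap_eq, AlgHom.commutes]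
        have hne' : MvPolynomial.constantCoeff h ≠ 0 := fun e => hne (by simp [o, e])
        simp [o, ← map_mul, inv_mul_cancel₀ hne']
      have := congrArg (Coalgebra.counit (R := k)) (reynolds_mem_ker_orbit o α hα1 h1')
      rw [counit_orbitHom, map_zero, map_sub, reynolds_fixed α h1 (GLin.invariants k A (MvPolynomial ι k)).one_mem,
        map_sub, map_one, sub_eq_zero] at this
      exact this
    intro hnull
    have key : ∀ m, GLin.vecPt k ι v (MvPolynomial.homogeneousComponent m g) = if m = 0 then 1 else 0 := by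
      intro m
      rcases Nat.eq_zero_or_pos m with rfl | hm
      · rw [MvPolynomial.homogeneousComponent_zero, if_pos rfl, MvPolynomial.aeval_C]
        simpa [o, MvPolynomial.constantCoeff_eq] using hgo
      · rw [if_neg hm.ne']
        exact hnull _ (homogeneousComponent_mem_invariants hlin hgi m) m hm
          (MvPolynomial.homogeneousComponent_isHomogeneous m g)
    rw [← MvPolynomial.sum_homogeneousComponent g, map_sum, Finset.sum_congr rfl fun m _ => key m,
      Finset.sum_ite_eq', if_pos (by simp)] at hgv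
    exact one_ne_zero hgv

end semistable

end Groth.Agent.Comodule.HilbertFG
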