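import Groth.Agent.Comodule.Reynolds
import Groth.Agent.Comodule.Reductive
import Groth.Agent.Comodule.Sub

/-! Invariants of linearly reductive groups: Noetherianity, finiteness for modules, conductors. -/

set_option autoImplicit false
set_option backward.isDefEq.respectTransparency false
universe u v w w'

open TensorProduct WithConv

noncomputable section

namespace Groth.Agent.Comodule.InvFinite

variable {k : Type u} [Field k] {A : Type v} [CommRing A] [HopfAlgebra k A]
variable {R : Type w} [CommRing R] [Algebra k R] [HopfRep.Comod k A R] [GLin.IsCoactAlg k A R]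

instance : TameAct.IsHopfMod k A R R where
  coact_smul b m := by
    rw [smul_eq_mul, GLin.IsCoactAlg.coact_mul]
    generalize HopfRep.Comod.coact (k := k) (A := A) b = x
    generalize HopfRep.Comod.coact (k := k) (A := A) m = y
    induction x with
    | zero => simp
    | add p q hp hq => simp only [add_mul, map_add, LinearMap.add_apply, hp, hq]
    | tmul p q =>
      induction y with
      | zero => simp
      | add r s hr hs => simp only [mul_add, map_add, hr, hs]
      | tmul r s => simp

variable (R) in
theorem exists_total (hA : HopfRep.IsLinearlyReductive k A) :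
    ∃ α : A →ₗ[k] R, Hoch.IsComodHom A α ∧ α 1 = 1 := by
  obtain ⟨l, hl⟩ := exists_integral_of_linRed hA
  refine ⟨Algebra.linearMap k R ∘ₗ l, LinearMap.ext fun a => ?_, by simp [hl.2]⟩
  have h : l.rTensor A (Coalgebra.comul (R := k) a) = l a ⊗ₜ[k] (1 : A) := (LinearMap.congr_fun hl.1 a).symm
  simp only [LinearMap.comp_apply, Algebra.linearMap_apply, coact_regular, LinearMap.rTensor_comp_apply, h,
    LinearMap.rTensor_tmul]
  exact (GLin.mem_invariants_iff _ _ _ _).1 ((GLin.invariants k A R).algebraMap_mem (l a))

variable {M : Type w'} [AddCommGroup M] [Module k M] [Module R M] [IsScalarTower k R M] [HopfRep.Comod k A M]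
  [TameAct.IsHopfMod k A R M]

theorem reynolds_smul_fixed (α : A →ₗ[k] R) (c : R) {y : M} (hy : y ∈ HopfRep.fixedPts k A M) :
    TameAct.reynolds k A R M α (c • y) = TameAct.reynolds k A R R α c • y := by
  refine (reynolds_natural (k := k) (A := A) α (LinearMap.toSpanSingleton R M y) ?_ c).symm
  refine LinearMap.ext fun r => ?_
  simp only [LinearMap.comp_apply, LinearMap.coe_restrictScalars, LinearMap.toSpanSingleton_apply,
    TameAct.IsHopfMod.coact_smul (k := k) (A := A) (B := R)]
  rw [show HopfRep.Comod.coact (k := k) (A := A) y = y ⊗ₜ[k] (1 : A) from hy]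
  generalize HopfRep.Comod.coact (k := k) (A := A) r = x
  induction x with
  | zero => simp
  | add p q hp hq => simp only [map_add, LinearMap.add_apply, hp, hq]
  | tmul p q => simp

theorem fixedPts_fg (hA : HopfRep.IsLinearlyReductive k A) [IsNoetherian R M] :
    ∃ s : Finset M, (↑s : Set M) ⊆ HopfRep.fixedPts k A M ∧
      ∀ m ∈ HopfRep.fixedPts k A M, ∃ c : M → R,
        (∀ y ∈ s, c y ∈ GLin.invariants k A R) ∧ m = ∑ y ∈ s, c y • y := by
  classical
  obtain ⟨α, hα, h1⟩ := exists_total R hA
  obtain ⟨s, hs, hspan⟩ := Submodule.fg_span_iff_fg_span_finset_subset _ |>.1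
    (IsNoetherian.noetherian (Submodule.span R (HopfRep.fixedPts k A M : Set M)))
  refine ⟨s, hs, fun m hm => ?_⟩
  obtain ⟨c, -, hc⟩ := Submodule.mem_span_finset.1 (hspan ▸ Submodule.subset_span hm)
  refine ⟨fun y => TameAct.reynolds k A R R α (c y), fun y _ => reynolds_mem_fixedPts α hα (c y), ?_⟩
  calc m = TameAct.reynolds k A R M α m := (reynolds_fixed α h1 hm).symm
    _ = _ := by
      rw [← hc, map_sum]
      exact Finset.sum_congr rfl fun y hy => reynolds_smul_fixed α (c y) (hs hy)

theorem comap_map_eq (hA : HopfRep.IsLinearlyReductive k A) (J : Ideal (GLin.invariants k A R)) :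
    (J.map (algebraMap (GLin.invariants k A R) R)).comap (algebraMap (GLin.invariants k A R) R) = J := by
  obtain ⟨α, hα, h1⟩ := exists_total R hA
  exact comap_map_invariants α hα h1 J

theorem isNoetherianRing_invariants (hA : HopfRep.IsLinearlyReductive k A) [IsNoetherianRing R] :
    IsNoetherianRing (GLin.invariants k A R) := by
  rw [isNoetherianRing_iff, isNoetherian_iff']
  exact StrictMono.wellFoundedGT (f := fun J : Ideal (GLin.invariants k A R) => J.map (algebraMap (GLin.invariants k A R) R)) fun a b h =>
    lt_of_le_of_ne (Ideal.map_mono h.le) fun e => h.ne (by rw [← comap_map_eq hA a, ← comap_map_eq hA b]; simp [e])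

theorem exists_invariant_conductor (hA : HopfRep.IsLinearlyReductive k A) (I : Ideal R)
    (hI : HopfRep.IsSubcomod (k := k) (A := A) (I.restrictScalars k)) {s : Set R}
    (hs : s ⊆ GLin.invariants k A R) {b : R} (hb : b - 1 ∈ I) (hbI : ∀ y ∈ I, b * y ∈ Ideal.span s) :
    ∃ b' ∈ GLin.invariants k A R, b' - 1 ∈ I ∧ ∀ y ∈ I, b' * y ∈ Ideal.span s := by
  obtain ⟨α, hα, h1⟩ := exists_total R hA
  let E := TameAct.reynolds k A R R α
  have hE1 : E 1 = 1 := reynolds_fixed α h1 (GLin.invariants k A R).one_mem
  have hEI : ∀ y ∈ I, E y ∈ I := by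
    intro y hy
    obtain ⟨z, hz⟩ := hI y hy
    simp only [E, TameAct.reynolds, LinearMap.comp_apply, ← hz]
    clear hz
    induction z with
    | zero => simp
    | add p q hp hq => simp only [map_add]; exact I.add_mem hp hq
    | tmul p q => simpa using I.mul_mem_left _ p.2
  refine ⟨E b, reynolds_mem_fixedPts α hα b, by simpa [map_sub, hE1] using hEI _ hb, fun y hy => ?_⟩
  let T : Ideal (R ⊗[k] A) := (Ideal.span s).map (Algebra.TensorProduct.includeLeft : R →ₐ[k] R ⊗[k] A)
  let Φ : R ⊗[k] A →ₐ[k] R ⊗[k] A :=
    Algebra.TensorProduct.lift (GLin.coactAlgHom k A R) Algebra.TensorProduct.includeRight fun _ _ => Commute.all _ _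
  have hT : ∀ x ∈ T, Φ x ∈ T := by
    intro x hx
    suffices T.map Φ ≤ T from this (Ideal.mem_map_of_mem _ hx)
    rw [Ideal.map_le_iff_le_comap, Ideal.map_le_iff_le_comap, Ideal.span_le]
    intro f hf
    have : Φ (f ⊗ₜ[k] (1 : A)) = f ⊗ₜ[k] (1 : A) := by
      simp [Φ, (GLin.mem_invariants_iff _ _ _ _).1 (hs hf)]
    simp only [SetLike.mem_coe, Ideal.mem_comap, Algebra.TensorProduct.includeLeft_apply, this]
    exact Ideal.mem_map_of_mem (Algebra.TensorProduct.includeLeft : R →ₐ[k] R ⊗[k] A) (Ideal.subset_span hf)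
  have hΦ : ∀ x, Φ (untwist k A R (x ⊗ₜ[k] (1 : A))) = x ⊗ₜ[k] (1 : A) := by
    intro x
    have e : ∀ (g : R →ₐ[k] R ⊗[k] A) (h : A →ₐ[k] R ⊗[k] A), Φ.comp (movePt g h) = movePt (Φ.comp g) (Φ.comp h) := by
      intro g h
      refine AlgHom.ext fun r => ?_
      simp only [movePt, AlgHom.comp_apply]
      induction GLin.coactAlgHom k A R r with
      | zero => simp
      | add p q hp hq => simp only [map_add, hp, hq]
      | tmul p q => simp
    have e2 : Φ.comp (movePt Algebra.TensorProduct.includeLeft
        (Algebra.TensorProduct.includeRight.comp (HopfAlgebra.antipodeAlgHom k A))) =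
        (Algebra.TensorProduct.includeLeft : R →ₐ[k] R ⊗[k] A) := by
      rw [e, ← AlgHom.comp_assoc,
        show Φ.comp (Algebra.TensorProduct.includeLeft : R →ₐ[k] R ⊗[k] A) =
          movePt Algebra.TensorProduct.includeLeft Algebra.TensorProduct.includeRight from AlgHom.ext fun r => by
          simp only [Φ, AlgHom.comp_apply, Algebra.TensorProduct.includeLeft_apply,
            Algebra.TensorProduct.lift_tmul, map_one, mul_one, movePt]
          induction GLin.coactAlgHom k A R r with
          | zero => simp
          | add p q hp hq => simp only [map_add, ← hp, ← hq]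
          | tmul p q => simp,
        show Φ.comp (Algebra.TensorProduct.includeRight : A →ₐ[k] R ⊗[k] A) = Algebra.TensorProduct.includeRight
          from AlgHom.ext fun a => by simp [Φ],
        movePt_movePt, mul_comp_antipode, movePt_one]
    have h3 := DFunLike.congr_fun e2 x
    simp only [AlgHom.comp_apply, Algebra.TensorProduct.includeLeft_apply] at h3
    rw [untwist, Algebra.TensorProduct.lift_tmul, map_one, mul_one]
    exact h3
  have hmem : GLin.coactAlgHom k A R b * (y ⊗ₜ[k] (1 : A)) ∈ T := by
    rw [← hΦ y, show GLin.coactAlgHom k A R b = Φ (b ⊗ₜ[k] (1 : A)) by simp [Φ, ← Algebra.TensorProduct.one_def], ← map_mul]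
    apply hT
    obtain ⟨z, hz⟩ := hI y hy
    have hy' : untwist k A R (y ⊗ₜ[k] (1 : A)) =
        Algebra.TensorProduct.map (AlgHom.id k R) (HopfAlgebra.antipodeAlgHom k A)
          (GLin.coactAlgHom k A R y) := by
      rw [untwist, Algebra.TensorProduct.lift_tmul, map_one, mul_one, movePt, AlgHom.comp_apply]
      induction GLin.coactAlgHom k A R y with
      | zero => simp
      | add p q hp hq => simp only [map_add, hp, hq]
      | tmul p q => simp
    rw [hy', GLin.coactAlgHom_apply, ← hz]
    clear hz hy'
    induction z with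
    | zero => simp
    | add p q hp hq => simp only [map_add, mul_add]; exact T.add_mem hp hq
    | tmul p q =>
      have : ((b * (p : R)) ⊗ₜ[k] (1 : A)) * ((1 : R) ⊗ₜ[k] HopfAlgebra.antipode k q) ∈ T :=
        T.mul_mem_right _ (Ideal.mem_map_of_mem (Algebra.TensorProduct.includeLeft : R →ₐ[k] R ⊗[k] A) (hbI _ p.2))
      simpa using this
  let L : R ⊗[k] A →ₗ[k] R :=
    TensorProduct.lift ((LinearMap.mul k R).compl₂ (α ∘ₗ HopfAlgebra.antipode k (A := A)))
  have hL : ∀ (f : R) (z : R ⊗[k] A), L (z * (f ⊗ₜ[k] (1 : A))) = L z * f := by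
    intro f z
    induction z with
    | zero => simp
    | add p q hp hq => simp only [map_add, add_mul, hp, hq]
    | tmul p q => simp [L]; ring
  have hLT : ∀ x ∈ T, L x ∈ Ideal.span s := by
    intro x hx
    suffices ∀ z, L (z * x) ∈ Ideal.span s by simpa using this 1
    refine Submodule.span_induction (p := fun x _ => ∀ z, L (z * x) ∈ Ideal.span s) ?_ (fun z => by simp)
      (fun p q _ _ hp hq z => by rw [mul_add, map_add]; exact (Ideal.span s).add_mem (hp z) (hq z))
      (fun r p _ hp z => by rw [smul_eq_mul, ← mul_assoc]; exact hp _) hx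
    rintro _ ⟨f, hf, rfl⟩ z
    rw [Algebra.TensorProduct.includeLeft_apply, hL]
    exact Ideal.mul_mem_left _ _ hf
  have := hLT _ hmem
  rw [hL] at this
  convert this using 2
  simp only [E, L, TameAct.reynolds, LinearMap.comp_apply, GLin.coactAlgHom_apply]
  congr 1
  refine TensorProduct.ext' fun p q => ?_
  simp [mul_comm]

theorem exists_subcomod_span_eq [IsNoetherianRing R] (I : Ideal R)
    (hI : HopfRep.IsSubcomod (k := k) (A := A) (I.restrictScalars k)) :
    ∃ W : Submodule k R, Module.Finite k W ∧ HopfRep.IsSubcomod (k := k) (A := A) W ∧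
      W ≤ I.restrictScalars k ∧ Ideal.span (W : Set R) = I := by
  obtain ⟨s, hs⟩ := (IsNoetherian.noetherian I : I.FG)
  let W := Submodule.span (WithConv (A →ₗ[k] k)) (s : Set R)
  have hle : W.restrictScalars k ≤ I.restrictScalars k := by
    have : W ≤ toDual (I.restrictScalars k) hI := Submodule.span_le.2 fun x hx => hs ▸ Ideal.subset_span hx
    exact this
  refine ⟨W.restrictScalars k, finite_span_of_finite s.finite_toSet, isSubcomod_restrictScalars W, hle,
    le_antisymm (Ideal.span_le.2 hle) (hs.ge.trans (Ideal.span_mono Submodule.subset_span))⟩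

end Groth.Agent.Comodule.InvFinite
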