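import Groth.Agent.Comodule.ReynoldsOp
import Groth.Agent.Comodule.InvFinite
import Groth.Agent.Comodule.HilbertFG
import Groth.Agent.Comodule.Extra
import Groth.Agent.RegLocal.Consequences
import Groth.Prelude.Def_W4c6stackyreslrsPsRefl

/-! Invariants of finite linearly reductive group schemes generated by pseudo-reflections. -/

set_option autoImplicit false
set_option backward.isDefEq.respectTransparency false
universe u

open TensorProduct WithConv

noncomputable section

namespace Groth.Agent.Comodule.Chevalley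

variable {k : Type u} [Field k] {A : Type u} [CommRing A] [HopfAlgebra k A]

section Stab

variable {V : Type u} [AddCommGroup V] [Module k V] [HopfRep.Comod k A V]

/-- The coefficient of `f` against `φ`, corrected by its value. -/
def coef (φ : V →ₗ[k] k) (f : V) : A := lcon φ (HopfRep.Comod.coact (k := k) (A := A) f) - φ f • 1

theorem apply_coef (g : A →ₗ[k] k) (φ : V →ₗ[k] k) (f : V) : g (coef φ f) = φ (dact g f - g 1 • f) := by
  simp [coef, eval_lcon, dact, mul_comm]

theorem coef_mem_of_forall (I : Ideal A) (φ : V →ₗ[k] k) (f : V)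
    (h : ∀ g : A →ₗ[k] k, (∀ a ∈ I, g a = 0) → φ (dact g f - g 1 • f) = 0) : coef φ f ∈ I := by
  by_contra hc
  obtain ⟨g, hg, hI⟩ := Submodule.exists_dual_map_eq_bot_of_notMem (p := I.restrictScalars k) hc inferInstance
  refine hg ?_
  rw [apply_coef]
  exact h g fun a ha => by
    have : g a ∈ (I.restrictScalars k).map g := ⟨a, ha, rfl⟩
    rw [hI] at this
    exact (Submodule.mem_bot k).1 this

theorem mem_quotInvariants_iff_coef (I : Ideal A) (f : V) :
    f ∈ GLin.quotInvariants k A V I ↔ ∀ φ : V →ₗ[k] k, coef φ f ∈ I := by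
  rw [GLin.mem_quotInvariants_iff]
  have e : ∀ φ : V →ₗ[k] k, Ideal.Quotient.mkₐ k I (coef φ f) =
      lcon φ (LinearMap.lTensor V (Ideal.Quotient.mkₐ k I).toLinearMap (HopfRep.Comod.coact (k := k) (A := A) f)) -
        lcon φ (f ⊗ₜ[k] (1 : A ⧸ I)) := fun φ => by
    rw [lcon_lTensor, lcon_tmul, coef, map_sub, map_smul, map_one]
    rfl
  constructor
  · intro h φ
    rw [← Ideal.Quotient.eq_zero_iff_mem, ← Ideal.Quotient.mkₐ_eq_mk k, e, h, sub_self]
  · intro h
    refine ext_lcon fun φ => sub_eq_zero.1 ?_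
    rw [← e, Ideal.Quotient.mkₐ_eq_mk, Ideal.Quotient.eq_zero_iff_mem.2 (h φ)]

/-- The ideal of coefficients of a set of vectors relative to a subspace. -/
def stab (𝔞 : Submodule k V) (F : Set V) : Ideal A :=
  Ideal.span {c | ∃ φ : V →ₗ[k] k, (∀ a ∈ 𝔞, φ a = 0) ∧ ∃ f ∈ F, coef φ f = c}

theorem comul_coef (𝔞 : Submodule k V) (h𝔞 : HopfRep.IsSubcomod (k := k) (A := A) 𝔞) (F : Set V)
    (φ : V →ₗ[k] k) (hφ : ∀ a ∈ 𝔞, φ a = 0) {f : V} (hf : f ∈ F) :
    Coalgebra.comul (R := k) (coef φ f) - coef φ f ⊗ₜ[k] (1 : A) ∈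
      LinearMap.range (((stab (A := A) 𝔞 F).restrictScalars k).subtype.lTensor A) := by
  let cm := (coefMap (C := A) φ).restrictScalars k
  have hcm : ∀ v, cm v = lcon φ (HopfRep.Comod.coact (k := k) (A := A) v) := fun v => coefMap_apply φ v
  have h : Coalgebra.comul (R := k) (cm f) = cm.rTensor A (HopfRep.Comod.coact (k := k) (A := A) f) :=
    LinearMap.congr_fun (isComodHom_restrictScalars (coefMap (C := A) φ)) f
  have e : Coalgebra.comul (R := k) (coef φ f) - coef φ f ⊗ₜ[k] (1 : A) =
      cm.rTensor A (HopfRep.Comod.coact (k := k) (A := A) f - f ⊗ₜ[k] (1 : A)) := by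
    rw [coef, ← hcm, map_sub, map_smul, Bialgebra.comul_one, Algebra.TensorProduct.one_def, h, map_sub,
      LinearMap.rTensor_tmul, TensorProduct.sub_tmul, TensorProduct.smul_tmul']
    abel
  rw [e, mem_range_lTensor_iff]
  intro ψ
  refine Ideal.subset_span ⟨ψ ∘ₗ cm, fun a ha => ?_, f, hf, ?_⟩
  · obtain ⟨z, hz⟩ := h𝔞 a ha
    rw [LinearMap.comp_apply, hcm, ← hz, lcon_rTensor, show φ ∘ₗ 𝔞.subtype = 0 from LinearMap.ext fun x => hφ x x.2]
    simp [lcon]
  · rw [lcon_rTensor, map_sub, lcon_tmul]
    rfl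

theorem isHopfIdeal_stab (𝔞 : Submodule k V) (h𝔞 : HopfRep.IsSubcomod (k := k) (A := A) 𝔞) (F : Set V) :
    (stab (A := A) 𝔞 F).IsHopfIdeal k := by
  let J := stab (A := A) 𝔞 F
  let π := (Ideal.Quotient.mkₐ k J)
  have hε : ∀ c ∈ J, Coalgebra.counit (R := k) c = 0 := by
    intro c hc
    induction hc using Submodule.span_induction with
    | mem c hc =>
      obtain ⟨φ, -, f, -, rfl⟩ := hc
      rw [coef, map_sub, map_smul, Bialgebra.counit_one, smul_eq_mul, mul_one,
        show Coalgebra.counit (R := k) (lcon φ (HopfRep.Comod.coact (k := k) (A := A) f)) = φ f by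
          rw [← coefMap_apply, counit_coefMap (k := k) (C := A)], sub_self]
    | zero => simp
    | add p q _ _ hp hq => rw [map_add, hp, hq, add_zero]
    | smul r p _ hp => rw [smul_eq_mul, Bialgebra.counit_mul, hp, mul_zero]
  have hker : LinearMap.range ((J.restrictScalars k).subtype.lTensor A) ≤
      LinearMap.ker (TensorProduct.map π.toLinearMap π.toLinearMap) := by
    rintro _ ⟨z, rfl⟩
    rw [LinearMap.mem_ker]
    induction z with
    | zero => simp
    | add p q hp hq => rw [map_add, map_add, hp, hq, add_zero]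
    | tmul p q =>
      have : π (q : A) = 0 := Ideal.Quotient.eq_zero_iff_mem.2 q.2
      simp [this]
  have hΔ : ∀ c ∈ J, Algebra.TensorProduct.map π π (Bialgebra.comulAlgHom k A c) = 0 := by
    suffices J ≤ RingHom.ker ((Algebra.TensorProduct.map π π).comp (Bialgebra.comulAlgHom k A)) from
      fun c hc => this hc
    refine Ideal.span_le.2 ?_
    rintro c ⟨φ, hφ, f, hf, rfl⟩
    have h := hker (comul_coef (A := A) 𝔞 h𝔞 F φ hφ hf)
    have h0 : π (coef φ f) = 0 := Ideal.Quotient.eq_zero_iff_mem.2 (Ideal.subset_span ⟨φ, hφ, f, hf, rfl⟩)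
    rw [LinearMap.mem_ker, map_sub, TensorProduct.map_tmul, AlgHom.toLinearMap_apply, h0, TensorProduct.zero_tmul,
      sub_zero] at h
    exact h
  have hS : J ≤ J.comap (HopfAlgebra.antipodeAlgHom k A) := by
    refine Ideal.span_le.2 ?_
    rintro c ⟨φ, hφ, f, hf, rfl⟩
    obtain ⟨z, hz⟩ := comul_coef (A := A) 𝔞 h𝔞 F φ hφ hf
    have h := HopfAlgebra.mul_antipode_rTensor_comul_apply (R := k) (coef (A := A) φ f)
    rw [hε _ (Ideal.subset_span ⟨φ, hφ, f, hf, rfl⟩), map_zero, eq_add_of_sub_eq hz.symm, map_add, map_add,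
      LinearMap.rTensor_tmul, LinearMap.mul'_apply, mul_one] at h
    have hmem : LinearMap.mul' k A (LinearMap.rTensor A (HopfAlgebra.antipode k (A := A))
        ((J.restrictScalars k).subtype.lTensor A z)) ∈ J := by
      clear hz h
      induction z with
      | zero => simp
      | add p q hp hq => simp only [map_add]; exact J.add_mem hp hq
      | tmul p q => simpa using J.mul_mem_left _ q.2
    show HopfAlgebra.antipode k (coef φ f) ∈ J
    rw [eq_neg_of_add_eq_zero_right h]
    exact J.neg_mem hmem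
  exact { counit_eq_zero := hε, map_mkQ_comul_eq_zero := hΔ, antipode_mem := fun x hx => hS hx }

end Stab

section General

theorem isRegularLocalRing_under {S R : Type u} [CommRing S] [CommRing R] [Algebra S R] [Module.Flat S R]
    [IsNoetherianRing S] [IsRegularRing R] (q : Ideal R) [q.IsPrime] (p : Ideal S) [p.IsPrime] (h : p = q.under S) :
    IsRegularLocalRing (Localization.AtPrime p) := by
  haveI : q.LiesOver p := ⟨h⟩
  letI : Algebra (Localization.AtPrime p) (Localization.AtPrime q) :=
    (Localization.localRingHom p q (algebraMap S R) (q.over_def p)).toAlgebra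
  haveI : Localization.AtPrime.IsLiesOverAlgebra p q := ⟨rfl⟩
  haveI : IsScalarTower S (Localization.AtPrime p) (Localization.AtPrime q) := IsScalarTower.of_algebraMap_eq fun x => by
    rw [RingHom.algebraMap_toAlgebra, Localization.localRingHom_to_map]
    exact IsScalarTower.algebraMap_apply S R _ x
  haveI : IsLocalHom (algebraMap (Localization.AtPrime p) (Localization.AtPrime q)) :=
    Localization.isLocalHom_localRingHom _ _ _ _
  exact Groth.Agent.RegLocal.isRegularLocalRing_of_flat (Localization.AtPrime p) (Localization.AtPrime q)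

variable {S : Type u} [CommRing S] [Algebra k S]

/-- Elements independent modulo `p²` at a regular rational point bound the local dimension from below. -/
theorem le_ringKrullDim_atPrime (p : Ideal S) [p.IsPrime] [IsRegularLocalRing (Localization.AtPrime p)]
    (hdec : ∀ s : S, ∃ c : k, s - algebraMap k S c ∈ p) {m : ℕ} (g : Fin m → S) (hgp : ∀ i, g i ∈ p)
    (hgli : LinearIndependent k (fun i => ((p ^ 2).restrictScalars k).mkQ (g i))) :
    (m : WithBot ℕ∞) ≤ ringKrullDim (Localization.AtPrime p) := by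
  classical
  rw [← IsRegularLocalRing.spanFinrank_maximalIdeal (R := Localization.AtPrime p),
    IsLocalRing.spanFinrank_maximalIdeal_eq_finrank_cotangentSpace]
  have hM : ∀ i, algebraMap S (Localization.AtPrime p) (g i) ∈ IsLocalRing.maximalIdeal (Localization.AtPrime p) :=
    fun i => by
      rw [← Localization.AtPrime.map_eq_maximalIdeal]
      exact Ideal.mem_map_of_mem _ (hgp i)
  let w : Fin m → IsLocalRing.CotangentSpace (Localization.AtPrime p) :=
    fun i => (IsLocalRing.maximalIdeal (Localization.AtPrime p)).toCotangent ⟨_, hM i⟩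
  have hw : LinearIndependent (IsLocalRing.ResidueField (Localization.AtPrime p)) w := by
    rw [Fintype.linearIndependent_iff]
    intro a ha
    have hz : ∀ y : S, ∃ c : k, IsLocalRing.residue (Localization.AtPrime p) (algebraMap S _ y) =
        IsLocalRing.residue (Localization.AtPrime p) (algebraMap S _ (algebraMap k S c)) := fun y => by
      obtain ⟨c, hc⟩ := hdec y
      refine ⟨c, ?_⟩
      rw [← sub_eq_zero, ← map_sub, ← map_sub, IsLocalRing.residue_eq_zero_iff,
        ← Localization.AtPrime.map_eq_maximalIdeal]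
      exact Ideal.mem_map_of_mem _ hc
    have hres : ∀ x : IsLocalRing.ResidueField (Localization.AtPrime p), ∃ c : k,
        IsLocalRing.residue (Localization.AtPrime p) (algebraMap S _ (algebraMap k S c)) = x := by
      intro x
      obtain ⟨x, rfl⟩ := IsLocalRing.residue_surjective x
      obtain ⟨s, u, rfl⟩ := IsLocalization.exists_mk'_eq p.primeCompl x
      obtain ⟨cs, hcs⟩ := hz s
      obtain ⟨cu, hcu⟩ := hz (u : S)
      have hu' : IsLocalRing.residue (Localization.AtPrime p) (algebraMap S _ (u : S)) ≠ 0 :=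
        ((IsLocalization.map_units _ u).map (IsLocalRing.residue _)).ne_zero
      have hcu0 : cu ≠ 0 := fun e => hu' (by rw [hcu, e, map_zero, map_zero, map_zero])
      refine ⟨cs / cu, mul_right_cancel₀ hu' ?_⟩
      rw [← map_mul (IsLocalRing.residue (Localization.AtPrime p)) (IsLocalization.mk' _ s u), IsLocalization.mk'_spec,
        hcs, hcu, ← map_mul, ← map_mul, ← map_mul, div_mul_cancel₀ _ hcu0]
    choose c hc using fun i => hres (a i)
    have hsum : ∑ i, c i • g i ∈ p ^ 2 := by
      have hz' : algebraMap S (Localization.AtPrime p) (∑ i, c i • g i) ∈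
          IsLocalRing.maximalIdeal (Localization.AtPrime p) ^ 2 := by
        have e : (IsLocalRing.maximalIdeal (Localization.AtPrime p)).toCotangent
            (∑ i, algebraMap S (Localization.AtPrime p) (algebraMap k S (c i)) •
              (⟨_, hM i⟩ : IsLocalRing.maximalIdeal (Localization.AtPrime p))) = 0 := by
          rw [map_sum, ← ha]
          refine Finset.sum_congr rfl fun i _ => ?_
          rw [map_smul, ← hc i]
          rfl
        rw [Ideal.toCotangent_eq_zero] at e
        simpa [Algebra.smul_def, ← IsScalarTower.algebraMap_apply] using e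
      rw [← Localization.AtPrime.map_eq_maximalIdeal, ← Ideal.map_pow,
        IsLocalization.mem_map_algebraMap_iff p.primeCompl] at hz'
      obtain ⟨⟨y, u⟩, hy⟩ := hz'
      rw [← map_mul] at hy
      obtain ⟨u', hu'⟩ := (IsLocalization.eq_iff_exists p.primeCompl _).1 hy
      obtain ⟨cv, hcv⟩ := hdec ((u' : S) * (u : S))
      have hcv0 : cv ≠ 0 := fun e => (mul_mem u'.2 u.2 : (u' : S) * (u : S) ∈ p.primeCompl) (by simpa [e] using hcv)
      have hx : ∑ i, c i • g i ∈ p := Ideal.sum_mem _ fun i _ => Submodule.smul_of_tower_mem p (c i) (hgp i)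
      have h4 : (∑ i, c i • g i) * ((u' : S) * (u : S) - algebraMap k S cv) ∈ p ^ 2 := by
        rw [pow_two]; exact Ideal.mul_mem_mul hx hcv
      rw [mul_sub, show (∑ i, c i • g i) * ((u' : S) * (u : S)) = u' * y by rw [← hu']; ring] at h4
      exact (Ideal.mul_unit_mem_iff_mem _ ((isUnit_iff_ne_zero.2 hcv0).map (algebraMap k S))).1
        ((Submodule.sub_mem_iff_right _ (Ideal.mul_mem_left _ _ y.2)).1 h4)
    intro i
    have h0 : ∀ i, c i = 0 := Fintype.linearIndependent_iff.1 hgli c (by
      simp only [← map_smul, ← map_sum]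
      exact (Submodule.Quotient.mk_eq_zero _).2 hsum)
    rw [← hc i, h0 i]
    simp
  have := hw.fintype_card_le_finrank
  rw [Fintype.card_fin] at this
  exact_mod_cast this

/-- Elements independent modulo `p²` at a regular rational point bound the dimension from below. -/
theorem le_ringKrullDim_of_linearIndependent (p : Ideal S) [p.IsPrime] [IsRegularLocalRing (Localization.AtPrime p)]
    (hdec : ∀ s : S, ∃ c : k, s - algebraMap k S c ∈ p) {m : ℕ} (g : Fin m → S) (hgp : ∀ i, g i ∈ p)
    (hgli : LinearIndependent k (fun i => ((p ^ 2).restrictScalars k).mkQ (g i))) :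
    (m : WithBot ℕ∞) ≤ ringKrullDim S :=
  (le_ringKrullDim_atPrime p hdec g hgp hgli).trans (Order.krullDim_le_of_strictMono
    (PrimeSpectrum.comap (algebraMap S (Localization.AtPrime p)))
    (IsLocalization.AtPrime.primeSpectrumOrderIso (Localization.AtPrime p) p).strictMono)

end General

section Poly

variable {ι : Type u} [Fintype ι] [HopfRep.Comod k A (MvPolynomial ι k)] [GLin.IsCoactAlg k A (MvPolynomial ι k)]

theorem stab_le_genIdeal (𝔞 : Submodule k (MvPolynomial ι k)) (h𝔞 : HopfRep.IsSubcomod (k := k) (A := A) 𝔞)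
    (F : Set (MvPolynomial ι k))
    (hF : ∀ I : Ideal A, GLin.IsPseudoRefl k A ι I → ∀ f ∈ F, ∀ φ : MvPolynomial ι k →ₗ[k] k,
      (∀ a ∈ 𝔞, φ a = 0) → coef φ f ∈ I) :
    stab (A := A) 𝔞 F ≤ GLin.genIdeal k A ι := by
  refine le_sSup ⟨isHopfIdeal_stab 𝔞 h𝔞 F, fun I hI => Ideal.span_le.2 ?_⟩
  rintro c ⟨φ, hφ, f, hf, rfl⟩
  exact hF I hI f hf φ hφ

omit [GLin.IsCoactAlg k A (MvPolynomial ι k)] in
theorem quotInvariants_genIdeal :
    GLin.quotInvariants k A (MvPolynomial ι k) (GLin.genIdeal k A ι) =
      ⨅ (I : Ideal A) (_ : GLin.IsPseudoRefl k A ι I), GLin.quotInvariants k A (MvPolynomial ι k) I := by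
  refine le_antisymm (le_iInf₂ fun I hI f hf => ?_) fun f hf => ?_
  · rw [mem_quotInvariants_iff_coef] at hf ⊢
    exact fun φ => (sSup_le fun J hJ => hJ.2 I hI : GLin.genIdeal k A ι ≤ I) (hf φ)
  · simp only [Submodule.mem_iInf, mem_quotInvariants_iff_coef] at hf
    rw [mem_quotInvariants_iff_coef]
    intro φ
    have hbot : HopfRep.IsSubcomod (k := k) (A := A) (⊥ : Submodule k (MvPolynomial ι k)) := isSubcomod_bot
    refine (show stab (A := A) ⊥ {f} ≤ GLin.genIdeal k A ι from ?_)
      (Ideal.subset_span ⟨φ, fun a ha => by rw [(Submodule.mem_bot k).1 ha, map_zero], f, rfl, rfl⟩)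
    refine le_sSup ⟨isHopfIdeal_stab ⊥ hbot {f}, fun I hI => Ideal.span_le.2 ?_⟩
    rintro c ⟨ψ, -, _, rfl, rfl⟩
    exact hf I hI ψ

local notation "ℛ" => MvPolynomial ι k
local notation "𝒮" => GLin.invariants k A (MvPolynomial ι k)

theorem dact_mul_invariant (g : A →ₗ[k] k) {s : ℛ} (hs : s ∈ 𝒮) (f : ℛ) : dact g (s * f) = s * dact g f := by
  simp only [dact, LinearMap.comp_apply, GLin.IsCoactAlg.coact_mul, (GLin.mem_invariants_iff _ _ _ _).1 hs]
  induction HopfRep.Comod.coact (k := k) (A := A) f with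
  | zero => simp
  | add p q hp hq => simp only [map_add, mul_add, hp, hq]
  | tmul p q => simp [rcon]

theorem dact_isHomogeneous (hlin : GLin.IsLinear k A ι) (g : A →ₗ[k] k) {f : ℛ} {n : ℕ} (hf : f.IsHomogeneous n) :
    (dact g f).IsHomogeneous n :=
  isSubcomod_iff.mp (HilbertFG.isSubcomod_homogeneous hlin n) (toConv g) f hf

/-- The linear form of a pseudo-reflection divides all displacements. -/
theorem exists_root (hlin : GLin.IsLinear k A ι)
    (hsub : ∀ (I : Ideal A) [I.IsHopfIdeal k], HopfRep.IsLinearlyReductive k (A ⧸ I))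
    {I : Ideal A} (hI : GLin.IsPseudoRefl k A ι I) :
    ∃ v : ℛ, v ≠ 0 ∧ v.IsHomogeneous 1 ∧
      ∀ g : A →ₗ[k] k, (∀ a ∈ I, g a = 0) → ∀ f : ℛ, v ∣ dact g f - g 1 • f := by
  haveI := hI.1
  let ρ' : ℛ →ₐ[k] ℛ ⊗[k] (A ⧸ I) :=
    (Algebra.TensorProduct.map (AlgHom.id k ℛ) (Ideal.Quotient.mkₐ k I)).comp (GLin.coactAlgHom k A ℛ)
  let L := MvPolynomial.homogeneousSubmodule ι k 1
  let W := L ⊓ GLin.quotInvariants k A ℛ I
  letI c' := pushComod (k := k) (C := A) ℛ (Bialgebra.Quotient.mkBialgHom (R := k) I).toCoalgHom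
  have hρ' : ∀ f, HopfRep.Comod.coact (k := k) (A := A ⧸ I) f = ρ' f := fun f => rfl
  have hL : HopfRep.IsSubcomod (k := k) (A := A ⧸ I) L :=
    isSubcomod_push _ L (HilbertFG.isSubcomod_homogeneous hlin 1)
  have hW : HopfRep.IsSubcomod (k := k) (A := A ⧸ I) W := by
    refine isSubcomod_iff.mpr fun g w hw => ?_
    have e : g • w = g.ofConv 1 • w := by
      rw [smul_def, dact, LinearMap.comp_apply]
      exact (congrArg (rcon g.ofConv) ((GLin.mem_quotInvariants_iff k A ℛ I w).1 hw.2)).trans (rcon_tmul _ _ _)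
    rw [e]; exact W.smul_mem _ hw
  haveI := isSemisimpleModule_of_linRed (hsub I) ℛ
  obtain ⟨Q, hQ⟩ := exists_isCompl (toDual W hW)
  let U := L ⊓ Q.restrictScalars k
  have hU : HopfRep.IsSubcomod (k := k) (A := A ⧸ I) U :=
    isSubcomod_iff.mpr fun g w hw => ⟨isSubcomod_iff.mp hL g w hw.1, Q.smul_mem g hw.2⟩
  have hWU : W ⊔ U = L := by
    refine le_antisymm (sup_le inf_le_left inf_le_left) fun x hx => ?_
    obtain ⟨w, hw, q, hq, rfl⟩ := Submodule.mem_sup.1 (hQ.sup_eq_top.ge (Submodule.mem_top : x ∈ ⊤))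
    exact Submodule.add_mem_sup hw ⟨by simpa using L.sub_mem hx hw.1, hq⟩
  have hdisj : W ⊓ U = ⊥ := by
    rw [Submodule.eq_bot_iff]
    exact fun x hx => Submodule.disjoint_def.1 hQ.disjoint x hx.1 hx.2.2
  haveI : Module.Finite k L := Module.Finite.iff_fg.2 (by
    rw [show L = MvPolynomial.homogeneousSubmodule ι k 1 from rfl, MvPolynomial.homogeneousSubmodule_one_eq_span_X]
    exact Submodule.fg_span (Set.finite_range _))
  haveI : Module.Finite k W := Submodule.finiteDimensional_of_le (inf_le_left : W ≤ L)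
  haveI : Module.Finite k U := Submodule.finiteDimensional_of_le (inf_le_left : U ≤ L)
  have hU1 : Module.finrank k U = 1 := by
    have h := Submodule.finrank_sup_add_finrank_inf_eq W U
    rw [hWU, hdisj, finrank_bot, add_zero] at h
    have h2 := hI.2
    change Module.finrank k W + 1 = Module.finrank k L at h2
    omega
  obtain ⟨⟨v, hv⟩, hv0, hspan⟩ := finrank_eq_one_iff'.1 hU1
  have hv0' : v ≠ 0 := fun h => hv0 (Subtype.ext h)
  refine ⟨v, hv0', hv.1, fun g hg f => ?_⟩
  let iL : ℛ →ₐ[k] ℛ ⊗[k] (A ⧸ I) := Algebra.TensorProduct.includeLeft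
  let T : Ideal (ℛ ⊗[k] (A ⧸ I)) := Ideal.span {iL v}
  have hvT : ρ' v - iL v ∈ T := by
    obtain ⟨z, hz⟩ := hU v hv
    rw [hρ'] at hz
    rw [← hz]
    refine T.sub_mem ?_ (Ideal.subset_span rfl)
    clear hz
    induction z with
    | zero => simp
    | add p q hp hq => rw [map_add]; exact T.add_mem hp hq
    | tmul p q =>
      obtain ⟨c, hc⟩ := hspan p
      have hp : (p : ℛ) = c • v := (congrArg Subtype.val hc).symm
      rw [LinearMap.rTensor_tmul, Submodule.subtype_apply, hp, TensorProduct.smul_tmul,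
        show v ⊗ₜ[k] (c • q) = iL v * ((1 : ℛ) ⊗ₜ[k] (c • q)) by
          rw [Algebra.TensorProduct.includeLeft_apply, Algebra.TensorProduct.tmul_mul_tmul, mul_one, one_mul]]
      exact T.mul_mem_right _ (Ideal.subset_span rfl)
  have hlinT : ∀ i, ρ' (MvPolynomial.X i) - iL (MvPolynomial.X i) ∈ T := by
    intro i
    obtain ⟨w, hw, u, hu, hwu⟩ := Submodule.mem_sup.1 (hWU.ge (MvPolynomial.isHomogeneous_X k i : MvPolynomial.X i ∈ L))
    obtain ⟨c, hc⟩ := hspan ⟨u, hu⟩
    have hu' : u = c • v := (congrArg Subtype.val hc).symm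
    have hρw : ρ' w = iL w := (GLin.mem_quotInvariants_iff k A ℛ I w).1 hw.2
    rw [← hwu, map_add, map_add, hρw, hu', map_smul, map_smul, add_sub_add_left_eq_sub]
    simpa only [smul_sub] using Submodule.smul_of_tower_mem T c hvT
  have hall : ρ' f - iL f ∈ T := by
    have : (Ideal.Quotient.mkₐ k T).comp ρ' = (Ideal.Quotient.mkₐ k T).comp iL :=
      MvPolynomial.algHom_ext fun i => Ideal.Quotient.eq.2 (hlinT i)
    exact Ideal.Quotient.eq.1 (DFunLike.congr_fun this f)
  obtain ⟨z, hz⟩ := Ideal.mem_span_singleton.1 hall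
  let g' : A ⧸ I →ₗ[k] k := Submodule.liftQ (I.restrictScalars k) g hg
  refine ⟨rcon g' z, ?_⟩
  have h1 : rcon g' (ρ' f) = dact g f := by
    simp only [ρ', AlgHom.comp_apply, GLin.coactAlgHom_apply, dact, LinearMap.comp_apply]
    induction HopfRep.Comod.coact (k := k) (A := A) f with
    | zero => simp
    | add p q hp hq => simp only [map_add, hp, hq]
    | tmul p q => simp [rcon, g']; rfl
  have h2 : ∀ y : ℛ ⊗[k] (A ⧸ I), rcon g' (iL v * y) = v * rcon g' y := by
    intro y
    induction y with
    | zero => simp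
    | add p q hp hq => simp only [map_add, mul_add, hp, hq]
    | tmul p q => simp [iL, rcon]
  rw [← h2, ← hz, map_sub, h1]
  congr 1

/-- The ideal of positive degree invariants in the polynomial ring. -/
def invIdeal : Ideal ℛ := Ideal.span {s | s ∈ 𝒮 ∧ MvPolynomial.constantCoeff s = 0}

theorem isSubcomod_invIdeal : HopfRep.IsSubcomod (k := k) (A := A) ((invIdeal (k := k) (A := A) (ι := ι)).restrictScalars k) := by
  refine isSubcomod_iff.mpr fun g x hx => ?_
  suffices ∀ r, dact g.ofConv (r * x) ∈ invIdeal (k := k) (A := A) (ι := ι) by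
    simpa [Submodule.restrictScalars_mem, smul_def] using this 1
  induction (show x ∈ invIdeal (k := k) (A := A) (ι := ι) from hx) using Submodule.span_induction with
  | mem s hs =>
    intro r
    rw [mul_comm, dact_mul_invariant g.ofConv hs.1]
    exact Ideal.mul_mem_right _ _ (Ideal.subset_span hs)
  | zero => simp
  | add p q hp' hq' hp hq => intro r; rw [mul_add, map_add]; exact Ideal.add_mem _ (hp hp' r) (hq hq' r)
  | smul c p hp' hp => intro r; rw [smul_eq_mul, ← mul_assoc]; exact hp hp' _

variable (hlin : GLin.IsLinear k A ι) (hG : HopfRep.IsLinearlyReductive k A)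
  (hsub : ∀ (I : Ideal A) [I.IsHopfIdeal k], HopfRep.IsLinearlyReductive k (A ⧸ I))
  (hgen : GLin.IsGenByPseudoRefl k A ι)

include hlin hG hsub hgen in
theorem key : ∀ (n m : ℕ) (g : Fin (m + 1) → 𝒮) (f : Fin (m + 1) → ℛ), (f 0).IsHomogeneous n →
    g 0 ∉ Ideal.span (Set.range fun i : Fin m => g i.succ) → (∑ i, (g i : ℛ) * f i) = 0 →
    f 0 ∈ invIdeal (k := k) (A := A) (ι := ι) := by
  intro n
  obtain ⟨l, h1, -, hmem, hstab⟩ := ReynoldsOp.avg_mem (V := ℛ) hG
  induction n using Nat.strong_induction_on with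
  | _ n ih =>
  intro m g f hf hg hsum
  rcases Nat.eq_zero_or_pos n with rfl | hn
  · by_contra h0
    obtain ⟨c, hc⟩ : ∃ c : k, f 0 = MvPolynomial.C c :=
      ⟨_, (MvPolynomial.totalDegree_eq_zero_iff_eq_C).1 (Nat.le_zero.1 hf.totalDegree_le)⟩
    have hc0 : c ≠ 0 := fun e => h0 (by rw [hc, e, map_zero]; exact Ideal.zero_mem _)
    let E : ℛ →ₗ[k] ℛ := ReynoldsOp.avg l
    have hEs : ∀ (s : 𝒮) (x : ℛ), E ((s : ℛ) * x) = (s : ℛ) * E x := fun s x => by
      simp only [E, ReynoldsOp.avg_eq_dact, dact_mul_invariant _ s.2]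
    have hE : ∑ i, (g i : ℛ) * E (f i) = 0 := by
      have := congrArg E hsum
      rw [map_sum, map_zero, Finset.sum_congr rfl fun i _ => hEs (g i) (f i)] at this
      exact this
    rw [Fin.sum_univ_succ, hc, show E (MvPolynomial.C c) = MvPolynomial.C c from
      ReynoldsOp.avg_fixed l h1 ((GLin.invariants k A ℛ).algebraMap_mem c)] at hE
    refine hg ?_
    have hS : g 0 * algebraMap k 𝒮 c = -∑ i : Fin m, g i.succ * (⟨E (f i.succ), hmem _⟩ : 𝒮) := Subtype.ext (by
      push_cast
      exact eq_neg_of_add_eq_zero_left hE)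
    have hmem' : g 0 * algebraMap k 𝒮 c ∈ Ideal.span (Set.range fun i : Fin m => g i.succ) := by
      rw [hS]
      refine neg_mem (Ideal.sum_mem _ fun i _ => ?_)
      exact Ideal.mul_mem_right _ _ (Ideal.subset_span (Set.mem_range_self (f := fun i : Fin m => g i.succ) i))
    exact (Ideal.mul_unit_mem_iff_mem _ ((isUnit_iff_ne_zero.2 hc0).map (algebraMap k 𝒮))).1 hmem'
  let 𝔞 := (invIdeal (k := k) (A := A) (ι := ι)).restrictScalars k
  have hI : ∀ I : Ideal A, GLin.IsPseudoRefl k A ι I → ∀ φ : ℛ →ₗ[k] k, (∀ a ∈ 𝔞, φ a = 0) → coef φ (f 0) ∈ I := by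
    intro I hI φ hφ
    refine coef_mem_of_forall I φ _ fun γ hγ => hφ _ ?_
    obtain ⟨v, hv0, hv1, hdiv⟩ := exists_root hlin hsub hI
    choose d hd using fun i => hdiv γ hγ (f i)
    have hsum' : ∑ i, (g i : ℛ) * d i = 0 := by
      have h0 : ∑ i, (g i : ℛ) * (dact γ (f i) - γ 1 • f i) = 0 := by
        simp only [mul_sub, Finset.sum_sub_distrib, mul_smul_comm, ← Finset.smul_sum, hsum, smul_zero, sub_zero,
          ← dact_mul_invariant γ (g _).2]
        rw [← map_sum, hsum, map_zero]
      simp only [hd, mul_left_comm _ v, ← Finset.mul_sum] at h0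
      exact (mul_eq_zero.1 h0).resolve_left hv0
    have hdh : (d 0).IsHomogeneous (n - 1) := by
      have hh : (v * d 0).IsHomogeneous n := hd 0 ▸
        Submodule.sub_mem (MvPolynomial.homogeneousSubmodule ι k n) (dact_isHomogeneous hlin γ hf)
          (Submodule.smul_mem _ _ hf)
      have e : MvPolynomial.homogeneousComponent (n - 1) (d 0) = d 0 := by
        refine mul_left_cancel₀ hv0 ?_
        conv_rhs => rw [← MvPolynomial.homogeneousComponent_eq_self hh]
        conv_rhs => rw [← MvPolynomial.sum_homogeneousComponent (d 0), Finset.mul_sum, map_sum]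
        rw [Finset.sum_eq_single (n - 1)]
        · rw [MvPolynomial.homogeneousComponent_eq_self (p := v * _)]
          have := hv1.mul (MvPolynomial.homogeneousComponent_isHomogeneous (n - 1) (d 0))
          rwa [show 1 + (n - 1) = n by omega] at this
        · intro j _ hj
          rw [MvPolynomial.homogeneousComponent_of_mem (hv1.mul (MvPolynomial.homogeneousComponent_isHomogeneous j (d 0))),
            if_neg (by omega)]
        · intro h
          rw [MvPolynomial.homogeneousComponent_eq_zero (n - 1) (d 0) (by simp at h; omega), mul_zero, map_zero]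
      exact e ▸ MvPolynomial.homogeneousComponent_isHomogeneous _ _
    rw [hd 0]
    exact Ideal.mul_mem_left _ v (ih (n - 1) (by omega) m g d hdh hg hsum')
  have hgen' : ∀ φ : ℛ →ₗ[k] k, (∀ a ∈ 𝔞, φ a = 0) → coef (A := A) φ (f 0) = 0 := by
    intro φ hφ
    have := stab_le_genIdeal 𝔞 isSubcomod_invIdeal {f 0} (fun I hI' x hx φ hφ => (Set.mem_singleton_iff.1 hx) ▸ hI I hI' φ hφ)
      (Ideal.subset_span ⟨φ, hφ, f 0, rfl, rfl⟩)
    rw [show GLin.genIdeal k A ι = ⊥ from hgen] at this
    exact this
  have hE : f 0 - ReynoldsOp.avg l (f 0) ∈ 𝔞 := by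
    by_contra hc
    obtain ⟨φ, hφ, hφ0⟩ := Submodule.exists_dual_map_eq_bot_of_notMem hc inferInstance
    refine hφ ?_
    have h := apply_coef (A := A) (l ∘ₗ HopfAlgebra.antipode k (A := A)) φ (f 0)
    rw [hgen' φ fun a ha => (Submodule.mem_bot k).1 (hφ0 ▸ ⟨a, ha, rfl⟩ : φ a ∈ (⊥ : Submodule k k)), map_zero,
      ← ReynoldsOp.avg_eq_dact, LinearMap.comp_apply, HopfAlgebra.antipode_one, h1, one_smul, ← neg_sub (f 0),
      map_neg] at h
    exact neg_eq_zero.1 h.symm
  have hE' : ReynoldsOp.avg l (f 0) ∈ invIdeal (k := k) (A := A) (ι := ι) := by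
    refine Ideal.subset_span ⟨hmem _, ?_⟩
    have hh : (ReynoldsOp.avg l (f 0)).IsHomogeneous n :=
      hstab _ (HilbertFG.isSubcomod_homogeneous hlin n) _ hf
    rw [MvPolynomial.constantCoeff_eq]
    exact hh.coeff_eq_zero (by simpa using hn.ne)
  simpa using (invIdeal (k := k) (A := A) (ι := ι)).add_mem hE hE'

omit [Fintype ι] [HopfRep.Comod k A (MvPolynomial ι k)] [GLin.IsCoactAlg k A (MvPolynomial ι k)] in
theorem comp_mul_homogeneous (c : ℛ) {g : ℛ} {d : ℕ} (hg : g.IsHomogeneous d) (D : ℕ) :
    MvPolynomial.homogeneousComponent D (c * g) =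
      if d ≤ D then MvPolynomial.homogeneousComponent (D - d) c * g else 0 := by
  conv_lhs => rw [← MvPolynomial.sum_homogeneousComponent c, Finset.sum_mul, map_sum]
  have e : ∀ j, MvPolynomial.homogeneousComponent D (MvPolynomial.homogeneousComponent j c * g) =
      if D = j + d then MvPolynomial.homogeneousComponent j c * g else 0 := fun j =>
    MvPolynomial.homogeneousComponent_of_mem ((MvPolynomial.homogeneousComponent_isHomogeneous j c).mul hg)
  simp only [e]
  split
  · rename_i h
    rw [Finset.sum_eq_single (D - d)]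
    · rw [if_pos (by omega)]
    · intro j _ hj; rw [if_neg (by omega)]
    · intro h'
      rw [MvPolynomial.homogeneousComponent_eq_zero (D - d) c (by simp at h'; omega), zero_mul, ite_self]
  · rename_i h
    exact Finset.sum_eq_zero fun j _ => if_neg (by omega)

include hlin in
theorem comp_mem (s : 𝒮) (D : ℕ) : MvPolynomial.homogeneousComponent D (s : ℛ) ∈ 𝒮 :=
  HilbertFG.homogeneousComponent_mem_invariants hlin s.2 D

include hlin hG hsub hgen in
theorem indep : ∀ (m N : ℕ) (f : Fin m → ℛ) (n : Fin m → ℕ) (g : Fin m → 𝒮) (d : Fin m → ℕ),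
    (∀ i, (f i).IsHomogeneous (n i)) →
    LinearIndependent k (fun i => ((invIdeal (k := k) (A := A) (ι := ι)).restrictScalars k).mkQ (f i)) →
    (∀ i, (g i : ℛ).IsHomogeneous (d i) ∧ (g i = 0 ∨ d i + n i = N)) →
    (∑ i, (g i : ℛ) * f i) = 0 → g = 0 := by
  intro m
  induction m with
  | zero => intros; exact Subsingleton.elim _ _
  | succ m ih =>
    intro N f n g d hf hli hg hsum
    by_cases h0 : g 0 = 0
    · have := ih N (fun i => f i.succ) (fun i => n i.succ) (fun i => g i.succ) (fun i => d i.succ) (fun i => hf _)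
        (hli.comp _ (Fin.succ_injective m)) (fun i => hg _) (by
          rw [Fin.sum_univ_succ, h0] at hsum; simpa using hsum)
      exact funext fun i => Fin.cases h0 (fun j => congrFun this j) i
    exfalso
    have hN : d 0 + n 0 = N := (hg 0).2.resolve_left h0
    have hmem : g 0 ∈ Ideal.span (Set.range fun i : Fin m => g i.succ) := by
      by_contra hc
      have := key hlin hG hsub hgen (n 0) m g f (hf 0) hc hsum
      exact hli.ne_zero 0 ((Submodule.Quotient.mk_eq_zero _).2 this)
    obtain ⟨c, hc⟩ := Submodule.mem_span_range_iff_exists_fun 𝒮 |>.1 hmem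
    classical
    let c' : Fin m → 𝒮 := fun i => if g i.succ ≠ 0 ∧ d i.succ ≤ d 0 then
      ⟨MvPolynomial.homogeneousComponent (d 0 - d i.succ) (c i : ℛ), comp_mem hlin (c i) _⟩ else 0
    have hg0 : (g 0 : ℛ) = ∑ i, (c' i : ℛ) * (g i.succ : ℛ) := by
      have := congrArg (fun s : 𝒮 => MvPolynomial.homogeneousComponent (d 0) (s : ℛ)) hc
      simp only [AddSubmonoidClass.coe_finsetSum, smul_eq_mul, MulMemClass.coe_mul, map_sum,
        MvPolynomial.homogeneousComponent_eq_self (hg 0).1, comp_mul_homogeneous _ (hg (Fin.succ _)).1] at this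
      rw [← this]
      refine Finset.sum_congr rfl fun i _ => ?_
      by_cases hz : g i.succ = 0
      · simp [c', hz]
      · by_cases hd : d i.succ ≤ d 0 <;> simp [c', hz, hd]
    let f' : Fin m → ℛ := fun i => f i.succ + (c' i : ℛ) * f 0
    have hf' : ∀ i, (f' i).IsHomogeneous (n i.succ) := by
      intro i
      refine (hf _).add ?_
      simp only [c']
      split
      · rename_i h
        have hi : d i.succ + n i.succ = N := (hg _).2.resolve_left h.1
        have := (MvPolynomial.homogeneousComponent_isHomogeneous (d 0 - d i.succ) (c i : ℛ)).mul (hf 0)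
        rwa [show d 0 - d i.succ + n 0 = n i.succ by omega] at this
      · simpa using MvPolynomial.isHomogeneous_zero ι k _
    have hli' : LinearIndependent k (fun i => ((invIdeal (k := k) (A := A) (ι := ι)).restrictScalars k).mkQ (f' i)) := by
      let q := ((invIdeal (k := k) (A := A) (ι := ι)).restrictScalars k).mkQ
      have e : ∀ i, q (f' i) = q (f i.succ) + MvPolynomial.constantCoeff (c' i : ℛ) • q (f 0) := by
        intro i
        rw [← map_smul, ← map_add]
        refine (Submodule.Quotient.eq _).2 ?_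
        change (f i.succ + (c' i : ℛ) * f 0) - (f i.succ + MvPolynomial.constantCoeff (c' i : ℛ) • f 0) ∈ invIdeal
        rw [add_sub_add_left_eq_sub, MvPolynomial.smul_eq_C_mul, ← sub_mul]
        exact Ideal.mul_mem_right _ _ (Ideal.subset_span
          ⟨Subalgebra.sub_mem _ (c' i).2 ((GLin.invariants k A ℛ).algebraMap_mem _), by simp⟩)
      rw [Fintype.linearIndependent_iff] at hli ⊢
      intro a ha i
      have := hli (Fin.cons (∑ j, a j * MvPolynomial.constantCoeff (c' j : ℛ)) a) (by
        rw [Fin.sum_univ_succ]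
        simp only [Fin.cons_zero, Fin.cons_succ, Finset.sum_smul, mul_smul]
        rw [← Finset.sum_add_distrib, ← ha]
        refine Finset.sum_congr rfl fun j _ => ?_
        rw [e j, smul_add]
        exact add_comm _ _) i.succ
      simpa using this
    have := ih N f' (fun i => n i.succ) (fun i => g i.succ) (fun i => d i.succ) hf' hli' (fun i => hg _) (by
      rw [Fin.sum_univ_succ, hg0, Finset.sum_mul, ← Finset.sum_add_distrib] at hsum
      rw [← hsum]
      exact Finset.sum_congr rfl fun i _ => by simp only [f']; ring)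
    refine h0 (Subtype.ext ?_)
    rw [hg0]
    exact (Finset.sum_eq_zero fun i _ => by rw [show g i.succ = 0 from congrFun this i]; simp).trans rfl

include hlin hG hsub hgen in
theorem free : Module.Free 𝒮 ℛ := by
  classical
  let q := ((invIdeal (k := k) (A := A) (ι := ι)).restrictScalars k).mkQ
  obtain ⟨b, hb, hspan, hli⟩ := exists_linearIndependent k (q '' {x : ℛ | ∃ n, x.IsHomogeneous n})
  choose e he hqe using fun x : b => hb x.2
  choose deg hdeg using he
  have hH : ∀ x : ℛ, q x ∈ Submodule.span k b := by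
    intro x
    rw [hspan, ← MvPolynomial.sum_homogeneousComponent x, map_sum]
    exact Submodule.sum_mem _ fun j _ => Submodule.subset_span
      ⟨_, ⟨j, MvPolynomial.homogeneousComponent_isHomogeneous j x⟩, rfl⟩
  have hspanS : ∀ n, ∀ x : ℛ, x.IsHomogeneous n → x ∈ Submodule.span 𝒮 (Set.range e) := by
    intro n
    induction n using Nat.strong_induction_on with
    | _ n ih =>
    intro x hx
    let M := Submodule.span 𝒮 (Set.range e)
    have hk : ∀ (c : k) (y : ℛ), y ∈ M → c • y ∈ M := fun c y hy => by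
      rw [← algebraMap_smul 𝒮 c y]; exact M.smul_mem _ hy
    have hcomp : ∀ y ∈ invIdeal (k := k) (A := A) (ι := ι), MvPolynomial.homogeneousComponent n y ∈ M := by
      intro y hy
      suffices ∀ r, MvPolynomial.homogeneousComponent n (r * y) ∈ M by simpa using this 1
      induction hy using Submodule.span_induction with
      | mem s hs =>
        intro r
        rw [← MvPolynomial.sum_homogeneousComponent s, Finset.mul_sum, map_sum]
        refine Submodule.sum_mem _ fun j _ => ?_
        rw [comp_mul_homogeneous r (MvPolynomial.homogeneousComponent_isHomogeneous j s)]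
        split
        · rename_i h
          rcases Nat.eq_zero_or_pos j with rfl | hj
          · rw [MvPolynomial.homogeneousComponent_zero, show MvPolynomial.coeff 0 s = 0 from hs.2]; simp
          · have hr := ih (n - j) (by omega) _ (MvPolynomial.homogeneousComponent_isHomogeneous (n - j) r)
            rw [mul_comm]
            exact M.smul_mem (⟨_, comp_mem hlin ⟨s, hs.1⟩ j⟩ : 𝒮) hr
        · exact M.zero_mem
      | zero => simp
      | add p p' _ _ hp hp' => intro r; rw [mul_add, map_add]; exact M.add_mem (hp r) (hp' r)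
      | smul c p _ hp => intro r; rw [smul_eq_mul, ← mul_assoc]; exact hp _
    obtain ⟨a, ha⟩ := (Finsupp.mem_span_range_iff_exists_finsupp (v := ((↑) : b → _)) (x := q x)).1
      (by rw [Subtype.range_coe]; exact hH x)
    have hy : x - a.sum (fun i c => c • e i) ∈ invIdeal (k := k) (A := A) (ι := ι) := by
      refine (Submodule.Quotient.eq _).1 (show q x = q _ from ?_)
      rw [← ha, map_finsuppSum]
      exact Finsupp.sum_congr fun i _ => by rw [map_smul, hqe]
    have h := hcomp _ hy
    rw [map_sub, MvPolynomial.homogeneousComponent_eq_self hx] at h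
    refine (Submodule.sub_mem_iff_left M ?_).1 h
    rw [map_finsuppSum]
    refine Submodule.sum_mem _ fun i _ => ?_
    dsimp only
    rw [map_smul, MvPolynomial.homogeneousComponent_of_mem (hdeg i)]
    refine hk _ _ ?_
    split
    · exact Submodule.subset_span ⟨i, rfl⟩
    · exact M.zero_mem
  have hliS : LinearIndependent 𝒮 e := by
    rw [linearIndependent_iff']
    intro s c hc i hi
    let σ := s.equivFin.symm
    have hli' : LinearIndependent k fun j => q (e (σ j)) := by
      simp only [q, hqe] at *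
      exact hli.comp (fun j => (σ j : b)) (Subtype.val_injective.comp σ.injective)
    have key' : ∀ D, MvPolynomial.homogeneousComponent D (c i : ℛ) = 0 := by
      intro D
      let g : Fin s.card → 𝒮 := fun j => if deg (σ j) ≤ D + deg i then
        ⟨MvPolynomial.homogeneousComponent (D + deg i - deg (σ j)) (c (σ j) : ℛ), comp_mem hlin (c (σ j)) _⟩ else 0
      have h := indep hlin hG hsub hgen s.card (D + deg i) (fun j => e (σ j)) (fun j => deg (σ j)) g
        (fun j => D + deg i - deg (σ j)) (fun j => hdeg _) hli' (fun j => by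
          simp only [g]
          split
          · exact ⟨MvPolynomial.homogeneousComponent_isHomogeneous _ _, Or.inr (by omega)⟩
          · exact ⟨by simpa using MvPolynomial.isHomogeneous_zero ι k _, Or.inl rfl⟩) (by
          have := congrArg (MvPolynomial.homogeneousComponent (D + deg i)) hc
          rw [map_sum, map_zero, ← Finset.sum_coe_sort] at this
          rw [← this]
          refine Fintype.sum_equiv σ _ _ fun j => ?_
          rw [Algebra.smul_def, show algebraMap 𝒮 ℛ (c (σ j)) = (c (σ j) : ℛ) from rfl,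
            comp_mul_homogeneous _ (hdeg _)]
          simp only [g]
          split <;> simp)
      have h2 := congrFun h (σ.symm ⟨i, hi⟩)
      simp only [g, Equiv.apply_symm_apply, Pi.zero_apply, le_add_iff_nonneg_left, zero_le, if_true,
        add_tsub_cancel_right] at h2
      exact congrArg Subtype.val h2
    refine Subtype.ext ?_
    rw [← MvPolynomial.sum_homogeneousComponent (c i : ℛ)]
    exact Finset.sum_eq_zero fun D _ => key' D
  refine Module.Free.of_basis (Module.Basis.mk hliS fun x _ => ?_)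
  rw [← MvPolynomial.sum_homogeneousComponent x]
  exact Submodule.sum_mem _ fun j _ => hspanS j _ (MvPolynomial.homogeneousComponent_isHomogeneous j x)

/-- The ideal of invariants without constant term. -/
def pIdeal : Ideal 𝒮 := (RingHom.ker (MvPolynomial.constantCoeff : ℛ →+* k)).under 𝒮

theorem mem_pIdeal_iff (s : 𝒮) : s ∈ pIdeal ↔ MvPolynomial.constantCoeff (s : ℛ) = 0 := Iff.rfl

theorem sub_const_mem (s : 𝒮) :
    s - algebraMap k 𝒮 (MvPolynomial.constantCoeff (s : ℛ)) ∈ pIdeal (k := k) (A := A) (ι := ι) := by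
  rw [mem_pIdeal_iff]; simp

include hlin hG in
theorem exists_gens :
    ∃ (m : ℕ) (g : Fin m → 𝒮), (∀ i, g i ∈ pIdeal) ∧
      LinearIndependent k (fun i => ((pIdeal (k := k) (A := A) (ι := ι) ^ 2).restrictScalars k).mkQ (g i)) ∧
      Function.Surjective (MvPolynomial.aeval g : MvPolynomial (Fin m) k →ₐ[k] 𝒮) := by
  classical
  haveI : IsNoetherianRing 𝒮 := InvFinite.isNoetherianRing_invariants hG
  let p : Ideal 𝒮 := pIdeal
  have hp : ∀ s : 𝒮, s ∈ p ↔ MvPolynomial.constantCoeff (s : ℛ) = 0 := fun s => Iff.rfl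
  have hdecomp : ∀ s : 𝒮, s - algebraMap k 𝒮 (MvPolynomial.constantCoeff (s : ℛ)) ∈ p := fun s => by
    rw [hp]; simp
  let τ := (Submodule.restrictScalars k (p ^ 2)).mkQ
  let H : Set 𝒮 := {s | ∃ n, 0 < n ∧ (s : ℛ).IsHomogeneous n}
  have hHp : H ⊆ p := by
    rintro s ⟨n, hn, hs⟩
    rw [SetLike.mem_coe, hp, MvPolynomial.constantCoeff_eq]
    exact hs.coeff_eq_zero (by simpa using hn.ne)
  have hcomp : ∀ (s : 𝒮) (j : ℕ), 0 < j →
      (⟨MvPolynomial.homogeneousComponent j (s : ℛ), comp_mem hlin s j⟩ : 𝒮) ∈ H := fun s j hj =>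
    ⟨j, hj, MvPolynomial.homogeneousComponent_isHomogeneous j _⟩
  have hp_span : ∀ s ∈ p, s ∈ Submodule.span k H := by
    intro s hs
    have e : s = ∑ j ∈ Finset.range ((s : ℛ).totalDegree + 1),
        (⟨MvPolynomial.homogeneousComponent j (s : ℛ), comp_mem hlin s j⟩ : 𝒮) :=
      Subtype.ext (by push_cast; exact (MvPolynomial.sum_homogeneousComponent _).symm)
    rw [e]
    refine Submodule.sum_mem _ fun j _ => ?_
    rcases Nat.eq_zero_or_pos j with rfl | hj
    · convert Submodule.zero_mem _
      show MvPolynomial.homogeneousComponent 0 (s : ℛ) = 0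
      rw [MvPolynomial.homogeneousComponent_zero, show MvPolynomial.coeff 0 (s : ℛ) = 0 from (hp s).1 hs, map_zero]
    · exact Submodule.subset_span (hcomp s j hj)
  obtain ⟨G, hG0, hGspan⟩ : ∃ G : Finset 𝒮, ↑G ⊆ H ∧ Submodule.span k (τ '' H) ≤ Submodule.span k (τ '' G) := by
    obtain ⟨G, hG0, hGeq⟩ := Submodule.fg_span_iff_fg_span_finset_subset H |>.1 (IsNoetherian.noetherian (Ideal.span H))
    refine ⟨G, hG0, Submodule.span_le.2 ?_⟩
    rintro _ ⟨s, hs, rfl⟩
    obtain ⟨c, -, hc⟩ := Submodule.mem_span_finset.1 (hGeq ▸ (Submodule.subset_span hs : s ∈ Ideal.span H))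
    rw [← hc, map_sum]
    refine Submodule.sum_mem _ fun t ht => ?_
    have e : τ (c t • t) = MvPolynomial.constantCoeff (c t : ℛ) • τ t := by
      rw [← map_smul]
      refine (Submodule.Quotient.eq _).2 ?_
      rw [Submodule.restrictScalars_mem, smul_eq_mul, Algebra.smul_def, ← sub_mul, pow_two]
      exact Ideal.mul_mem_mul (hdecomp _) (hHp (hG0 ht))
    rw [e]
    exact Submodule.smul_mem _ _ (Submodule.subset_span ⟨t, ht, rfl⟩)
  obtain ⟨B, hB, hBspan, hBli⟩ := exists_linearIndependent k (τ '' (G : Set 𝒮))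
  have hBfin : B.Finite := (G.finite_toSet.image τ).subset hB
  haveI := hBfin.fintype
  let m := Fintype.card B
  choose g₀ hg₀ hτ₀ using fun x : B => hB x.2
  let g : Fin m → 𝒮 := fun i => g₀ ((Fintype.equivFin B).symm i)
  have hgli : LinearIndependent k fun i => τ (g i) := by
    simp only [g, hτ₀]
    exact hBli.comp (fun i => ((Fintype.equivFin B).symm i : B)) (Equiv.injective _)
  have hgspan : ∀ s ∈ p, τ s ∈ Submodule.span k (Set.range fun i => τ (g i)) := by
    intro s hs
    have h1 : τ s ∈ Submodule.span k (τ '' H) := by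
      rw [← Submodule.map_span]; exact ⟨s, hp_span s hs, rfl⟩
    refine Submodule.span_mono ?_ (hBspan.ge (hGspan h1))
    intro x hx
    exact ⟨Fintype.equivFin B ⟨x, hx⟩, by simp [g, hτ₀]⟩
  choose dg hdg hdgh using fun i => hG0 (hg₀ ((Fintype.equivFin B).symm i))
  let T := Algebra.adjoin k (Set.range g)
  have hT : ∀ n, ∀ s : 𝒮, (s : ℛ).IsHomogeneous n → s ∈ T := by
    intro n
    induction n using Nat.strong_induction_on with
    | _ n ih =>
    intro s hs
    rcases Nat.eq_zero_or_pos n with rfl | hn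
    · have hc : (s : ℛ) = MvPolynomial.C (MvPolynomial.coeff 0 (s : ℛ)) :=
        (MvPolynomial.totalDegree_eq_zero_iff_eq_C).1 (Nat.le_zero.1 hs.totalDegree_le)
      rw [show s = algebraMap k 𝒮 (MvPolynomial.coeff 0 (s : ℛ)) from Subtype.ext hc]
      exact T.algebraMap_mem _
    have hsp : s ∈ p := hHp ⟨n, hn, hs⟩
    obtain ⟨c, hc⟩ := (Submodule.mem_span_range_iff_exists_fun k).1 (hgspan s hsp)
    have h2 : s - ∑ i, c i • g i ∈ p ^ 2 :=
      (Submodule.Quotient.eq _).1 (show τ s = τ _ by rw [← hc, map_sum]; simp)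
    let C : 𝒮 → 𝒮 := fun x => ⟨MvPolynomial.homogeneousComponent n (x : ℛ), comp_mem hlin x n⟩
    have hCp : ∀ x ∈ p ^ 2, C x ∈ T := by
      intro x hx
      rw [pow_two] at hx
      induction hx using Submodule.mul_induction_on' with
      | mem_mul_mem a ha b hb =>
        have e : C (a * b) = ∑ j ∈ Finset.range ((b : ℛ).totalDegree + 1), if j ≤ n then
            (⟨MvPolynomial.homogeneousComponent (n - j) (a : ℛ), comp_mem hlin a _⟩ : 𝒮) *
              ⟨MvPolynomial.homogeneousComponent j (b : ℛ), comp_mem hlin b j⟩ else 0 := by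
          refine Subtype.ext ?_
          simp only [C, AddSubmonoidClass.coe_finsetSum, MulMemClass.coe_mul]
          conv_lhs => rw [← MvPolynomial.sum_homogeneousComponent (b : ℛ), Finset.mul_sum, map_sum]
          refine Finset.sum_congr rfl fun j _ => ?_
          rw [comp_mul_homogeneous _ (MvPolynomial.homogeneousComponent_isHomogeneous j _)]
          split <;> simp
        rw [e]
        refine Subalgebra.sum_mem T fun j _ => ?_
        split
        · rename_i hj
          have z : ∀ {y : 𝒮}, y ∈ p → (⟨MvPolynomial.homogeneousComponent 0 (y : ℛ), comp_mem hlin y 0⟩ : 𝒮) = 0 :=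
            fun {y} hy => Subtype.ext (by
              show MvPolynomial.homogeneousComponent 0 (y : ℛ) = 0
              rw [MvPolynomial.homogeneousComponent_zero, show MvPolynomial.coeff 0 (y : ℛ) = 0 from (hp y).1 hy,
                map_zero])
          rcases Nat.eq_zero_or_pos j with rfl | hj0
          · rw [z hb, mul_zero]; exact T.zero_mem
          rcases Nat.eq_zero_or_pos (n - j) with h0 | h0
          · rw [show (⟨MvPolynomial.homogeneousComponent (n - j) (a : ℛ), comp_mem hlin a _⟩ : 𝒮) = 0 from by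
              simpa [h0] using z ha, zero_mul]
            exact T.zero_mem
          exact T.mul_mem (ih _ (by omega) _ (MvPolynomial.homogeneousComponent_isHomogeneous _ _))
            (ih _ (by omega) _ (MvPolynomial.homogeneousComponent_isHomogeneous _ _))
        · exact T.zero_mem
      | add x _ y _ hx hy =>
        rw [show C (x + y) = C x + C y from Subtype.ext (by simp [C])]
        exact T.add_mem hx hy
    have e : s = C (s - ∑ i, c i • g i) + ∑ i, c i • C (g i) := Subtype.ext (by
      simp [C, MvPolynomial.homogeneousComponent_eq_self hs])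
    rw [e]
    refine T.add_mem (hCp _ h2) (Subalgebra.sum_mem T fun i _ => T.smul_mem ?_ _)
    by_cases h : n = dg i
    · rw [show C (g i) = g i from Subtype.ext (MvPolynomial.homogeneousComponent_eq_self (h ▸ hdgh i))]
      exact Algebra.subset_adjoin ⟨i, rfl⟩
    · rw [show C (g i) = 0 from Subtype.ext
        ((MvPolynomial.homogeneousComponent_of_mem (hdgh i)).trans (if_neg h))]
      exact T.zero_mem
  let φ : MvPolynomial (Fin m) k →ₐ[k] 𝒮 := MvPolynomial.aeval g
  have hsurj : Function.Surjective φ := by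
    intro s
    have : s ∈ T := by
      have e : s = ∑ j ∈ Finset.range ((s : ℛ).totalDegree + 1),
          (⟨MvPolynomial.homogeneousComponent j (s : ℛ), comp_mem hlin s j⟩ : 𝒮) :=
        Subtype.ext (by push_cast; exact (MvPolynomial.sum_homogeneousComponent _).symm)
      rw [e]
      exact Subalgebra.sum_mem T fun j _ => hT j _ (MvPolynomial.homogeneousComponent_isHomogeneous j _)
    simp only [T, Algebra.adjoin_range_eq_range_aeval] at this
    exact this
  exact ⟨m, g, fun i => hHp (hG0 (hg₀ _)), hgli, hsurj⟩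

theorem isRegularLocalRing_pIdeal [Module.Flat 𝒮 ℛ] [IsNoetherianRing 𝒮]
    [(pIdeal (k := k) (A := A) (ι := ι)).IsPrime] :
    IsRegularLocalRing (Localization.AtPrime (pIdeal (k := k) (A := A) (ι := ι))) :=
  haveI : (RingHom.ker (MvPolynomial.constantCoeff : ℛ →+* k)).IsPrime := RingHom.ker_isPrime _
  isRegularLocalRing_under (RingHom.ker (MvPolynomial.constantCoeff : ℛ →+* k)) (pIdeal (k := k) (A := A) (ι := ι)) rfl

include hlin hG hsub hgen in
theorem exists_algEquiv : ∃ m : ℕ, Nonempty (𝒮 ≃ₐ[k] MvPolynomial (Fin m) k) := by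
  classical
  haveI := free hlin hG hsub hgen
  haveI : IsNoetherianRing 𝒮 := InvFinite.isNoetherianRing_invariants hG
  obtain ⟨m, g, hgp, hgli, hsurj⟩ := exists_gens hlin hG
  haveI : Module.Flat 𝒮 ℛ := Module.Flat.of_free
  haveI : (RingHom.ker (MvPolynomial.constantCoeff : ℛ →+* k)).IsPrime := RingHom.ker_isPrime _
  haveI : (pIdeal (k := k) (A := A) (ι := ι)).IsPrime := Ideal.IsPrime.under _ _
  haveI := isRegularLocalRing_pIdeal (k := k) (A := A) (ι := ι)
  have hm := le_ringKrullDim_of_linearIndependent (k := k) (pIdeal (k := k) (A := A) (ι := ι))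
    (fun s => ⟨_, sub_const_mem s⟩) g hgp hgli
  let φ : MvPolynomial (Fin m) k →ₐ[k] 𝒮 := MvPolynomial.aeval g
  refine ⟨m, ⟨(AlgEquiv.ofBijective φ ⟨?_, hsurj⟩).symm⟩⟩
  by_contra hinj
  obtain ⟨r, hr, hr0⟩ : ∃ r, φ r = 0 ∧ r ≠ 0 := by
    rw [injective_iff_map_eq_zero] at hinj
    push Not at hinj
    exact hinj
  have h1 := ringKrullDim_le_of_surjective (Ideal.Quotient.lift (Ideal.span {r}) φ.toRingHom fun x hx => by
    obtain ⟨y, rfl⟩ := Ideal.mem_span_singleton.1 hx
    simp [hr]) (Ideal.Quotient.lift_surjective_of_surjective _ _ hsurj)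
  have h2 := ringKrullDim_quotient_succ_le_of_nonZeroDivisor (R := MvPolynomial (Fin m) k)
    (mem_nonZeroDivisors_of_ne_zero hr0)
  rw [MvPolynomial.ringKrullDim_of_isNoetherianRing, ringKrullDim_eq_zero_of_field, zero_add] at h2
  have h3 := le_trans (add_le_add (le_trans hm h1) (le_refl (1 : WithBot ℕ∞))) h2
  simp at h3
  have h4 : ((m + 1 : ℕ) : WithBot ℕ∞) ≤ ((m : ℕ) : WithBot ℕ∞) := by exact_mod_cast h3
  have := Nat.cast_le.1 (WithBot.coe_le_coe.1 h4)
  omega

end Poly

end Groth.Agent.Comodule.Chevalley
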