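import Groth.Agent.Comodule.HilbertFG
import Groth.Agent.S0389
import Groth.Prelude.Def_W4bk6mukai47Inv

/-! Closed orbits in the fibres of the affine quotient. -/

set_option autoImplicit false
set_option backward.isDefEq.respectTransparency false
universe u

open TensorProduct WithConv

noncomputable section

namespace Groth.Agent.Comodule.ClosedOrbit

open Groth.Agent.Comodule.HilbertFG

variable {k : Type u} [Field k] {A : Type u} [CommRing A] [HopfAlgebra k A]
variable {R : Type u} [CommRing R] [Algebra k R] [HopfRep.Comod k A R] [GLin.IsCoactAlg k A R]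

theorem actPt_eq_movePt (g : A →ₐ[k] k) (x : R →ₐ[k] k) : GLin.actPt k g x = movePt x g := by
  refine AlgHom.ext fun r => ?_
  simp only [GLin.actPt, GLin.orbitHom, movePt, AlgHom.comp_apply]
  induction GLin.coactAlgHom k A R r with
  | zero => simp
  | add p q hp hq => simp only [map_add, hp, hq]
  | tmul p q => simp

theorem x_act (x : R →ₐ[k] k) (g : A →ₐ[k] k) (f : R) :
    x (HopfRep.Comod.act k A R g f) = GLin.actPt k g x f := by
  rw [actPt_eq_movePt]
  simp only [movePt, AlgHom.comp_apply, GLin.coactAlgHom_apply, HopfRep.Comod.act, LinearMap.comp_apply]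
  induction HopfRep.Comod.coact (k := k) (A := A) f with
  | zero => simp
  | add p q hp hq => simp only [map_add, hp, hq]
  | tmul p q => simp [mul_comm]

theorem ker_le_of_inOrbitClosure {x z : R →ₐ[k] k} (h : GLin.InOrbitClosure k A x z) :
    RingHom.ker (GLin.orbitHom k A x) ≤ RingHom.ker (GLin.orbitHom k A z) := by
  intro f hf
  rw [RingHom.mem_ker]
  obtain ⟨w, hw⟩ := isSubcomod_ker_orbit (A := A) x f hf
  simp only [GLin.orbitHom, AlgHom.comp_apply, GLin.coactAlgHom_apply, ← hw]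
  clear hw
  induction w with
  | zero => simp
  | add p q hp hq => simp only [map_add, hp, hq, add_zero]
  | tmul p q =>
    have : z (p : R) = 0 := RingHom.mem_ker.1 (h p.2)
    simp [this]

theorem inOrbitClosure_refl (x : R →ₐ[k] k) : GLin.InOrbitClosure k A x x := fun f hf => by
  rw [RingHom.mem_ker, ← counit_orbitHom (A := A), RingHom.mem_ker.1 hf, map_zero]

theorem inOrbitClosure_trans {x y z : R →ₐ[k] k} (h₁ : GLin.InOrbitClosure k A x y) (h₂ : GLin.InOrbitClosure k A y z) :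
    GLin.InOrbitClosure k A x z :=
  (ker_le_of_inOrbitClosure h₁).trans h₂

theorem inOrbitClosure_actPt (g : A →ₐ[k] k) (x : R →ₐ[k] k) : GLin.InOrbitClosure k A x (GLin.actPt k g x) :=
  fun f hf => by
    rw [RingHom.mem_ker, GLin.actPt, AlgHom.comp_apply, RingHom.mem_ker.1 hf, map_zero]

theorem actPt_actPt (g h : A →ₐ[k] k) (x : R →ₐ[k] k) :
    GLin.actPt k h (GLin.actPt k g x) = GLin.actPt k (toConv g * toConv h).ofConv x := by
  rw [actPt_eq_movePt, actPt_eq_movePt, actPt_eq_movePt, movePt_movePt]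

theorem exists_actPt_symm (g : A →ₐ[k] k) (x : R →ₐ[k] k) :
    x = GLin.actPt k (g.comp (HopfAlgebra.antipodeAlgHom k A)) (GLin.actPt k g x) := by
  rw [actPt_actPt, mul_comp_antipode, actPt_eq_movePt, movePt_one]

theorem inOrbitClosure_of_actPt (g : A →ₐ[k] k) (x : R →ₐ[k] k) :
    GLin.InOrbitClosure k A (GLin.actPt k g x) x := by
  have := inOrbitClosure_actPt (A := A) (g.comp (HopfAlgebra.antipodeAlgHom k A)) (GLin.actPt k g x)
  rwa [← exists_actPt_symm g x] at this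

variable [IsAlgClosed k]

theorem exists_pt {B : Type u} [CommRing B] [Algebra k B] [Algebra.FiniteType k B] {I : Ideal B} (hI : I ≠ ⊤) :
    ∃ φ : B →ₐ[k] k, I ≤ RingHom.ker φ := by
  obtain ⟨q, hq, hle⟩ := Ideal.exists_le_maximal _ hI
  haveI := hq
  letI : Field (B ⧸ q) := Ideal.Quotient.field q
  haveI : Module.Finite k (B ⧸ q) := finite_of_finite_type_of_isJacobsonRing k (B ⧸ q)
  let e : k ≃ₐ[k] B ⧸ q := AlgEquiv.ofBijective (Algebra.ofId k (B ⧸ q)) IsAlgClosed.algebraMap_bijective_of_isIntegral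
  exact ⟨e.symm.toAlgHom.comp (Ideal.Quotient.mkₐ k q), hle.trans fun r hr => by
    simp [Ideal.Quotient.eq_zero_iff_mem.2 hr]⟩

variable [Algebra.FiniteType k A]

theorem exists_pt_ne_zero {B : Type u} [CommRing B] [Algebra k B] [Algebra.FiniteType k B] {b : B}
    (hb : ¬ IsNilpotent b) : ∃ φ : B →ₐ[k] k, φ b ≠ 0 := by
  haveI : IsJacobsonRing B := isJacobsonRing_of_finiteType (A := k)
  have h0 : b ∉ (nilradical B).jacobson := by
    rw [show (nilradical B).jacobson = nilradical B from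
      IsJacobsonRing.out inferInstance (Ideal.radical_isRadical ⊥)]
    exact hb
  rw [Ideal.jacobson, Ideal.mem_sInf] at h0
  push Not at h0
  obtain ⟨q, ⟨-, hq⟩, hbq⟩ := h0
  haveI := hq
  obtain ⟨φ, hφ⟩ := exists_pt (k := k) hq.ne_top
  exact ⟨φ, fun h => hbq ((hq.eq_of_le (RingHom.ker_ne_top φ) hφ).symm ▸ (RingHom.mem_ker.2 h))⟩

theorem inOrbitClosure_iff (x z : R →ₐ[k] k) :
    (∀ f : R, (∀ g : A →ₐ[k] k, x (HopfRep.Comod.act k A R g f) = 0) → z f = 0) ↔ GLin.InOrbitClosure k A x z := by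
  simp_rw [x_act]
  refine ⟨fun h f hf => RingHom.mem_ker.2 (h f fun g => ?_), fun h f hf => ?_⟩
  · rw [GLin.actPt, AlgHom.comp_apply, RingHom.mem_ker.1 hf, map_zero]
  · by_contra hz
    by_cases hn : IsNilpotent (GLin.orbitHom k A x f)
    · obtain ⟨n, hn⟩ := hn
      have := h (show f ^ n ∈ RingHom.ker (GLin.orbitHom k A x) by rw [RingHom.mem_ker, map_pow, hn])
      rw [RingHom.mem_ker, map_pow] at this
      exact hz (eq_zero_of_pow_eq_zero this)
    · obtain ⟨g, hg⟩ := exists_pt_ne_zero (k := k) hn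
      exact hg (hf g)

variable [Algebra.FiniteType k R]

theorem exists_actPt_eq_of_isClosedOrbit {x z : R →ₐ[k] k} (hx : GLin.IsClosedOrbit k A x)
    (h : GLin.InOrbitClosure k A x z) : ∃ g : A →ₐ[k] k, z = GLin.actPt k g x := by
  let m : PrimeSpectrum R := ⟨RingHom.ker z, RingHom.ker_isPrime z⟩
  have hm : m ∈ closure (Set.range (PrimeSpectrum.comap (GLin.orbitHom k A x).toRingHom)) := by
    rw [PrimeSpectrum.closure_range_comap]
    exact fun f hf => h hf
  rw [hx.closure_eq] at hm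
  obtain ⟨p, hp⟩ := hm
  obtain ⟨g, hg⟩ := exists_pt (k := k) p.2.ne_top
  refine ⟨g, AlgHom.ext fun f => ?_⟩
  have hmem : f - algebraMap k R (z f) ∈ m.asIdeal := by
    change f - algebraMap k R (z f) ∈ RingHom.ker z
    simp
  rw [← hp] at hmem
  have := RingHom.mem_ker.1 (hg hmem)
  simp only [AlgHom.toRingHom_eq_coe, RingHom.coe_coe, map_sub, AlgHom.commutes, sub_eq_zero] at this
  exact this.symm

theorem exists_minimal_closure (x : R →ₐ[k] k) :
    ∃ y : R →ₐ[k] k, GLin.InOrbitClosure k A x y ∧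
      ∀ z : R →ₐ[k] k, GLin.InOrbitClosure k A y z → ∃ g : A →ₐ[k] k, z = GLin.actPt k g y := by
  classical
  haveI : IsNoetherianRing R := Algebra.FiniteType.isNoetherianRing k R
  obtain ⟨J, ⟨y, hxy, rfl⟩, hmax⟩ := set_has_maximal_iff_noetherian.2 (inferInstance : IsNoetherianRing R)
    {J : Ideal R | ∃ y, GLin.InOrbitClosure k A x y ∧ RingHom.ker (GLin.orbitHom k A y) = J}
    ⟨_, x, inOrbitClosure_refl x, rfl⟩
  refine ⟨y, hxy, fun z hyz => ?_⟩
  let J := RingHom.ker (GLin.orbitHom k A y)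
  have hzJ : RingHom.ker (GLin.orbitHom k A z) = J := (eq_of_le_of_not_lt (ker_le_of_inOrbitClosure hyz)
    fun hlt => hmax _ ⟨z, inOrbitClosure_trans hxy hyz, rfl⟩ hlt).symm
  haveI : (RingHom.ker y).IsPrime := RingHom.ker_isPrime y
  obtain ⟨Q, hQ, -⟩ := Ideal.exists_minimalPrimes_le (I := J)
    (show J ≤ RingHom.ker y from inOrbitClosure_refl y) (J := RingHom.ker y)
  haveI := hQ.1.1
  haveI hQ' := hQ
  obtain ⟨P, hPp, hPQ⟩ : ∃ P : Ideal A, P.IsPrime ∧ P.comap (GLin.orbitHom k A y) = Q := by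
    obtain ⟨P, hP, hPQ⟩ := Ideal.exists_comap_eq_of_mem_minimalPrimes (GLin.orbitHom k A y).toRingHom (I := ⊥) Q
      (show Q ∈ ((⊥ : Ideal A).comap (GLin.orbitHom k A y).toRingHom).minimalPrimes from hQ)
    exact ⟨P, hP, hPQ.2⟩
  haveI := hPp
  let ι : R ⧸ Q →ₐ[k] A ⧸ P := Ideal.quotientMapₐ P (GLin.orbitHom k A y) (le_of_eq hPQ.symm)
  have hι : Function.Injective ι := Ideal.quotientMap_injective' (H := le_of_eq hPQ.symm) (le_of_eq hPQ)
  letI : Algebra (R ⧸ Q) (A ⧸ P) := ι.toRingHom.toAlgebra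
  haveI : IsScalarTower k (R ⧸ Q) (A ⧸ P) := IsScalarTower.of_algHom ι
  haveI : Algebra.FiniteType (R ⧸ Q) (A ⧸ P) := Algebra.FiniteType.of_restrictScalars_finiteType k _ _
  obtain ⟨f₀, hf₀, hfree, -⟩ := Groth.Agent.S0389.result (R := R ⧸ Q) (S := A ⧸ P) (M := A ⧸ P)
  obtain ⟨f, rfl⟩ := Ideal.Quotient.mk_surjective f₀
  have hfin : J.minimalPrimes.Finite := Ideal.finite_minimalPrimes_of_isNoetherianRing R J
  have hex : ∀ q : {q // q ∈ hfin.toFinset.erase Q}, ∃ a, a ∈ (q : Ideal R) ∧ a ∉ Q := fun q => by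
    have hq := Finset.mem_erase.1 q.2
    have hle : ¬ (q : Ideal R) ≤ Q := fun h =>
      hq.1 (le_antisymm h (hQ'.2 (hfin.mem_toFinset.1 hq.2).1 h))
    exact SetLike.not_le_iff_exists.1 hle
  choose a ha haQ using hex
  let g₁ := ∏ q, a q
  have hfgQ : f * g₁ ∉ Q := fun h => by
    rcases (‹Q.IsPrime›).mem_or_mem h with h | h
    · exact hf₀ (Ideal.Quotient.eq_zero_iff_mem.2 h)
    · obtain ⟨q, -, hq⟩ := (Ideal.IsPrime.prod_mem_iff).1 h
      exact haQ q hq
  have hnil : ¬ IsNilpotent (GLin.orbitHom k A z (f * g₁)) := by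
    rintro ⟨n, hn⟩
    have : (f * g₁) ^ n ∈ RingHom.ker (GLin.orbitHom k A z) := by rw [RingHom.mem_ker, map_pow, hn]
    rw [hzJ] at this
    exact hfgQ ((‹Q.IsPrime›).mem_of_pow_mem n (hQ'.1.2 this))
  obtain ⟨h, hh⟩ := exists_pt_ne_zero (k := k) hnil
  let z' := GLin.actPt k h z
  have hz' : z' (f * g₁) ≠ 0 := hh
  have hJz' : J ≤ RingHom.ker z' := hzJ ▸ inOrbitClosure_actPt h z
  haveI : (RingHom.ker z').IsPrime := RingHom.ker_isPrime z'
  have hQz' : Q ≤ RingHom.ker z' := by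
    obtain ⟨q, hq, hqle⟩ := Ideal.exists_minimalPrimes_le hJz'
    rcases eq_or_ne q Q with rfl | hne
    · exact hqle
    · refine absurd ?_ hz'
      have : a ⟨q, Finset.mem_erase.2 ⟨hne, hfin.mem_toFinset.2 hq⟩⟩ ∣ g₁ := Finset.dvd_prod_of_mem a (Finset.mem_univ _)
      obtain ⟨c, hc⟩ := this
      have h0 : z' (a ⟨q, Finset.mem_erase.2 ⟨hne, hfin.mem_toFinset.2 hq⟩⟩) = 0 :=
        RingHom.mem_ker.1 (hqle (ha ⟨q, Finset.mem_erase.2 ⟨hne, hfin.mem_toFinset.2 hq⟩⟩))
      rw [map_mul, hc, map_mul, h0, zero_mul, mul_zero]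
  let zQ : R ⧸ Q →ₐ[k] k := Ideal.Quotient.liftₐ Q z' fun r hr => RingHom.mem_ker.1 (hQz' hr)
  have hzf : zQ (Ideal.Quotient.mk Q f) ≠ 0 := fun e => hz' (by
    rw [map_mul]; exact mul_eq_zero_of_left e _)
  have htop : (RingHom.ker zQ).map (algebraMap (R ⧸ Q) (A ⧸ P)) ≠ ⊤ := by
    intro ht
    let S := Submonoid.powers (Ideal.Quotient.mk Q f)
    let L := Localization.Away (Ideal.Quotient.mk Q f)
    haveI := hfree
    have hu : IsUnit (zQ.toRingHom (Ideal.Quotient.mk Q f)) := (isUnit_iff_ne_zero.2 hzf)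
    let ψ : L →+* k := IsLocalization.Away.lift (Ideal.Quotient.mk Q f) hu
    have hψ : ∀ r, ψ (algebraMap (R ⧸ Q) L r) = zQ r := fun r => IsLocalization.Away.lift_eq _ hu r
    haveI : Nontrivial (L ⊗[R ⧸ Q] (A ⧸ P)) := by
      refine nontrivial_of_ne (1 : L ⊗[R ⧸ Q] (A ⧸ P)) 0 fun e => ?_
      let ρ : L ⊗[R ⧸ Q] (A ⧸ P) →+* FractionRing (A ⧸ P) :=
        (Algebra.TensorProduct.lift (R := R ⧸ Q) (S := R ⧸ Q)
          (IsLocalization.liftAlgHom (M := S) (S := L) (f := Algebra.ofId (R ⧸ Q) (FractionRing (A ⧸ P))) (by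
            rintro ⟨_, n, rfl⟩
            refine isUnit_iff_ne_zero.2 ?_
            simp only [Algebra.ofId_apply, IsScalarTower.algebraMap_apply (R ⧸ Q) (A ⧸ P) (FractionRing (A ⧸ P))]
            exact fun e => hf₀ (eq_zero_of_pow_eq_zero ((map_eq_zero_iff _ hι).1
              (IsFractionRing.injective (A ⧸ P) (FractionRing (A ⧸ P)) (by rw [map_zero]; exact e))))))
          (IsScalarTower.toAlgHom (R ⧸ Q) (A ⧸ P) (FractionRing (A ⧸ P))) fun _ _ => Commute.all _ _).toRingHom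
      exact one_ne_zero (α := FractionRing (A ⧸ P)) (by rw [← map_one ρ, e, map_zero])
    haveI : Module.FaithfullyFlat L (L ⊗[R ⧸ Q] (A ⧸ P)) := inferInstance
    haveI : (RingHom.ker ψ).IsMaximal := RingHom.ker_isMaximal_of_surjective ψ fun c =>
      ⟨algebraMap (R ⧸ Q) L (algebraMap k (R ⧸ Q) c), by rw [hψ]; exact zQ.commutes c⟩
    have hT : ((RingHom.ker ψ).map (algebraMap L (L ⊗[R ⧸ Q] (A ⧸ P)))) = ⊤ := by
      refine top_le_iff.1 ?_
      calc (⊤ : Ideal (L ⊗[R ⧸ Q] (A ⧸ P)))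
          = ((RingHom.ker zQ).map (algebraMap (R ⧸ Q) (A ⧸ P))).map
              (Algebra.TensorProduct.includeRight : A ⧸ P →ₐ[R ⧸ Q] L ⊗[R ⧸ Q] (A ⧸ P)).toRingHom := by
            rw [ht, Ideal.map_top]
        _ ≤ _ := by
            rw [Ideal.map_map, Ideal.map_le_iff_le_comap]
            intro r hr
            rw [Ideal.mem_comap, RingHom.comp_apply, AlgHom.toRingHom_eq_coe, RingHom.coe_coe, AlgHom.commutes,
              IsScalarTower.algebraMap_apply (R ⧸ Q) L (L ⊗[R ⧸ Q] (A ⧸ P))]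
            exact Ideal.mem_map_of_mem _ (by rw [RingHom.mem_ker, hψ]; exact hr)
    have h2 := Ideal.comap_map_eq_self_of_faithfullyFlat (B := L ⊗[R ⧸ Q] (A ⧸ P)) (RingHom.ker ψ)
    rw [hT, Ideal.comap_top] at h2
    exact RingHom.ker_ne_top ψ h2.symm
  obtain ⟨φ, hφ⟩ := exists_pt (k := k) htop
  let g' : A →ₐ[k] k := φ.comp (Ideal.Quotient.mkₐ k P)
  have hg' : z' = GLin.actPt k g' y := by
    refine AlgHom.ext fun r => ?_
    have hr : Ideal.Quotient.mk Q r - algebraMap k (R ⧸ Q) (z' r) ∈ RingHom.ker zQ := by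
      rw [RingHom.mem_ker, map_sub, AlgHom.commutes, sub_eq_zero]
      rfl
    have := RingHom.mem_ker.1 (hφ (Ideal.mem_map_of_mem _ hr))
    rw [RingHom.algebraMap_toAlgebra, map_sub, map_sub, AlgHom.toRingHom_eq_coe, RingHom.coe_coe, AlgHom.commutes,
      AlgHom.commutes, sub_eq_zero] at this
    exact this.symm
  refine ⟨(toConv g' * toConv (h.comp (HopfAlgebra.antipodeAlgHom k A))).ofConv, ?_⟩
  rw [← actPt_actPt, ← hg']
  exact exists_actPt_symm h z

theorem exists_pt_over (hA : HopfRep.IsLinearlyReductive k A) (I : Ideal R)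
    (hI : HopfRep.IsSubcomod (k := k) (A := A) (I.restrictScalars k))
    (φ : GLin.invariants k A R →ₐ[k] k) (hφ : ∀ f : GLin.invariants k A R, (f : R) ∈ I → φ f = 0) :
    ∃ x : R →ₐ[k] k, (∀ f ∈ I, x f = 0) ∧ x.comp (GLin.invariants k A R).val = φ := by
  obtain ⟨α, hα, h1, hα1⟩ := exists_scalar_total R hA
  let E := TameAct.reynolds k A R R α
  let M : Ideal R := Ideal.span ((fun f : GLin.invariants k A R => (f : R)) '' (RingHom.ker φ : Set (GLin.invariants k A R)))
  have hne : I ⊔ M ≠ ⊤ := by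
    intro htop
    obtain ⟨a, ha, b, hb, hab⟩ := Submodule.mem_sup.1 (htop ▸ Submodule.mem_top : (1 : R) ∈ _)
    have hEb : ∀ c ∈ M, ∀ d : R, ∃ e : GLin.invariants k A R, φ e = 0 ∧ E (d * c) = e := by
      intro c hc
      induction hc using Submodule.span_induction with
      | mem c hc =>
        obtain ⟨f, hf, rfl⟩ := hc
        intro d
        refine ⟨⟨E d, reynolds_mem_fixedPts α hα d⟩ * f, by rw [map_mul, RingHom.mem_ker.1 hf, mul_zero], ?_⟩
        rw [← smul_eq_mul, InvFinite.reynolds_smul_fixed (k := k) (A := A) α d f.2]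
        rfl
      | zero => exact fun d => ⟨0, map_zero φ, by simp⟩
      | add p q _ _ hp hq =>
        intro d
        obtain ⟨e₁, h₁, h₁'⟩ := hp d
        obtain ⟨e₂, h₂, h₂'⟩ := hq d
        exact ⟨e₁ + e₂, by rw [map_add, h₁, h₂, add_zero], by rw [mul_add, map_add, h₁', h₂']; rfl⟩
      | smul r p _ hp => intro d; rw [smul_eq_mul, ← mul_assoc]; exact hp _
    obtain ⟨e, he, hbe⟩ := hEb b hb 1
    rw [one_mul] at hbe
    let ea : GLin.invariants k A R := ⟨E a, reynolds_mem_fixedPts α hα a⟩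
    have hea : φ ea = 0 := hφ ea (reynolds_mem_of_isSubcomod α hI hα1 ha)
    have h1' : ea + e = 1 := Subtype.ext (by
      show E a + (e : R) = 1
      rw [← hbe, ← map_add, hab]
      exact reynolds_fixed α h1 (GLin.invariants k A R).one_mem)
    exact one_ne_zero (α := k) (by rw [← map_one φ, ← h1', map_add, hea, he, add_zero])
  obtain ⟨x, hx⟩ := exists_pt (k := k) hne
  refine ⟨x, fun f hf => RingHom.mem_ker.1 (hx (Ideal.mem_sup_left hf)), AlgHom.ext fun f => ?_⟩
  have := RingHom.mem_ker.1 (hx (Ideal.mem_sup_right (Ideal.subset_span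
    ⟨f - algebraMap k _ (φ f), by simp, rfl⟩)))
  simpa [sub_eq_zero] using this

theorem exists_closed_in_fibre (hA : HopfRep.IsLinearlyReductive k A) (x : R →ₐ[k] k) :
    ∃ y : R →ₐ[k] k,
      (∀ z, GLin.InOrbitClosure k A y z → ∃ g : A →ₐ[k] k, z = GLin.actPt k g y) ∧
      (∀ x' : R →ₐ[k] k, x'.comp (GLin.invariants k A R).val = x.comp (GLin.invariants k A R).val →
        GLin.InOrbitClosure k A x' y) ∧
      (∀ y' : R →ₐ[k] k, y'.comp (GLin.invariants k A R).val = x.comp (GLin.invariants k A R).val →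
        (∀ z, GLin.InOrbitClosure k A y' z → ∃ g : A →ₐ[k] k, z = GLin.actPt k g y') →
        ∃ g : A →ₐ[k] k, y' = GLin.actPt k g y) := by
  obtain ⟨y, hxy, hy⟩ := exists_minimal_closure (A := A) x
  have hyx : y.comp (GLin.invariants k A R).val = x.comp (GLin.invariants k A R).val :=
    AlgHom.ext fun f => eq_of_mem_ker_orbit hxy f.2
  refine ⟨y, hy, fun x' hx' => ?_, fun y' hy' hcl => ?_⟩
  · obtain ⟨z, h₁, h₂⟩ := (eq_on_invariants_iff hA x' y).1 (hx'.trans hyx.symm)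
    obtain ⟨g, rfl⟩ := hy z h₂
    exact inOrbitClosure_trans h₁ (inOrbitClosure_of_actPt g y)
  · obtain ⟨z, h₁, h₂⟩ := (eq_on_invariants_iff hA y' y).1 (hy'.trans hyx.symm)
    obtain ⟨g₁, hg₁⟩ := hcl z h₁
    obtain ⟨g₂, rfl⟩ := hy z h₂
    refine ⟨(toConv g₂ * toConv (g₁.comp (HopfAlgebra.antipodeAlgHom k A))).ofConv, ?_⟩
    rw [← actPt_actPt, hg₁]
    exact exists_actPt_symm g₁ y'

end Groth.Agent.Comodule.ClosedOrbit
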