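import Groth.Agent.Comodule.SubStruct

/-! Simple subcoalgebras and cosemisimplicity. -/

set_option autoImplicit false
universe u v w w'

open TensorProduct WithConv

noncomputable section

namespace Groth.Agent.Comodule

variable {k : Type u} [Field k] {C : Type v} [AddCommGroup C] [Module k C] [Coalgebra k C]

local notation "𝔇" => WithConv (C →ₗ[k] k)

/-- A nonzero subcoalgebra without proper nonzero subcoalgebras. -/
def IsSimpleSubcoalg (D : Submodule k C) : Prop :=
  D ≠ ⊥ ∧ IsSubcoalg D ∧ ∀ B : Submodule k C, B ≤ D → IsSubcoalg B → B = ⊥ ∨ B = D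

theorem IsSimpleSubcoalg.eq_of_le {D : Submodule k C} (hD : IsSimpleSubcoalg D) {N : Submodule 𝔇 C}
    (hN : N.IsFullyInvariant) (h0 : N ≠ ⊥) (hle : N.restrictScalars k ≤ D) : N.restrictScalars k = D :=
  (hD.2.2 _ hle (isSubcoalg_restrictScalars_iff.mpr hN)).resolve_left
    fun h => h0 (by simpa using h)

theorem IsSimpleSubcoalg.exists_simple {D : Submodule k C} (hD : IsSimpleSubcoalg D) :
    ∃ (E : Submodule k C) (hE : HopfRep.IsSubcomod (k := k) (A := C) E), E ≤ D ∧
      IsSimpleModule 𝔇 (toDual E hE) ∧
      (letI := subComod E hE; (coef k C E).restrictScalars k = D) := by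
  have hDf := hD.2.1.isFullyInvariant
  have hne : toDual D hD.2.1.isSubcomod ≠ ⊥ := fun h =>
    hD.1 (by rw [← restrictScalars_toDual hD.2.1.isSubcomod, h, Submodule.restrictScalars_bot])
  obtain ⟨S, hS, hSs⟩ := exists_simple_le hne
  refine ⟨S.restrictScalars k, isSubcomod_restrictScalars S, hS, hSs, ?_⟩
  letI := subComod (S.restrictScalars k) (isSubcomod_restrictScalars S)
  haveI : IsSimpleModule 𝔇 (toDual (S.restrictScalars k) (isSubcomod_restrictScalars S)) := hSs
  haveI : IsSimpleModule 𝔇 (S.restrictScalars k) := by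
    refine IsSimpleModule.congr (R := 𝔇) (N := toDual (S.restrictScalars k) (isSubcomod_restrictScalars S)) ?_
    exact subEquiv _ _
  haveI := IsSimpleModule.nontrivial 𝔇 (S.restrictScalars k)
  have hle : coef k C (S.restrictScalars k) ≤ toDual D hD.2.1.isSubcomod :=
    range_le_of_isFullyInvariant hDf
      (toDualHom (S.restrictScalars k).subtype (isComodHom_subtype _ _)) (Submodule.injective_subtype _)
      (by rintro _ ⟨x, rfl⟩; exact hS x.2)
  exact hD.eq_of_le isFullyInvariant_coef coef_ne_bot hle

theorem IsSimpleSubcoalg.finite {D : Submodule k C} (hD : IsSimpleSubcoalg D) : Module.Finite k D := by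
  obtain ⟨E, hE, -, hEs, he⟩ := hD.exists_simple
  letI := subComod E hE
  haveI : IsSimpleModule 𝔇 E := by
    refine IsSimpleModule.congr (R := 𝔇) (N := toDual E hE) ?_
    exact subEquiv _ _
  haveI := finite_of_isSimple (k := k) (C := C) (V := E)
  rw [← he]
  exact finite_coef

theorem IsSimpleSubcoalg.isSemisimpleModule {D : Submodule k C} (hD : IsSimpleSubcoalg D) :
    IsSemisimpleModule 𝔇 (toDual D hD.2.1.isSubcomod) := by
  obtain ⟨E, hE, -, hEs, he⟩ := hD.exists_simple
  letI := subComod E hE
  haveI : IsSimpleModule 𝔇 E := by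
    refine IsSimpleModule.congr (R := 𝔇) (N := toDual E hE) ?_
    exact subEquiv _ _
  have h : toDual D hD.2.1.isSubcomod = coef k C E :=
    Submodule.restrictScalars_injective k _ _ (by rw [restrictScalars_toDual, he])
  rw [h]
  exact isSemisimple_coef

variable (k C) in
/-- Cosemisimple coalgebra. -/
def IsCosemisimple : Prop :=
  ∃ (ι : Type v) (D : ι → Submodule k C), iSupIndep D ∧ iSup D = ⊤ ∧ ∀ i, IsSimpleSubcoalg (D i)

theorem isSemisimple_of_isCosemisimple (h : IsCosemisimple k C) : IsSemisimpleModule 𝔇 C := by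
  obtain ⟨ι, D, -, htop, hs⟩ := h
  refine isSemisimpleModule_of_isSemisimpleModule_submodule'
    (p := fun i => toDual (D i) (hs i).2.1.isSubcomod) (fun i => (hs i).isSemisimpleModule) ?_
  apply Submodule.restrictScalars_injective k
  rw [Submodule.restrictScalars_iSup, Submodule.restrictScalars_top]
  exact htop

theorem isSemisimple_comod (h : IsSemisimpleModule 𝔇 C) {V : Type w} [AddCommGroup V] [Module k V]
    [HopfRep.Comod k C V] : IsSemisimpleModule 𝔇 V := by
  classical
  let b := Module.Free.chooseBasis k V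
  have hfin : ∀ v : V, {i | coefMap (C := C) (b.coord i) v ≠ 0}.Finite := by
    intro v
    obtain ⟨T, hT⟩ := TensorProduct.exists_finset (HopfRep.Comod.coact (k := k) (A := C) v)
    refine Set.Finite.subset (T.biUnion fun p => (b.repr p.1).support).finite_toSet fun i hi => ?_
    by_contra hn
    refine hi ?_
    rw [coefMap_apply, hT, map_sum]
    refine Finset.sum_eq_zero fun p hp => ?_
    rw [lcon_tmul]
    simp only [Finset.mem_coe, Finset.mem_biUnion, not_exists, not_and, Finsupp.notMem_support_iff] at hn
    simp [hn p hp]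
  let Φ : V →ₗ[𝔇] (_ →₀ C) :=
    { toFun := fun v => Finsupp.ofSupportFinite (fun i => coefMap (b.coord i) v) (hfin v)
      map_add' := fun x y => Finsupp.ext fun i => by
        simp only [Finsupp.add_apply, Finsupp.ofSupportFinite_coe]
        exact map_add (coefMap (b.coord i)) x y
      map_smul' := fun f x => Finsupp.ext fun i => by
        simp only [RingHom.id_apply, Finsupp.smul_apply, Finsupp.ofSupportFinite_coe]
        exact map_smul (coefMap (b.coord i)) f x }
  have hΦ : Function.Injective Φ := by
    rw [injective_iff_map_eq_zero]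
    intro v hv
    refine b.repr.map_eq_zero_iff.mp (Finsupp.ext fun i => ?_)
    have h1 := congrArg (Coalgebra.counit (R := k)) (DFunLike.congr_fun hv i)
    rw [Finsupp.zero_apply, map_zero] at h1
    rw [Finsupp.zero_apply, ← h1]
    exact (counit_coefMap (b.coord i) v).symm
  haveI := h
  exact IsSemisimpleModule.of_injective Φ hΦ

theorem isCosemisimple_of_isSemisimple (h : IsSemisimpleModule 𝔇 C) : IsCosemisimple k C := by
  haveI := h
  refine ⟨isotypicComponents 𝔇 C, fun c => c.1.restrictScalars k, ?_, ?_, fun c => ⟨?_, ?_, ?_⟩⟩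
  · intro c
    have h1 := ((sSupIndep_iff _).mp (sSupIndep_isotypicComponents 𝔇 C)) c
    rw [disjoint_iff] at h1 ⊢
    simp only [← Submodule.restrictScalars_iSup, ← Submodule.restrictScalars_inf, h1, Submodule.restrictScalars_bot]
  · rw [← Submodule.restrictScalars_iSup, ← sSup_eq_iSup', sSup_isotypicComponents, Submodule.restrictScalars_top]
  · exact fun h0 => (bot_lt_isotypicComponents c.2).ne' (by simpa using h0)
  · exact isSubcoalg_restrictScalars_iff.mpr (.of_mem_isotypicComponents c.2)
  · intro B hle hB
    refine or_iff_not_imp_left.mpr fun h0 => le_antisymm hle ?_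
    have hB' := hB.isFullyInvariant
    have hne : toDual B hB.isSubcomod ≠ ⊥ := fun h2 =>
      h0 (by rw [← restrictScalars_toDual hB.isSubcomod, h2, Submodule.restrictScalars_bot])
    obtain ⟨S, hS, hSs⟩ := exists_simple_le hne
    haveI := hSs
    have h3 : isotypicComponent 𝔇 C S ≤ toDual B hB.isSubcomod :=
      (isFullyInvariant_iff_le_imp_isotypicComponent_le (M := C)).mp hB' S hS
    rw [← eq_isotypicComponent_of_le c.2 (hS.trans hle)] at h3
    exact h3

end Groth.Agent.Comodule
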