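import Groth.Agent.Comodule.Extra

/-! Characters: eigenvectors of group-like elements. -/

set_option autoImplicit false
universe u v w

open TensorProduct WithConv

noncomputable section

namespace Groth.Agent.Comodule

variable {k : Type u} [Field k] {A : Type v} [CommRing A] [Bialgebra k A]

theorem smul_of_mem_eigenspace {V : Type w} [AddCommGroup V] [Module k V] [HopfRep.Comod k A V]
    {a : A} {v : V} (hv : v ∈ HopfRep.eigenspace k A V a) (f : WithConv (A →ₗ[k] k)) :
    f • v = f.ofConv a • v := by
  rw [smul_def, dact, LinearMap.comp_apply, show HopfRep.Comod.coact (k := k) (A := A) v = v ⊗ₜ[k] a from hv,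
    rcon_tmul]

theorem iSupIndep_eigenspace (V : Type w) [AddCommGroup V] [Module k V] [HopfRep.Comod k A V] :
    iSupIndep (fun a : {a : A // IsGroupLikeElem k a} => HopfRep.eigenspace k A V a.1) := by
  intro a
  rw [Submodule.disjoint_def]
  intro x hx hx'
  have hli : LinearIndependent k (Subtype.val : {a : A // IsGroupLikeElem k a} → A) :=
    linearIndepOn_isGroupLikeElem (R := k) (A := A)
  have hnot : a.1 ∉ Submodule.span k (Subtype.val '' {b | b ≠ a}) :=
    hli.notMem_span_image (by simp)
  obtain ⟨f, hfa, hf0⟩ := Submodule.exists_dual_map_eq_bot_of_notMem hnot inferInstance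
  set φ : WithConv (A →ₗ[k] k) := toConv ((f a.1)⁻¹ • f) with hφ
  have h1 : φ • x = x := by
    rw [smul_of_mem_eigenspace hx]
    simp [hφ, inv_mul_cancel₀ hfa]
  have h2 : ∀ b : {a : A // IsGroupLikeElem k a}, b ≠ a → f b.1 = 0 := fun b hb => by
    have : f b.1 ∈ Submodule.map f (Submodule.span k (Subtype.val '' {b | b ≠ a})) :=
      Submodule.mem_map_of_mem (Submodule.subset_span (Set.mem_image_of_mem _ hb))
    rwa [hf0, Submodule.mem_bot] at this
  have h3 : (⨆ (b) (_ : b ≠ a), HopfRep.eigenspace k A V b.1) ≤ LinearMap.ker (dact (V := V) φ.ofConv) := by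
    refine iSup₂_le fun b hb y hy => ?_
    rw [LinearMap.mem_ker, ← smul_def, smul_of_mem_eigenspace hy]
    simp [hφ, h2 b hb]
  have h4 := h3 hx'
  rwa [LinearMap.mem_ker, ← smul_def, h1] at h4

theorem eq_zero_of_rcon_basis {V : Type w} [AddCommGroup V] [Module k V] {ι : Type*}
    (b : Module.Basis ι k A) {x : V ⊗[k] A} (h : ∀ i, rcon (b.coord i) x = 0) : x = 0 := by
  classical
  let e := TensorProduct.equivFinsuppOfBasisRight (M := V) b
  have he : ∀ (y : V ⊗[k] A) i, e y i = rcon (b.coord i) y := by
    intro y i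
    induction y with
    | zero => simp
    | tmul v c => simp [e, Module.Basis.coord_apply]
    | add y z hy hz => simp only [map_add, Finsupp.add_apply, hy, hz]
  exact e.map_eq_zero_iff.mp (Finsupp.ext fun i => by rw [he, h]; rfl)

/-- The vectors with coaction `v ⊗ a`. -/
def eigenSet (V : Type w) [AddCommGroup V] [Module k V] [HopfRep.Comod k A V] : Set V :=
  {v : V | ∃ a : A, HopfRep.Comod.coact (k := k) (A := A) v = v ⊗ₜ[k] a}

theorem span_eigen_eq_top (hD : HopfRep.IsDiagonalizable k A) (V : Type w) [AddCommGroup V] [Module k V]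
    [HopfRep.Comod k A V] :
    Submodule.span k {v : V | ∃ a : A, HopfRep.Comod.coact (k := k) (A := A) v = v ⊗ₜ[k] a} = ⊤ := by
  have hli : LinearIndependent k (Subtype.val : {a : A // IsGroupLikeElem k a} → A) :=
    linearIndepOn_isGroupLikeElem (R := k) (A := A)
  let b := Module.Basis.mk hli (by rw [Subtype.range_coe_subtype]; exact hD.ge)
  have hb : ∀ i, b i = i.1 := fun i => Module.Basis.mk_apply _ _ i
  set U := Submodule.span k {v : V | ∃ a : A, HopfRep.Comod.coact (k := k) (A := A) v = v ⊗ₜ[k] a}
  refine eq_top_iff.mpr fun v _ => ?_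
  have h0 : U.mkQ.rTensor A (HopfRep.Comod.coact (k := k) (A := A) v) = 0 := by
    refine eq_zero_of_rcon_basis b fun i => ?_
    rw [rcon_rTensor, Submodule.mkQ_apply, Submodule.Quotient.mk_eq_zero]
    refine Submodule.subset_span ⟨i.1, ext_rcon fun f => ?_⟩
    rw [rcon_tmul]
    show dact f (dact (b.coord i) v) = f i.1 • dact (b.coord i) v
    rw [← dact_mul, ← dact_smul]
    refine congrArg (fun g => dact g v) (b.ext fun j => ?_)
    change LinearMap.mul' k k (TensorProduct.map f (b.coord i) (Coalgebra.comul (R := k) (b j))) = _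
    rw [hb, j.2.comul_eq_tmul_self, TensorProduct.map_tmul, LinearMap.mul'_apply, LinearMap.smul_apply,
      smul_eq_mul]
    by_cases hij : j = i
    · subst hij; rfl
    · rw [show b.coord i j.1 = 0 by rw [← hb, Module.Basis.coord_apply, Module.Basis.repr_self]; simp [hij]]
      simp
  have h1 := congrArg (rcon (Coalgebra.counit (R := k) (A := A))) h0
  rw [rcon_rTensor, map_zero, Submodule.mkQ_apply, Submodule.Quotient.mk_eq_zero] at h1
  have h2 := dact_one (k := k) (C := A) v
  rw [show (1 : WithConv (A →ₗ[k] k)).ofConv = Coalgebra.counit from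
    LinearMap.ext fun c => by simp [LinearMap.convOne_def]] at h2
  rw [← h2]
  exact h1

theorem diag_of_span_eigen
    (h : ∀ (V : Type v) [AddCommGroup V] [Module k V] [HopfRep.Comod k A V], Module.Finite k V →
      Submodule.span k {v : V | ∃ a : A, HopfRep.Comod.coact (k := k) (A := A) v = v ⊗ₜ[k] a} = ⊤) :
    HopfRep.IsDiagonalizable k A := by
  refine eq_top_iff.mpr fun a _ => ?_
  let W := (Submodule.span (WithConv (A →ₗ[k] k)) {a}).restrictScalars k
  have hW : HopfRep.IsSubcomod (k := k) (A := A) W := isSubcomod_restrictScalars _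
  letI := subComod W hW
  haveI : Module.Finite k W := finite_span_singleton a
  suffices ha : ((⟨a, Submodule.subset_span rfl⟩ : W) : A) ∈ Submodule.span k {a : A | IsGroupLikeElem k a} from ha
  have hmem : (⟨a, Submodule.subset_span rfl⟩ : W) ∈
      Submodule.span k {v : W | ∃ g : A, HopfRep.Comod.coact (k := k) (A := A) v = v ⊗ₜ[k] g} := by
    rw [h W inferInstance]; trivial
  revert hmem
  generalize (⟨a, Submodule.subset_span rfl⟩ : W) = x
  intro hmem
  induction hmem using Submodule.span_induction with
  | zero => exact zero_mem _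
  | add x y _ _ hx hy => exact add_mem hx hy
  | smul c x _ hx => exact Submodule.smul_mem _ c hx
  | mem w hw =>
    obtain ⟨g, hg⟩ := hw
    have hΔ : Coalgebra.comul (R := k) (w : A) = (w : A) ⊗ₜ[k] g := by
      rw [show Coalgebra.comul (R := k) (w : A) = W.subtype.rTensor A (subCoact W hW w) from
        (rTensor_subCoact W hW w).symm]
      show W.subtype.rTensor A (HopfRep.Comod.coact (k := k) (A := A) w) = _
      rw [hg]; simp
    have h1 := lcon_counit_comul (k := k) (w : A)
    rw [hΔ, lcon_tmul] at h1
    by_cases h0 : Coalgebra.counit (R := k) (w : A) = 0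
    · rw [h0, zero_smul] at h1
      rw [← h1]; exact zero_mem _
    · rw [← h1]
      refine Submodule.smul_mem _ _ (Submodule.subset_span ?_)
      refine IsGroupLikeElem.mk ?_ ?_
      · have h2 := congrArg (Coalgebra.counit (R := k)) h1
        rw [map_smul, smul_eq_mul] at h2
        exact mul_left_cancel₀ h0 (h2.trans (mul_one _).symm)
      · have h2 := hΔ
        rw [← h1, map_smul, ← TensorProduct.smul_tmul'] at h2
        exact smul_right_injective _ h0 h2

end Groth.Agent.Comodule
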