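import Groth.Agent.Comodule.Reductive
import Groth.Agent.Comodule.Antipode
import Groth.Agent.HopfFF.Coinv
import Groth.Agent.HopfFF.Image
import Mathlib

/-! Linear reductivity in extensions. -/

set_option autoImplicit false
universe u v

open TensorProduct WithConv

noncomputable section

namespace Groth.Agent.Comodule

variable {k : Type u} [Field k] {AQ AG AK : Type v} [CommRing AQ] [HopfAlgebra k AQ]
  [CommRing AG] [HopfAlgebra k AG] [CommRing AK] [HopfAlgebra k AK]
variable (φ : AQ →ₐc[k] AG) (ψ : AG →ₐc[k] AK)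

/-- An integral on the group pushes to the quotient group. -/
theorem isIntegral_comp_of_injective  (hφ : Function.Injective φ) {l : AG →ₗ[k] k} (hl : IsIntegral' l) :
    IsIntegral' (l ∘ₗ (φ : AQ →ₐ[k] AG).toLinearMap) := by
  refine ⟨fun a => hφ ?_, by simp [hl.map_one]⟩
  have h := hl.invariant (φ a)
  rw [← CoalgHomClass.map_comp_comul_apply φ a] at h
  refine Eq.trans ?_ (h.trans (by simp [map_smul]))
  generalize Coalgebra.comul (R := k) a = z
  induction z with
  | zero => simp
  | add p q hp hq => simp only [map_add, hp, hq]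
  | tmul p q => simp

variable (hker : RingHom.ker (ψ : AG →ₐ[k] AK) =
  Ideal.map (φ : AQ →ₐ[k] AG) (RingHom.ker (Bialgebra.counitAlgHom k AQ)))

include hker in
theorem comp_eq_counit (q : AQ) : ψ (φ q) = algebraMap k AK (Coalgebra.counit (R := k) q) := by
  have h : φ (q - algebraMap k AQ (Coalgebra.counit (R := k) q)) ∈ RingHom.ker (ψ : AG →ₐ[k] AK) := by
    rw [hker]
    exact Ideal.mem_map_of_mem _ (by simp [RingHom.mem_ker])
  have h' : ψ (φ (q - algebraMap k AQ (Coalgebra.counit (R := k) q))) = 0 := h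
  rwa [map_sub, map_sub, AlgHomClass.commutes, AlgHomClass.commutes, sub_eq_zero] at h'

include hker in
theorem rTensor_comul_image (q : AQ) :
    (ψ : AG →ₐ[k] AK).toLinearMap.rTensor AG (Coalgebra.comul (R := k) (φ q)) = (1 : AK) ⊗ₜ[k] φ q := by
  rw [← CoalgHomClass.map_comp_comul_apply φ q]
  conv_rhs => rw [← lcon_counit_comul (k := k) q]
  generalize Coalgebra.comul (R := k) q = z
  induction z with
  | zero => simp
  | add p q hp hq => simp only [map_add, TensorProduct.tmul_add, hp, hq]
  | tmul p q =>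
    simp [comp_eq_counit φ ψ hker, Algebra.algebraMap_eq_smul_one, TensorProduct.smul_tmul]

include hker in
theorem ker_le_span :
    RingHom.ker (ψ : AG →ₐ[k] AK) ≤
      Ideal.span {b : AG | b ∈ (φ : AQ →ₐ[k] AG).range ∧ Coalgebra.counit (R := k) b = 0} := by
  rw [hker, Ideal.map_le_iff_le_comap]
  intro q hq
  refine Ideal.subset_span ⟨⟨q, rfl⟩, ?_⟩
  exact (CoalgHomClass.counit_comp_apply φ q).trans hq

include hker in
theorem mem_range_of_coinv (hψ : Function.Surjective ψ) {a : AG}
    (ha : (ψ : AG →ₐ[k] AK).toLinearMap.rTensor AG (Coalgebra.comul (R := k) a) = (1 : AK) ⊗ₜ[k] a) :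
    a ∈ (φ : AQ →ₐ[k] AG).range := by
  refine HopfFF.mem_of_left_coinv (HopfFF.isHopfSub_range φ) (ker_le_span φ ψ hker) ?_
  let e : (AG ⧸ RingHom.ker (ψ : AG →ₐ[k] AK)) ≃ₐ[k] AK := Ideal.quotientKerAlgEquivOfSurjective hψ
  have hinj : Function.Injective (e.toLinearMap.rTensor AG) :=
    Module.Flat.rTensor_preserves_injective_linearMap (M := AG) e.toLinearMap e.injective
  refine hinj ?_
  rw [← LinearMap.rTensor_comp_apply, LinearMap.rTensor_tmul]
  refine Eq.trans ?_ (ha.trans (congrArg (· ⊗ₜ[k] a) (map_one e).symm))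
  congr 2

include hker in
/-- Integrals on the kernel and the quotient give an integral on the extension. -/
theorem exists_integral_extension (hφ : Function.Injective φ) (hψ : Function.Surjective ψ)
    {lK : AK →ₗ[k] k} (hK : IsIntegral' lK) {lQ : AQ →ₗ[k] k} (hQ : IsIntegral' lQ) :
    ∃ l : AG →ₗ[k] k, IsIntegral' l := by
  let E : AG →ₗ[k] AG := lcon (lK ∘ₗ (ψ : AG →ₐ[k] AK).toLinearMap) ∘ₗ Coalgebra.comul
  have hEΔ : ∀ a, Coalgebra.comul (R := k) (E a) = E.rTensor AG (Coalgebra.comul (R := k) a) := by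
    intro a
    let f : AG →ₗ[k] k := lK ∘ₗ (ψ : AG →ₐ[k] AK).toLinearMap
    have h1 : ∀ z : AG ⊗[k] AG, Coalgebra.comul (R := k) (lcon f z) =
        lcon f ((Coalgebra.comul (R := k)).lTensor AG z) := fun z => (lcon_lTensor f _ z).symm
    have h2 : ∀ z : AG ⊗[k] AG, lcon f (TensorProduct.assoc k AG AG AG ((Coalgebra.comul (R := k)).rTensor AG z)) =
        E.rTensor AG z := by
      intro z
      induction z with
      | zero => simp
      | add p q hp hq => simp only [map_add, hp, hq]
      | tmul p q =>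
        simp only [LinearMap.rTensor_tmul, E, LinearMap.comp_apply]
        show lcon f (TensorProduct.assoc k AG AG AG (Coalgebra.comul (R := k) p ⊗ₜ[k] q)) = _
        generalize Coalgebra.comul (R := k) p = w
        induction w with
        | zero => simp
        | add p q hp hq => simp only [TensorProduct.add_tmul, map_add, hp, hq]
        | tmul x y => simp [f, TensorProduct.smul_tmul']
    show Coalgebra.comul (R := k) (lcon f (Coalgebra.comul (R := k) a)) = _
    rw [h1, ← Coalgebra.coassoc_apply, h2]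
  have hEmem : ∀ a, E a ∈ (φ : AQ →ₐ[k] AG).range := by
    intro a
    refine mem_range_of_coinv φ ψ hker hψ ?_
    rw [hEΔ, ← LinearMap.rTensor_comp_apply]
    have hcomp : ∀ x, ψ (E x) = algebraMap k AK (lK (ψ x)) := by
      intro x
      rw [Algebra.algebraMap_eq_smul_one, ← hK.invariant, ← CoalgHomClass.map_comp_comul_apply ψ x]
      simp only [E, LinearMap.comp_apply]
      generalize Coalgebra.comul (R := k) x = w
      induction w with
      | zero => simp
      | add p q hp hq => simp only [map_add, hp, hq]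
      | tmul p q => simp
    simp only [E, LinearMap.comp_apply]
    generalize Coalgebra.comul (R := k) a = w
    induction w with
    | zero => simp
    | add p q hp hq => simp only [map_add, TensorProduct.tmul_add, hp, hq]
    | tmul p q =>
      have h : ψ (E p) = algebraMap k AK (lK (ψ p)) := hcomp p
      simp only [E, LinearMap.comp_apply] at h
      simp [h, Algebra.algebraMap_eq_smul_one, TensorProduct.smul_tmul]
  let e : AQ ≃ₐ[k] (φ : AQ →ₐ[k] AG).range := AlgEquiv.ofInjective (φ : AQ →ₐ[k] AG) hφ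
  let F : AG →ₗ[k] AQ := e.symm.toLinearMap ∘ₗ
    E.codRestrict (Subalgebra.toSubmodule (φ : AQ →ₐ[k] AG).range) hEmem
  have hF : ∀ a, φ (F a) = E a := fun a =>
    congrArg Subtype.val (e.apply_symm_apply (⟨E a, hEmem a⟩ : (φ : AQ →ₐ[k] AG).range))
  refine ⟨lQ ∘ₗ F, fun a => ?_, ?_⟩
  · have h := congrArg φ (hQ.invariant (F a))
    rw [map_smul, map_one] at h
    refine Eq.trans ?_ h
    have h1 : TensorProduct.map (φ : AQ →ₐ[k] AG).toLinearMap (φ : AQ →ₐ[k] AG).toLinearMap
        (Coalgebra.comul (R := k) (F a)) = E.rTensor AG (Coalgebra.comul (R := k) a) := by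
      refine ((CoalgHomClass.map_comp_comul_apply φ (F a)).trans ?_)
      rw [hF, hEΔ]
    have hφ2 : ∀ z : AQ ⊗[k] AQ, φ (lcon lQ z) = lcon (lQ ∘ₗ LinearMap.id) ((φ : AQ →ₐ[k] AG).toLinearMap.lTensor AQ z) := by
      intro z
      rw [LinearMap.comp_id, lcon_lTensor]
      rfl
    rw [hφ2, LinearMap.comp_id, ← lcon_rTensor lQ F]
    congr 1
    apply Module.Flat.rTensor_preserves_injective_linearMap (M := AG) (φ : AQ →ₐ[k] AG).toLinearMap hφ
    have hmap : ∀ z : AQ ⊗[k] AQ, (φ : AQ →ₐ[k] AG).toLinearMap.rTensor AG ((φ : AQ →ₐ[k] AG).toLinearMap.lTensor AQ z) =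
        TensorProduct.map (φ : AQ →ₐ[k] AG).toLinearMap (φ : AQ →ₐ[k] AG).toLinearMap z := fun z => by
      induction z with
      | zero => simp
      | add p q hp hq => simp only [map_add, hp, hq]
      | tmul p q => simp
    rw [hmap, h1, ← LinearMap.rTensor_comp_apply]
    exact congrArg (fun G : AG →ₗ[k] AG => G.rTensor AG (Coalgebra.comul (R := k) a)) (LinearMap.ext hF)
  · have h : F 1 = 1 := hφ (by
      rw [hF, map_one φ]
      simp [E, Bialgebra.comul_one, Algebra.TensorProduct.one_def, hK.map_one])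
    rw [LinearMap.comp_apply, h, hQ.map_one]

theorem exists_rTensor_ker {R : Type*} [CommRing R] {P M N : Type*} [AddCommGroup P] [Module R P]
    [Module.Flat R P] [AddCommGroup M] [Module R M] [AddCommGroup N] [Module R N] (g : M →ₗ[R] N)
    (z : M ⊗[R] P) (h : g.rTensor P z = 0) : ∃ y, (LinearMap.ker g).subtype.rTensor P y = z :=
  (Module.Flat.rTensor_exact P (LinearMap.exact_subtype_ker_map g) z).mp h

section Kernel

variable (V : Type v) [AddCommGroup V] [Module k V] [HopfRep.Comod k AK V]

/-- The left coaction of the kernel, written on the right. -/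
def delta : AG →ₐ[k] AG ⊗[k] AK :=
  (Algebra.TensorProduct.comm k AK AG).toAlgHom.comp
    ((Algebra.TensorProduct.map (ψ : AG →ₐ[k] AK) (AlgHom.id k AG)).comp (Bialgebra.comulAlgHom k AG))

variable (B : Subalgebra k AG) (hδ : ∀ b ∈ B, delta ψ b = b ⊗ₜ[k] (1 : AK))
  (hΓker : RingHom.ker (ψ : AG →ₐ[k] AK) ≤ RingHom.ker (HopfFF.twistL (k := k) (A := AG) B))

/-- `delta` over the invariants. -/
def deltaB : AG →ₐ[B] AG ⊗[k] AK :=
  { delta ψ with commutes' := fun b => hδ b b.2 }

variable [Module.FaithfullyFlat B AG]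

include hΓker in
/-- Left invariants lie in `B`. -/
theorem mem_of_coinv (hψ : Function.Surjective ψ) {a : AG}
    (ha : (ψ : AG →ₐ[k] AK).toLinearMap.rTensor AG (Coalgebra.comul (R := k) a) = (1 : AK) ⊗ₜ[k] a) :
    a ∈ B := by
  let Γ : AK →ₐ[k] AG ⊗[B] AG :=
    (Ideal.Quotient.liftₐ _ (HopfFF.twistL (k := k) (A := AG) B) fun a ha => hΓker ha).comp
      (Ideal.quotientKerAlgEquivOfSurjective (f := (ψ : AG →ₐ[k] AK)) hψ).symm.toAlgHom
  have hΓ : ∀ e, Γ (ψ e) = HopfFF.twistL (k := k) (A := AG) B e := by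
    intro e
    have h : (Ideal.quotientKerAlgEquivOfSurjective (f := (ψ : AG →ₐ[k] AK)) hψ).symm (ψ e) =
        Ideal.Quotient.mk _ e := (AlgEquiv.symm_apply_eq _).mpr rfl
    exact (congrArg (Ideal.Quotient.liftₐ (RingHom.ker (ψ : AG →ₐ[k] AK))
      (HopfFF.twistL (k := k) (A := AG) B) fun a ha => hΓker ha) h).trans rfl
  let Ψ : AG ⊗[k] AG →ₐ[k] AG ⊗[B] AG :=
    Algebra.TensorProduct.lift (HopfFF.twistL B) (HopfFF.inB₂ B) fun _ _ => Commute.all _ _
  let Φ : AK ⊗[k] AG →ₐ[k] AG ⊗[B] AG :=
    Algebra.TensorProduct.lift Γ (HopfFF.inB₂ B) fun _ _ => Commute.all _ _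
  have h1 : Ψ (Coalgebra.comul (R := k) a) = a ⊗ₜ[B] (1 : AG) := by
    have h1 := HopfFF.lift_comp_comul (HopfFF.twistL B) (HopfFF.inB₂ B)
    replace h1 := h1.trans (HopfFF.twist_mul (HopfFF.inB₁ B) (HopfFF.inB₂ B))
    exact AlgHom.congr_fun (congrArg WithConv.ofConv h1) a
  have h2 : ∀ z : AG ⊗[k] AG, Φ ((ψ : AG →ₐ[k] AK).toLinearMap.rTensor AG z) = Ψ z := by
    intro z
    induction z with
    | zero => simp
    | add p q hp hq => simp only [map_add, hp, hq]
    | tmul p q => simp [Φ, Ψ, hΓ]
  have h3 : (1 : AG) ⊗ₜ[B] a = a ⊗ₜ[B] (1 : AG) := by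
    rw [← h1, ← h2, ha]
    simp [Φ, HopfFF.inB₂]
  let W : Submodule B AG := LinearMap.range (Algebra.linearMap B AG)
  have h4 : (1 : AG) ⊗ₜ[B] (W.mkQ a) = 0 := by
    have h5 := congrArg (W.mkQ.lTensor AG) h3
    rw [LinearMap.lTensor_tmul, LinearMap.lTensor_tmul] at h5
    rwa [show W.mkQ (1 : AG) = 0 from (Submodule.Quotient.mk_eq_zero W).mpr ⟨1, by simp⟩,
      TensorProduct.tmul_zero] at h5
  rw [Module.FaithfullyFlat.one_tmul_eq_zero_iff, Submodule.mkQ_apply, Submodule.Quotient.mk_eq_zero] at h4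
  obtain ⟨b, rfl⟩ := h4
  exact b.2

include hδ hΓker in
set_option maxHeartbeats 800000 in
/-- Invariant sections descend to the kernel. -/
theorem exists_section_of_galois (hψ : Function.Surjective ψ) {l : AG →ₗ[k] k} (hl : IsIntegral' l)
    (π : V →ₗ[k] k) (hπs : Function.Surjective π)
    (hπ : LinearMap.rTensor AK π ∘ₗ HopfRep.Comod.coact (k := k) (A := AK) (V := V) =
      (TensorProduct.mk k k AK).flip (1 : AK) ∘ₗ π) :
    ∃ v ∈ HopfRep.fixedPts k AK V, π v ≠ 0 := by
  classical
  let ρ : V →ₗ[k] V ⊗[k] AK := HopfRep.Comod.coact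
  let ρ' : V →ₗ[k] AK ⊗[k] V := (TensorProduct.comm k V AK).toLinearMap ∘ₗ ρ
  let assocB : (AG ⊗[k] AK) ⊗[k] V →ₗ[B] AG ⊗[k] (AK ⊗[k] V) :=
    (TensorProduct.AlgebraTensorModule.assoc k k B AG AK V).toLinearMap
  let d1 : AG ⊗[k] V →ₗ[B] AG ⊗[k] (AK ⊗[k] V) :=
    assocB ∘ₗ TensorProduct.AlgebraTensorModule.map (deltaB ψ B hδ).toLinearMap LinearMap.id
  let d2 : AG ⊗[k] V →ₗ[B] AG ⊗[k] (AK ⊗[k] V) :=
    TensorProduct.AlgebraTensorModule.map LinearMap.id ρ'
  let W : Submodule B (AG ⊗[k] V) := LinearMap.ker (d1 - d2)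
  let πM : AG ⊗[k] V →ₗ[B] AG :=
    (TensorProduct.AlgebraTensorModule.rid k B AG).toLinearMap ∘ₗ
      TensorProduct.AlgebraTensorModule.map LinearMap.id π
  have hπM : ∀ a v, πM (a ⊗ₜ[k] v) = π v • a := fun _ _ => rfl
  have hasB : ∀ a x v, assocB ((a ⊗ₜ[k] x) ⊗ₜ[k] v) = a ⊗ₜ[k] (x ⊗ₜ[k] v) := fun _ _ _ => rfl
  have hd1t : ∀ a v, d1 (a ⊗ₜ[k] v) = assocB (delta ψ a ⊗ₜ[k] v) := fun _ _ => rfl
  have hd2t : ∀ a v, d2 (a ⊗ₜ[k] v) = a ⊗ₜ[k] ρ' v := fun _ _ => rfl
  -- the canonical element of the base change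
  let iv : V → (AG →ₗ[B] AG ⊗[k] V) := fun v =>
    { toFun := fun a => a ⊗ₜ[k] v
      map_add' := fun a b => TensorProduct.add_tmul a b v
      map_smul' := fun b a => (TensorProduct.smul_tmul' b a v).symm }
  let ix : AK ⊗[k] V → (AG →ₗ[B] AG ⊗[k] (AK ⊗[k] V)) := fun y =>
    { toFun := fun a => a ⊗ₜ[k] y
      map_add' := fun a b => TensorProduct.add_tmul a b y
      map_smul' := fun b a => (TensorProduct.smul_tmul' b a y).symm }
  let Γ : AK →ₐ[k] AG ⊗[B] AG :=
    (Ideal.Quotient.liftₐ _ (HopfFF.twistL (k := k) (A := AG) B) fun a ha => hΓker ha).comp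
      (Ideal.quotientKerAlgEquivOfSurjective (f := (ψ : AG →ₐ[k] AK)) hψ).symm.toAlgHom
  have hΓ : ∀ e, Γ (ψ e) = HopfFF.twistL (k := k) (A := AG) B e := by
    intro e
    have h : (Ideal.quotientKerAlgEquivOfSurjective (f := (ψ : AG →ₐ[k] AK)) hψ).symm (ψ e) =
        Ideal.Quotient.mk _ e := (AlgEquiv.symm_apply_eq _).mpr rfl
    exact (congrArg (Ideal.Quotient.liftₐ (RingHom.ker (ψ : AG →ₐ[k] AK))
      (HopfFF.twistL (k := k) (A := AG) B) fun a ha => hΓker ha) h).trans rfl
  have hiv : ∀ v a, iv v a = a ⊗ₜ[k] v := fun _ _ => rfl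
  have hix : ∀ y a, ix y a = a ⊗ₜ[k] y := fun _ _ => rfl
  let Θ : V ⊗[k] AK →ₗ[k] (AG ⊗[k] V) ⊗[B] AG := TensorProduct.lift <| LinearMap.mk₂ k
    (fun v x => (iv v).rTensor AG (Γ x))
    (fun v v' x => by
      rw [show iv (v + v') = iv v + iv v' from LinearMap.ext fun a => TensorProduct.tmul_add a v v',
        LinearMap.rTensor_add, LinearMap.add_apply])
    (fun c v x => by
      generalize Γ x = y
      induction y with
      | zero => simp
      | add p q hp hq => simp only [map_add, smul_add, hp, hq]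
      | tmul p q => simp [hiv, TensorProduct.smul_tmul'])
    (fun v x x' => by simp only [map_add])
    (fun c v x => by
      rw [map_smul]
      generalize Γ x = y
      induction y with
      | zero => simp
      | add p q hp hq => simp only [smul_add, map_add, hp, hq]
      | tmul p q => simp [hiv, TensorProduct.smul_tmul'])
  let Θ2 : V ⊗[k] (AK ⊗[k] AK) →ₗ[k] (AG ⊗[k] (AK ⊗[k] V)) ⊗[B] AG :=
    (TensorProduct.lift <| LinearMap.mk₂ k
      (fun (z : AK ⊗[k] V) x => (ix z).rTensor AG (Γ x))
      (fun z z' x => by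
        rw [show ix (z + z') = ix z + ix z' from LinearMap.ext fun a => TensorProduct.tmul_add a z z',
          LinearMap.rTensor_add, LinearMap.add_apply])
      (fun c z x => by
        generalize Γ x = y
        induction y with
        | zero => simp
        | add p q hp hq => simp only [map_add, smul_add, hp, hq]
        | tmul p q => simp [hix, TensorProduct.smul_tmul'])
      (fun z x x' => by simp only [map_add])
      (fun c z x => by
        rw [map_smul]
        generalize Γ x = y
        induction y with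
        | zero => simp
        | add p q hp hq => simp only [smul_add, map_add, hp, hq]
        | tmul p q => simp [hix, TensorProduct.smul_tmul'])) ∘ₗ
      ((TensorProduct.comm k V AK).toLinearMap.rTensor AK ∘ₗ (TensorProduct.assoc k V AK AK).symm.toLinearMap)
  have h1 : ∀ v x, (d1.rTensor AG) (Θ (v ⊗ₜ[k] x)) = Θ2 (v ⊗ₜ[k] Coalgebra.comul (R := k) x) := by
    intro v x
    obtain ⟨e, rfl⟩ := hψ x
    let T := (AG ⊗[k] AK) ⊗[B] AG
    let jψ : AG →ₐ[k] T := (Algebra.TensorProduct.includeLeft : AG ⊗[k] AK →ₐ[k] T).comp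
      ((Algebra.TensorProduct.includeRight : AK →ₐ[k] AG ⊗[k] AK).comp (ψ : AG →ₐ[k] AK))
    let j1 : AG →ₐ[k] T := (Algebra.TensorProduct.includeLeft : AG ⊗[k] AK →ₐ[k] T).comp
      (Algebra.TensorProduct.includeLeft : AG →ₐ[k] AG ⊗[k] AK)
    let incB : AG →ₐ[B] AG ⊗[k] AK :=
      { (Algebra.TensorProduct.includeLeftRingHom : AG →+* AG ⊗[k] AK) with commutes' := fun _ => rfl }
    have hincB : ∀ a, incB a = a ⊗ₜ[k] (1 : AK) := fun _ => rfl
    let D : AG ⊗[B] AG →ₐ[k] T :=
      (Algebra.TensorProduct.map (deltaB ψ B hδ) (AlgHom.id B AG)).restrictScalars k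
    let D1 : AG ⊗[B] AG →ₐ[k] T :=
      (Algebra.TensorProduct.map incB (AlgHom.id B AG)).restrictScalars k
    have hj1 : toConv (D.comp (HopfFF.inB₁ B)) = toConv jψ * toConv j1 := by
      refine WithConv.ofConv_injective (AlgHom.ext fun a => ?_)
      rw [AlgHom.convMul_apply]
      show D (a ⊗ₜ[B] (1 : AG)) = _
      simp only [D, AlgHom.restrictScalars_apply, Algebra.TensorProduct.map_tmul, AlgHom.id_apply, ofConv_toConv]
      show (delta ψ a) ⊗ₜ[B] (1 : AG) = _
      simp only [delta, AlgHom.comp_apply, Bialgebra.comulAlgHom_apply]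
      generalize Coalgebra.comul (R := k) a = w
      induction w with
      | zero => simp
      | add p q hp hq => simp only [map_add, TensorProduct.add_tmul, hp, hq]
      | tmul p q =>
        simp only [jψ, j1, AlgHom.comp_apply, Algebra.TensorProduct.includeRight_apply,
          Algebra.TensorProduct.includeLeft_apply, Algebra.TensorProduct.map_tmul, Algebra.TensorProduct.lmul'_apply_tmul]
        refine Eq.trans ?_ (Algebra.TensorProduct.tmul_mul_tmul _ _ _ _).symm
        simp
    let S2 : AG →ₐ[k] AG ⊗[B] AG := (HopfFF.inB₂ B).comp (HopfAlgebra.antipodeAlgHom k AG)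
    have hsplit : ∀ (G : AG ⊗[B] AG →ₐ[k] T), toConv (G.comp (HopfFF.twistL (k := k) (A := AG) B)) =
        toConv (G.comp (HopfFF.inB₁ B)) * toConv (G.comp S2) := by
      intro G
      refine WithConv.ofConv_injective (AlgHom.ext fun a => ?_)
      rw [AlgHom.convMul_apply]
      show G (HopfFF.twistL (k := k) (A := AG) B a) = _
      rw [HopfFF.twistL, AlgHom.convMul_apply]
      simp only [ofConv_toConv]
      generalize Coalgebra.comul (R := k) a = w
      induction w with
      | zero => simp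
      | add p q hp hq => simp only [map_add, hp, hq]
      | tmul p q => simp [S2, map_mul]
    have hD2 : D.comp S2 = D1.comp S2 := by
      refine AlgHom.ext fun a => ?_
      simp [S2, D, D1, HopfFF.inB₂, map_one, hincB, Algebra.TensorProduct.one_def]
    have hE : toConv (D.comp (HopfFF.twistL (k := k) (A := AG) B)) =
        toConv jψ * toConv (D1.comp (HopfFF.twistL (k := k) (A := AG) B)) := by
      rw [hsplit, hsplit, hj1, hD2, mul_assoc (G := WithConv (AG →ₐ[k] T))]
      congr 3
    have key := AlgHom.congr_fun (congrArg WithConv.ofConv hE) e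
    rw [AlgHom.convMul_apply] at key
    simp only [ofConv_toConv, AlgHom.comp_apply] at key
    let jv : AG ⊗[k] AK →ₗ[B] AG ⊗[k] (AK ⊗[k] V) :=
      { toFun := fun y => assocB (y ⊗ₜ[k] v)
        map_add' := fun a b => by rw [TensorProduct.add_tmul, map_add]
        map_smul' := fun b a => by rw [RingHom.id_apply, ← map_smul]; exact congrArg assocB (TensorProduct.smul_tmul' b a v).symm }
    have hjv : ∀ y, jv y = assocB (y ⊗ₜ[k] v) := fun _ => rfl
    have hd1v : ∀ z : AG ⊗[B] AG, d1.rTensor AG ((iv v).rTensor AG z) = jv.rTensor AG (D z) := by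
      intro z
      induction z with
      | zero => simp
      | add p q hp hq => simp only [map_add, hp, hq]
      | tmul p q => simp [hiv, hjv, d1, D]; rfl
    show d1.rTensor AG ((iv v).rTensor AG (Γ (ψ e))) = _
    rw [hΓ, hd1v, key, ← CoalgHomClass.map_comp_comul_apply ψ e]
    generalize Coalgebra.comul (R := k) e = w
    induction w with
    | zero => simp
    | add p q hp hq => simp only [map_add, TensorProduct.tmul_add, hp, hq]
    | tmul p q =>
      simp only [Algebra.TensorProduct.map_tmul, Algebra.TensorProduct.lmul'_apply_tmul, Θ2, LinearMap.comp_apply,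
        TensorProduct.map_tmul, LinearEquiv.coe_coe, TensorProduct.assoc_symm_tmul, LinearMap.rTensor_tmul,
        TensorProduct.comm_tmul, TensorProduct.lift.tmul, LinearMap.mk₂_apply, AlgHom.toLinearMap_apply,
        AlgHom.comp_apply, BialgHom.coe_toAlgHom]
      refine Eq.trans ?_ (congrArg _ (hΓ q)).symm
      suffices h : ∀ y : AG ⊗[B] AG, jv.rTensor AG (jψ p * D1 y) = (ix (ψ p ⊗ₜ[k] v)).rTensor AG y from h _
      intro y
      induction y with
      | zero => simp
      | add r s hr hs => simp only [map_add, mul_add, hr, hs]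
      | tmul r s =>
        simp only [jψ, D1, AlgHom.comp_apply, AlgHom.restrictScalars_apply, Algebra.TensorProduct.map_tmul,
          Algebra.TensorProduct.includeRight_apply, Algebra.TensorProduct.includeLeft_apply, AlgHom.id_apply]
        refine (congrArg _ (Algebra.TensorProduct.tmul_mul_tmul _ _ _ _)).trans ?_
        simp [hjv, hix, hincB, assocB]; rfl
  have h2 : ∀ v x, (d2.rTensor AG) (Θ (v ⊗ₜ[k] x)) = Θ2 (TensorProduct.assoc k V AK AK (ρ v ⊗ₜ[k] x)) := by
    intro v x
    show d2.rTensor AG ((iv v).rTensor AG (Γ x)) = _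
    rw [← LinearMap.rTensor_comp_apply, show d2 ∘ₗ iv v = ix (ρ' v) from LinearMap.ext fun a => by rw [LinearMap.comp_apply, hiv, hix]; rfl]
    simp [Θ2, ρ']
  obtain ⟨v₁, hv₁⟩ := hπs 1
  let Z : (AG ⊗[k] V) ⊗[B] AG := Θ (ρ v₁)
  have hc := LinearMap.congr_fun (HopfRep.Comod.coassoc (k := k) (A := AK) (V := V)) v₁
  simp only [LinearMap.comp_apply, LinearEquiv.coe_coe] at hc
  have hZ1 : ∀ y : V ⊗[k] AK, d1.rTensor AG (Θ y) = Θ2 ((Coalgebra.comul (R := k)).lTensor V y) := by
    intro y
    induction y with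
    | zero => simp
    | add p q hp hq => simp only [map_add, hp, hq]
    | tmul p q => rw [h1, LinearMap.lTensor_tmul]
  have hZ2 : ∀ y : V ⊗[k] AK, d2.rTensor AG (Θ y) = Θ2 (TensorProduct.assoc k V AK AK (ρ.rTensor AK y)) := by
    intro y
    induction y with
    | zero => simp
    | add p q hp hq => simp only [map_add, hp, hq]
    | tmul p q => rw [h2, LinearMap.rTensor_tmul]
  have hZ : (d1 - d2).rTensor AG Z = 0 := by
    rw [show (d1 - d2).rTensor AG Z = d1.rTensor AG Z - d2.rTensor AG Z by
      rw [LinearMap.rTensor_sub]; rfl, hZ1, hZ2, hc, sub_self]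
  obtain ⟨Z', hZ'⟩ := exists_rTensor_ker (P := AG) (d1 - d2) Z hZ
  -- the image of the invariant sections
  have hπW : ∀ w : W, πM (w : AG ⊗[k] V) ∈ B := by
    intro w
    refine mem_of_coinv ψ B hΓker hψ ?_
    have hw : d1 (w : AG ⊗[k] V) = d2 (w : AG ⊗[k] V) := sub_eq_zero.mp w.2
    let G : AG ⊗[k] (AK ⊗[k] V) →ₗ[k] AK ⊗[k] AG :=
      (TensorProduct.comm k AG AK).toLinearMap ∘ₗ
        ((TensorProduct.rid k AK).toLinearMap ∘ₗ π.lTensor AK).lTensor AG
    have e1 : ∀ z : AG ⊗[k] V, G (d1 z) =
        (ψ : AG →ₐ[k] AK).toLinearMap.rTensor AG (Coalgebra.comul (R := k) (πM z)) := by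
      intro z
      induction z with
      | zero => simp
      | add p q hp hq => simp only [map_add, hp, hq]
      | tmul a v =>
        rw [hd1t, hπM, map_smul, map_smul]
        simp only [delta, AlgHom.comp_apply, Bialgebra.comulAlgHom_apply]
        generalize Coalgebra.comul (R := k) a = u
        induction u with
        | zero => simp
        | add p q hp hq => simp only [map_add, TensorProduct.add_tmul, smul_add, hp, hq]
        | tmul p q => simp [G, hasB, TensorProduct.smul_tmul']
    have e2 : ∀ z : AG ⊗[k] V, G (d2 z) = (1 : AK) ⊗ₜ[k] πM z := by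
      intro z
      induction z with
      | zero => simp
      | add p q hp hq => simp only [map_add, TensorProduct.tmul_add, hp, hq]
      | tmul a v =>
        have hv : π.lTensor AK (ρ' v) = (1 : AK) ⊗ₜ[k] π v := by
          have h := congrArg (TensorProduct.comm k k AK) (LinearMap.congr_fun hπ v)
          simp only [LinearMap.comp_apply, LinearMap.flip_apply, TensorProduct.mk_apply, TensorProduct.comm_tmul] at h
          rw [← h]
          show π.lTensor AK (TensorProduct.comm k V AK (ρ v)) = TensorProduct.comm k k AK (π.rTensor AK (ρ v))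
          generalize ρ v = u
          induction u with
          | zero => simp
          | add p q hp hq => simp only [map_add, hp, hq]
          | tmul p q => simp
        simp [G, hd2t, hπM, hv, TensorProduct.smul_tmul]
    rw [← e1, hw, e2]
  let J : Ideal B :=
    Submodule.comap (Algebra.linearMap B AG) (LinearMap.range (πM ∘ₗ W.subtype))
  let μ : AG ⊗[k] V →ₗ[B] (AG →ₗ[B] AG) := LinearMap.mul B AG ∘ₗ πM
  have hJ : ∀ z : W ⊗[B] AG, TensorProduct.lift μ (W.subtype.rTensor AG z) ∈ J.map (algebraMap B AG) := by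
    intro z
    induction z with
    | zero => simp
    | add p q hp hq => rw [map_add, map_add]; exact add_mem hp hq
    | tmul w a => exact Ideal.mul_mem_right _ _ (Ideal.mem_map_of_mem (algebraMap B AG)
      (show (⟨_, hπW w⟩ : B) ∈ J from ⟨w, rfl⟩))
  have hmulΓ : ∀ (v : V) (x : AK), TensorProduct.lift μ (Θ (v ⊗ₜ[k] x)) =
      algebraMap k AG (π v * Coalgebra.counit (R := k) x) := by
    intro v x
    obtain ⟨e, rfl⟩ := hψ x
    show TensorProduct.lift μ ((iv v).rTensor AG (Γ (ψ e))) = _
    rw [hΓ, HopfFF.twistL, AlgHom.convMul_apply, CoalgHomClass.counit_comp_apply, map_mul,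
      ← HopfAlgebra.mul_antipode_lTensor_comul_apply (R := k) e]
    generalize Coalgebra.comul (R := k) e = w
    induction w with
    | zero => simp
    | add p q hp hq => simp only [map_add, mul_add, hp, hq]
    | tmul p q =>
      simp [μ, hiv, hπM, HopfFF.inB₁, HopfFF.inB₂, Algebra.TensorProduct.tmul_mul_tmul, Algebra.smul_def, mul_assoc]
  have hone : (1 : AG) ∈ J.map (algebraMap B AG) := by
    have h := hJ Z'
    rw [hZ'] at h
    have e : TensorProduct.lift μ Z = algebraMap k AG (π v₁) := by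
      have hcu := LinearMap.congr_fun (HopfRep.Comod.counit_comp (k := k) (A := AK) (V := V)) v₁
      simp only [LinearMap.comp_apply, LinearMap.flip_apply, TensorProduct.mk_apply] at hcu
      have hgen : ∀ y : V ⊗[k] AK, TensorProduct.lift μ (Θ y) =
          algebraMap k AG (π (TensorProduct.rid k V ((Coalgebra.counit (R := k) (A := AK)).lTensor V y))) := by
        intro y
        induction y with
        | zero => simp
        | add p q hp hq => simp only [map_add, hp, hq]
        | tmul p q => rw [hmulΓ]; simp [mul_comm]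
      rw [show Z = Θ (ρ v₁) from rfl, hgen, hcu]
      simp
    rwa [e, hv₁, map_one] at h
  have hJtop : J = ⊤ := by
    rw [← Ideal.comap_map_eq_self_of_faithfullyFlat (B := AG) J, (Ideal.eq_top_iff_one _).mpr hone, Ideal.comap_top]
  obtain ⟨w, hw⟩ : (1 : B) ∈ J := hJtop ▸ Submodule.mem_top
  -- average with the integral
  let l' : AG →ₗ[k] k := l ∘ₗ HopfAlgebra.antipode k
  have hl' : ∀ a, rcon l' (Coalgebra.comul (R := k) a) = l' a • (1 : AG) := by
    intro a
    have h := hl.invariant (HopfAlgebra.antipode k a)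
    rw [comul_antipode] at h
    have h2 := congrArg (HopfAlgebra.antipode k) h
    rw [map_smul, HopfAlgebra.antipode_one] at h2
    refine Eq.trans ?_ h2
    generalize Coalgebra.comul (R := k) a = u
    induction u with
    | zero => simp
    | add p q hp hq => simp only [map_add, hp, hq]
    | tmul p q => simp [l', antipode_antipode]
  let P : AG ⊗[k] V →ₗ[k] V := lcon l'
  refine ⟨P (w : AG ⊗[k] V), ?_, ?_⟩
  · have hw' : d1 (w : AG ⊗[k] V) = d2 (w : AG ⊗[k] V) := sub_eq_zero.mp w.2
    have e1 : ∀ z : AG ⊗[k] V, lcon l' (d1 z) = (1 : AK) ⊗ₜ[k] P z := by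
      intro z
      induction z with
      | zero => simp
      | add p q hp hq => simp only [map_add, TensorProduct.tmul_add, hp, hq]
      | tmul a v =>
        rw [hd1t]
        simp only [P, lcon_tmul]
        have h3 : ∀ u : AG ⊗[k] AG, lcon l' (assocB (Algebra.TensorProduct.comm k AK AG
            (Algebra.TensorProduct.map (ψ : AG →ₐ[k] AK) (AlgHom.id k AG) u) ⊗ₜ[k] v)) =
            ψ (rcon l' u) ⊗ₜ[k] v := by
          intro u
          induction u with
          | zero => simp
          | add p q hp hq => simp only [map_add, TensorProduct.add_tmul, hp, hq]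
          | tmul p q => simp [hasB, TensorProduct.smul_tmul']
        simp only [delta, AlgHom.comp_apply, Bialgebra.comulAlgHom_apply]
        refine (h3 _).trans ?_
        rw [hl', map_smul, map_one, TensorProduct.tmul_smul, TensorProduct.smul_tmul']
    have e2 : ∀ z : AG ⊗[k] V, lcon l' (d2 z) = ρ' (P z) := by
      intro z
      induction z with
      | zero => simp
      | add p q hp hq => simp only [map_add, hp, hq]
      | tmul a v => simp [hd2t, P]
    have h := (e1 _).symm.trans ((congrArg (lcon l') hw').trans (e2 _))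
    show ρ (P (w : AG ⊗[k] V)) = P (w : AG ⊗[k] V) ⊗ₜ[k] (1 : AK)
    apply (TensorProduct.comm k V AK).injective
    rw [TensorProduct.comm_tmul]
    exact h.symm
  · have e : ∀ z : AG ⊗[k] V, π (P z) = l' (πM z) := by
      intro z
      induction z with
      | zero => simp
      | add p q hp hq => simp only [map_add, hp, hq]
      | tmul a v => simp [P, hπM, mul_comm]
    rw [e, show πM (w : AG ⊗[k] V) = 1 from hw.trans (map_one (algebraMap B AG))]
    simp [l', HopfAlgebra.antipode_one, hl.map_one]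

include hker in
theorem exists_section (hψ : Function.Surjective ψ) {l : AG →ₗ[k] k} (hl : IsIntegral' l)
    (π : V →ₗ[k] k) (hπs : Function.Surjective π)
    (hπ : LinearMap.rTensor AK π ∘ₗ HopfRep.Comod.coact (k := k) (A := AK) (V := V) =
      (TensorProduct.mk k k AK).flip (1 : AK) ∘ₗ π) :
    ∃ v ∈ HopfRep.fixedPts k AK V, π v ≠ 0 := by
  haveI : Module.FaithfullyFlat (φ : AQ →ₐ[k] AG).range AG :=
    HopfFF.faithfullyFlat_of_hopfSub (HopfFF.isHopfSub_range φ)
  refine exists_section_of_galois ψ V (φ : AQ →ₐ[k] AG).range ?_ ?_ hψ hl π hπs hπ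
  · rintro _ ⟨q, rfl⟩
    exact congrArg (Algebra.TensorProduct.comm k AK AG) (rTensor_comul_image φ ψ hker q)
  · refine (ker_le_span φ ψ hker).trans (Ideal.span_le.mpr ?_)
    rintro b ⟨hb, hb0⟩
    simp [HopfFF.twistL_apply (HopfFF.isHopfSub_range φ) hb, hb0]

end Kernel

end Groth.Agent.Comodule
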