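import Groth.Agent.Comodule.Tame
import Groth.Agent.Comodule.Antipode
import Mathlib

/-! The Hopf module of linear maps out of a finite projective Hopf algebra, and total integrals from exactness. -/

set_option autoImplicit false
universe u

open TensorProduct WithConv

noncomputable section

namespace Groth.Agent.Comodule.HomMod

variable {k : Type u} [CommRing k] {A : Type u} [CommRing A] [HopfAlgebra k A] [Module.Finite k A]
  [Module.Projective k A] {B : Type u} [CommRing B] [Algebra k B] [HopfRep.Comod k A B] [GLin.IsCoactAlg k A B]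

local notation "S" => HopfAlgebra.antipode k (A := A)
local notation "T₂" => (B ⊗[k] A) ⊗[k] A
local notation "ρB" => GLin.coactAlgHom k A B

variable (k A B) in
/-- `(φ, a) ↦ (x ↦ φ x ⊗ a)`. -/
def E : (A →ₗ[k] B) ⊗[k] A ≃ₗ[k] (A →ₗ[k] B ⊗[k] A) := rTensorHomEquivHomRTensor k A B A

theorem E_tmul (f : A →ₗ[k] B) (a x : A) : E k A B (f ⊗ₜ[k] a) x = f x ⊗ₜ[k] a := by
  rw [E, rTensorHomEquivHomRTensor_apply]
  rfl

variable (k A B) in
/-- `φ ↦ (x ↦ ρ(φ x₁) S x₂)`. -/
def r : (A →ₗ[k] B) →ₗ[k] (A →ₗ[k] B ⊗[k] A) where
  toFun φ := (toConv ((ρB).toLinearMap ∘ₗ φ) *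
    toConv ((Algebra.TensorProduct.includeRight : A →ₐ[k] B ⊗[k] A).toLinearMap ∘ₗ S)).ofConv
  map_add' φ ψ := by rw [LinearMap.comp_add, WithConv.toConv_add, add_mul]; rfl
  map_smul' c φ := by rw [LinearMap.comp_smul, WithConv.toConv_smul, smul_mul_assoc]; rfl

theorem r_apply (φ : A →ₗ[k] B) : toConv (r k A B φ) = toConv ((ρB).toLinearMap ∘ₗ φ) *
    toConv ((Algebra.TensorProduct.includeRight : A →ₐ[k] B ⊗[k] A).toLinearMap ∘ₗ S) := rfl

variable (k A B) in
/-- The double evaluation. -/
def E2 : ((A →ₗ[k] B) ⊗[k] A) ⊗[k] A ≃ₗ[k] (A →ₗ[k] T₂) :=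
  TensorProduct.congr (E k A B) (LinearEquiv.refl k A) ≪≫ₗ rTensorHomEquivHomRTensor k A (B ⊗[k] A) A

theorem E2_tmul (z : (A →ₗ[k] B) ⊗[k] A) (a x : A) : E2 k A B (z ⊗ₜ[k] a) x = E k A B z x ⊗ₜ[k] a := by
  rw [E2, LinearEquiv.trans_apply, TensorProduct.congr_tmul, rTensorHomEquivHomRTensor_apply]
  rfl

variable (k A B) in
/-- The coaction on the linear maps. -/
@[reducible] def comod : HopfRep.Comod k A (A →ₗ[k] B) where
  coact := (E k A B).symm.toLinearMap ∘ₗ r k A B
  coassoc := by
    refine LinearMap.ext fun φ => (TensorProduct.assoc k _ A A).symm.injective ((E2 k A B).injective ?_)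
    simp only [LinearMap.comp_apply, LinearEquiv.coe_coe, LinearEquiv.symm_apply_apply]
    let L : B ⊗[k] A →ₐ[k] T₂ := Algebra.TensorProduct.map ρB (AlgHom.id k A)
    let K : B ⊗[k] A →ₐ[k] T₂ := ((Algebra.TensorProduct.assoc k k k B A A).symm : B ⊗[k] (A ⊗[k] A) →ₐ[k] T₂).comp
      (Algebra.TensorProduct.map (AlgHom.id k B) (Bialgebra.comulAlgHom k A))
    let i2 : A →ₐ[k] T₂ := (Algebra.TensorProduct.includeLeft : B ⊗[k] A →ₐ[k] T₂).comp Algebra.TensorProduct.includeRight
    let ι : A →ₐ[k] B ⊗[k] A := Algebra.TensorProduct.includeRight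
    have lem1 : ∀ z, toConv (E2 k A B (((E k A B).symm.toLinearMap ∘ₗ r k A B).rTensor A z)) =
        toConv (L.toLinearMap ∘ₗ E k A B z) * toConv (i2.toLinearMap ∘ₗ S) := by
      intro z
      induction z with
      | zero => simp
      | add p q hp hq => simp only [map_add, WithConv.toConv_add, hp, hq, LinearMap.comp_add, add_mul]
      | tmul f a =>
        refine WithConv.ofConv_injective (LinearMap.ext fun x => ?_)
        simp only [ofConv_toConv, LinearMap.rTensor_tmul, LinearMap.comp_apply, LinearEquiv.coe_coe, E2_tmul,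
          LinearEquiv.apply_symm_apply]
        show (r k A B f x) ⊗ₜ[k] a = _
        rw [show r k A B f = (toConv ((ρB).toLinearMap ∘ₗ f) * toConv (ι.toLinearMap ∘ₗ S)).ofConv from rfl,
          LinearMap.convMul_apply, LinearMap.convMul_apply]
        induction Coalgebra.comul (R := k) x with
        | zero => simp
        | add p q hp hq => simp only [map_add, TensorProduct.add_tmul, hp, hq]
        | tmul p q => simp [L, i2, ι, E_tmul, Algebra.TensorProduct.tmul_mul_tmul]
    have lem2 : ∀ z, E2 k A B ((TensorProduct.assoc k (A →ₗ[k] B) A A).symm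
        ((Coalgebra.comul (R := k) (A := A)).lTensor (A →ₗ[k] B) z)) = K.toLinearMap ∘ₗ E k A B z := by
      intro z
      induction z with
      | zero => simp
      | add p q hp hq => simp only [map_add, hp, hq, LinearMap.comp_add]
      | tmul f a =>
        refine LinearMap.ext fun x => ?_
        simp only [LinearMap.lTensor_tmul, LinearMap.comp_apply, E_tmul, AlgHom.toLinearMap_apply, K, AlgHom.comp_apply,
          Algebra.TensorProduct.map_tmul, AlgHom.id_apply, Bialgebra.comulAlgHom_apply]
        induction Coalgebra.comul (R := k) a with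
        | zero => simp
        | add p q hp hq => simp only [TensorProduct.tmul_add, map_add, LinearMap.add_apply, hp, hq]
        | tmul p q => simp [E2_tmul, E_tmul]
    refine WithConv.toConv_injective ((lem1 _).trans ?_)
    rw [lem2, LinearEquiv.apply_symm_apply,
      show r k A B φ = (toConv ((ρB).toLinearMap ∘ₗ φ) * toConv (ι.toLinearMap ∘ₗ S)).ofConv from rfl,
      LinearMap.algHom_comp_convMul_distrib, LinearMap.algHom_comp_convMul_distrib, toConv_ofConv, toConv_ofConv,
      mul_assoc]
    congr 1
    · congr 1
      refine LinearMap.ext fun x => ?_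
      simp only [ofConv_toConv, LinearMap.comp_apply, AlgHom.toLinearMap_apply, GLin.coactAlgHom_apply]
      have hc := LinearMap.congr_fun (HopfRep.Comod.coassoc (k := k) (A := A) (V := B)) (φ x)
      simp only [LinearMap.comp_apply, LinearEquiv.coe_coe] at hc
      have e1 : ∀ w : B ⊗[k] A, L w = (HopfRep.Comod.coact (k := k) (A := A) (V := B)).rTensor A w := by
        intro w
        induction w with
        | zero => simp
        | add p q hp hq => simp only [map_add, hp, hq]
        | tmul p q => simp [L]
      have e2 : ∀ w : B ⊗[k] A, K w = (TensorProduct.assoc k B A A).symm ((Coalgebra.comul (R := k) (A := A)).lTensor B w) := by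
        intro w
        induction w with
        | zero => simp
        | add p q hp hq => simp only [map_add, hp, hq]
        | tmul p q =>
          simp only [K, AlgHom.comp_apply, Algebra.TensorProduct.map_tmul, AlgHom.id_apply,
            Bialgebra.comulAlgHom_apply, LinearMap.lTensor_tmul]
          induction Coalgebra.comul (R := k) q with
          | zero => simp
          | add u v hu hv => simp only [TensorProduct.tmul_add, map_add, hu, hv]
          | tmul u v => simp
      rw [e1, e2, ← hc, LinearEquiv.symm_apply_apply]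
    · refine WithConv.ofConv_injective (LinearMap.ext fun x => ?_)
      rw [LinearMap.convMul_apply]
      simp only [ofConv_toConv, LinearMap.comp_apply, AlgHom.toLinearMap_apply, ι, Algebra.TensorProduct.includeRight_apply,
        K, AlgHom.comp_apply, Algebra.TensorProduct.map_tmul, AlgHom.id_apply, Bialgebra.comulAlgHom_apply, comul_antipode]
      induction Coalgebra.comul (R := k) x with
      | zero => simp
      | add p q hp hq => simp only [map_add, TensorProduct.tmul_add, hp, hq]
      | tmul p q => simp [L, i2, Algebra.TensorProduct.tmul_mul_tmul, GLin.IsCoactAlg.coact_one]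
  counit_comp := by
    refine LinearMap.ext fun φ => (TensorProduct.rid k _).injective ?_
    simp only [LinearMap.comp_apply, LinearEquiv.coe_coe, LinearMap.flip_apply, TensorProduct.mk_apply,
      TensorProduct.rid_tmul, one_smul]
    let P : B ⊗[k] A →ₐ[k] B := (Algebra.TensorProduct.rid k k B : B ⊗[k] k →ₐ[k] B).comp
      (Algebra.TensorProduct.map (AlgHom.id k B) (Bialgebra.counitAlgHom k A))
    have lem : ∀ z, TensorProduct.rid k (A →ₗ[k] B) ((Coalgebra.counit (R := k) (A := A)).lTensor _ z) =
        P.toLinearMap ∘ₗ E k A B z := by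
      intro z
      induction z with
      | zero => simp
      | add p q hp hq => simp only [map_add, hp, hq, LinearMap.comp_add]
      | tmul f a => exact LinearMap.ext fun x => by simp [P, E_tmul]
    rw [lem, LinearEquiv.apply_symm_apply,
      show r k A B φ = (toConv ((ρB).toLinearMap ∘ₗ φ) *
        toConv ((Algebra.TensorProduct.includeRight : A →ₐ[k] B ⊗[k] A).toLinearMap ∘ₗ S)).ofConv from rfl,
      LinearMap.algHom_comp_convMul_distrib]
    have e1 : P.toLinearMap ∘ₗ ((ρB).toLinearMap ∘ₗ φ) = φ := by
      refine LinearMap.ext fun x => ?_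
      have hc := LinearMap.congr_fun (HopfRep.Comod.counit_comp (k := k) (A := A) (V := B)) (φ x)
      simp only [LinearMap.comp_apply, LinearMap.flip_apply, TensorProduct.mk_apply] at hc
      have e : ∀ w : B ⊗[k] A, P w = TensorProduct.rid k B ((Coalgebra.counit (R := k) (A := A)).lTensor B w) := by
        intro w
        induction w with
        | zero => simp
        | add p q hp hq => simp only [map_add, hp, hq]
        | tmul p q => simp [P]
      simp [e, hc]
    have e2 : toConv (P.toLinearMap ∘ₗ ((Algebra.TensorProduct.includeRight : A →ₐ[k] B ⊗[k] A).toLinearMap ∘ₗ S)) =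
        (1 : WithConv (A →ₗ[k] B)) := by
      refine WithConv.ofConv_injective (LinearMap.ext fun x => ?_)
      simp [P, LinearMap.convOne_apply, Algebra.algebraMap_eq_smul_one]
    simp only [ofConv_toConv, e1, e2, mul_one]

theorem coact_eq (φ : A →ₗ[k] B) :
    letI := comod k A B
    E k A B (HopfRep.Comod.coact (k := k) (A := A) φ) = r k A B φ :=
  (E k A B).apply_symm_apply _

theorem isHopfMod : letI := comod k A B; TameAct.IsHopfMod k A B (A →ₗ[k] B) := by
  letI := comod k A B
  refine ⟨fun b φ => (E k A B).injective ?_⟩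
  have e : ∀ (w : B ⊗[k] A) (z : (A →ₗ[k] B) ⊗[k] A),
      E k A B (TameAct.hmSMul k A B (A →ₗ[k] B) w z) = LinearMap.mulLeft k w ∘ₗ E k A B z := by
    intro w z
    induction w with
    | zero => simp
    | add p q hp hq =>
      rw [map_add, LinearMap.add_apply, map_add, hp, hq]
      exact LinearMap.ext fun x => by simp [add_mul]
    | tmul p q =>
      induction z with
      | zero => simp
      | add u v hu hv => simp only [map_add, hu, hv, LinearMap.comp_add]
      | tmul f a => exact LinearMap.ext fun x => by simp [E_tmul]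
  rw [e, coact_eq, coact_eq]
  refine LinearMap.ext fun x => ?_
  rw [LinearMap.comp_apply, LinearMap.mulLeft_apply]
  simp only [r, LinearMap.coe_mk, AddHom.coe_mk, LinearMap.convMul_apply, ofConv_toConv]
  induction Coalgebra.comul (R := k) x with
  | zero => simp
  | add p q hp hq => simp only [map_add, hp, hq, mul_add]
  | tmul p q => simp [← GLin.coactAlgHom_apply, -GLin.coactAlgHom_apply, map_mul, mul_assoc]; rfl

/-- Exactness of invariants gives a total integral. -/
theorem exists_totalIntegral
    (hexact : ∀ (M N : Type u) [AddCommGroup M] [Module k M] [Module B M] [IsScalarTower k B M]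
      [HopfRep.Comod k A M] [TameAct.IsHopfMod k A B M]
      [AddCommGroup N] [Module k N] [Module B N] [IsScalarTower k B N]
      [HopfRep.Comod k A N] [TameAct.IsHopfMod k A B N] (f : M →ₗ[B] N),
      Hoch.IsComodHom A (f.restrictScalars k) → Function.Surjective f →
      ∀ n ∈ HopfRep.fixedPts k A N, ∃ m ∈ HopfRep.fixedPts k A M, f m = n) :
    ∃ α : A →ₗ[k] B, Hoch.IsComodHom A α ∧ α 1 = 1 := by
  letI := comod k A B
  haveI := isHopfMod (k := k) (A := A) (B := B)
  haveI : TameAct.IsHopfMod k A B B := ⟨fun b m => by
    rw [smul_eq_mul, ← GLin.coactAlgHom_apply, map_mul, GLin.coactAlgHom_apply, GLin.coactAlgHom_apply]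
    generalize HopfRep.Comod.coact (k := k) (A := A) b = w
    generalize HopfRep.Comod.coact (k := k) (A := A) m = z
    induction w with
    | zero => simp
    | add p q hp hq => simp only [add_mul, map_add, LinearMap.add_apply, hp, hq]
    | tmul p q =>
      induction z with
      | zero => simp
      | add u v hu hv => simp only [mul_add, map_add, hu, hv]
      | tmul u v => simp [Algebra.TensorProduct.tmul_mul_tmul]⟩
  let f : (A →ₗ[k] B) →ₗ[B] B :=
    { toFun := fun φ => φ 1
      map_add' := fun φ ψ => rfl
      map_smul' := fun b φ => rfl }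
  have hf : Hoch.IsComodHom A (f.restrictScalars k) := by
    refine LinearMap.ext fun φ => ?_
    have e : ∀ z : (A →ₗ[k] B) ⊗[k] A, (f.restrictScalars k).rTensor A z = E k A B z 1 := by
      intro z
      induction z with
      | zero => simp
      | add p q hp hq => simp only [map_add, LinearMap.add_apply, hp, hq]
      | tmul g a => simp [E_tmul, f]
    rw [LinearMap.comp_apply, LinearMap.comp_apply, e, coact_eq]
    simp [r, f, LinearMap.convMul_apply, Bialgebra.comul_one, Algebra.TensorProduct.one_def,
      HopfAlgebra.antipode_one]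
    rw [← Algebra.TensorProduct.one_def, mul_one]
  have hsurj : Function.Surjective f := fun b =>
    ⟨(Coalgebra.counit (R := k) (A := A)).smulRight b, by simp [f]⟩
  obtain ⟨α, hα, hα1⟩ := hexact (A →ₗ[k] B) B f hf hsurj 1 (by
    show HopfRep.Comod.coact (k := k) (A := A) (1 : B) = (1 : B) ⊗ₜ[k] (1 : A)
    exact GLin.IsCoactAlg.coact_one)
  refine ⟨α, ?_, hα1⟩
  let ι : A →ₐ[k] B ⊗[k] A := Algebra.TensorProduct.includeRight
  let l1 : B →ₗ[k] B ⊗[k] A := (TensorProduct.mk k B A).flip 1
  have hr : r k A B α = l1 ∘ₗ α := by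
    have hα' : HopfRep.Comod.coact (k := k) (A := A) α = α ⊗ₜ[k] (1 : A) := hα
    refine (coact_eq α).symm.trans ((congrArg (E k A B) hα').trans (LinearMap.ext fun x => ?_))
    simp [E_tmul, l1]
  have hmul : toConv ((ρB).toLinearMap ∘ₗ α) =
      toConv (l1 ∘ₗ α) * toConv ι.toLinearMap := by
    rw [← hr, r_apply, mul_assoc]
    have h1 : toConv (ι.toLinearMap ∘ₗ S) * toConv ι.toLinearMap = 1 := by
      refine WithConv.ofConv_injective (LinearMap.ext fun x => ?_)
      rw [LinearMap.convMul_apply, LinearMap.convOne_apply, ← ι.commutes (Coalgebra.counit (R := k) x),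
        ← HopfAlgebra.mul_antipode_rTensor_comul_apply (R := k) x]
      induction Coalgebra.comul (R := k) x with
      | zero => simp
      | add p q hp hq => simp only [map_add, hp, hq]
      | tmul p q => simp [ι]
    rw [h1, mul_one]
  refine LinearMap.ext fun x => ?_
  have h := congrArg (fun g : WithConv (A →ₗ[k] B ⊗[k] A) => g.ofConv x) hmul
  simp only [ofConv_toConv, LinearMap.convMul_apply, LinearMap.comp_apply] at h
  rw [LinearMap.comp_apply, LinearMap.comp_apply]
  change HopfRep.Comod.coact (k := k) (A := A) (α x) = α.rTensor A (Coalgebra.comul (R := k) x)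
  rw [← GLin.coactAlgHom_apply]
  refine h.trans ?_
  induction Coalgebra.comul (R := k) x with
  | zero => simp
  | add p q hp hq => simp only [map_add, hp, hq]
  | tmul p q => simp [l1, ι, Algebra.TensorProduct.tmul_mul_tmul]

end Groth.Agent.Comodule.HomMod
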