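import Groth.Agent.Comodule.StableLocus
import Groth.Agent.Comodule.InvFinite
import Groth.Agent.FinInv.Basic
import Groth.Agent.FlatDepth.Fibres
import Groth.Agent.S14435
import Groth.Agent.S5152

/-! Serre's condition for invariants of finite linearly reductive group schemes. -/

set_option autoImplicit false
set_option backward.isDefEq.respectTransparency false
universe u v

open TensorProduct

noncomputable section

namespace Groth.Agent.Comodule.InvSk

section General

/-- Primes of a finite flat algebra have the height of their contraction. -/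
theorem height_eq_under {R C : Type u} [CommRing R] [CommRing C] [Algebra R C] [Module.Finite R C]
    [Module.Flat R C] [IsNoetherianRing R] [IsNoetherianRing C] (P : Ideal C) [P.IsPrime] :
    P.height = (P.under R).height := by
  haveI : P.LiesOver (P.under R) := ⟨rfl⟩
  refine le_antisymm ?_ ((Ideal.height_eq_height_add_of_liesOver_of_hasGoingDown (P.under R) P).ge.trans' le_self_add)
  change (⟨P, inferInstance⟩ : PrimeSpectrum C).asIdeal.height ≤
    (PrimeSpectrum.comap (algebraMap R C) ⟨P, inferInstance⟩).asIdeal.height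
  rw [PrimeSpectrum.height_eq_orderHeight, PrimeSpectrum.height_eq_orderHeight]
  refine Order.height_le_height_apply_of_strictMono
    (PrimeSpectrum.comap (algebraMap R C)) (fun a b hab => ?_) (⟨P, inferInstance⟩ : PrimeSpectrum C)
  obtain ⟨r, hrb, hra⟩ := SetLike.exists_of_lt (show a.asIdeal < b.asIdeal from hab)
  exact Ideal.comap_lt_comap_of_integral_mem_sdiff (show a.asIdeal ≤ b.asIdeal from hab.le) ⟨hrb, hra⟩
    (Algebra.IsIntegral.isIntegral r)

/-- Over an integral extension some prime over `p` is at least as high. -/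
theorem exists_height_le {A R : Type u} [CommRing A] [CommRing R] [Algebra A R] [Algebra.IsIntegral A R]
    (hinj : Function.Injective (algebraMap A R)) (p : Ideal A) [p.IsPrime] :
    ∀ n : ℕ, (n : ℕ∞) ≤ p.height →
      ∃ q : Ideal R, q.IsPrime ∧ q.under A = p ∧ (n : ℕ∞) ≤ q.height := by
  intro n hn
  induction n generalizing p with
  | zero =>
    obtain ⟨q, -, hq, hqp⟩ := Ideal.exists_ideal_over_prime_of_isIntegral (S := R) p ⊥ (by
      rw [show Ideal.comap (algebraMap A R) ⊥ = RingHom.ker (algebraMap A R) from rfl,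
        (RingHom.injective_iff_ker_eq_bot _).1 hinj]
      exact bot_le)
    exact ⟨q, hq, hqp, by simp⟩
  | succ n ih =>
    rw [show p.height = (⟨p, inferInstance⟩ : PrimeSpectrum A).asIdeal.height from rfl,
      PrimeSpectrum.height_eq_orderHeight] at hn
    obtain ⟨l, hlast, hlen⟩ := Order.exists_series_of_le_height _ hn
    have hlt : l.eraseLast.last < l.last := l.eraseLast_last_rel_last (by omega)
    obtain ⟨q', hq', hq'p, hq'h⟩ := @ih l.eraseLast.last.asIdeal l.eraseLast.last.2 (by
      rw [PrimeSpectrum.height_eq_orderHeight]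
      exact le_trans (by simp [hlen]) Order.length_le_height_last)
    obtain ⟨q, hle, hq, hqp⟩ := Ideal.exists_ideal_over_prime_of_isIntegral (S := R) p q' (by
      refine le_of_eq_of_le hq'p ?_
      rw [show p = l.last.asIdeal by rw [hlast]]
      exact hlt.le)
    refine ⟨q, hq, hqp, ?_⟩
    have hne : q' ≠ q := fun h => by
      subst h
      have : l.eraseLast.last = l.last := PrimeSpectrum.ext (by rw [hlast]; exact hq'p.symm.trans hqp)
      exact hlt.ne this
    rw [show q.height = (⟨q, hq⟩ : PrimeSpectrum R).asIdeal.height from rfl, PrimeSpectrum.height_eq_orderHeight]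
    have h1 := Order.height_add_one_le (show (⟨q', hq'⟩ : PrimeSpectrum R) < ⟨q, hq⟩ from lt_of_le_of_ne hle fun h => hne (congrArg PrimeSpectrum.asIdeal h))
    refine le_trans ?_ h1
    rw [← PrimeSpectrum.height_eq_orderHeight]
    push_cast
    exact add_le_add hq'h le_rfl

/-- Depth does not drop on direct summands. -/
theorem depth_le_of_retract {R : Type u} [CommRing R] [IsLocalRing R] [IsNoetherianRing R] {M N : Type u}
    [AddCommGroup M] [Module R M] [Module.Finite R M] [AddCommGroup N] [Module R N] [Module.Finite R N] [Nontrivial N]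
    (i : N →ₗ[R] M) (π : M →ₗ[R] N) (h : π ∘ₗ i = LinearMap.id) :
    LocCoh.depth R M ≤ LocCoh.depth R N := by
  haveI : Nontrivial M := (Function.LeftInverse.injective (fun x => LinearMap.congr_fun h x) :
    Function.Injective i).nontrivial
  have key : ∀ (rs : List R) {M N : Type u} [AddCommGroup M] [Module R M] [AddCommGroup N] [Module R N]
      (i : N →ₗ[R] M) (π : M →ₗ[R] N), π ∘ₗ i = LinearMap.id →
      RingTheory.Sequence.IsWeaklyRegular M rs → RingTheory.Sequence.IsWeaklyRegular N rs := by
    intro rs
    induction rs with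
    | nil => intros; exact RingTheory.Sequence.IsWeaklyRegular.nil R _
    | cons r rs ih =>
      intro M N _ _ _ _ i π h hw
      rw [RingTheory.Sequence.isWeaklyRegular_cons_iff] at hw ⊢
      refine ⟨hw.1.of_injective i (Function.LeftInverse.injective fun x => LinearMap.congr_fun h x),
        ih (QuotSMulTop.map r i) (QuotSMulTop.map r π) ?_ hw.2⟩
      rw [← QuotSMulTop.map_comp, h, QuotSMulTop.map_id]
  obtain ⟨d, hd⟩ := FlatDepth.exists_depth_eq (R := R) (M := M)
  rw [hd]
  obtain ⟨rs, hl, hm, hw⟩ :=
    (Depth.le_idealDepth_iff (CAlgBasics.maximalIdeal_smul_top_ne_top (R := R) (M := M)) d).1 hd.ge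
  exact (Depth.le_idealDepth_iff (CAlgBasics.maximalIdeal_smul_top_ne_top (R := R) (M := N)) d).2
    ⟨rs, hl, hm, key rs i π h hw⟩

end General

variable {k : Type u} [Field k] {H : Type u} [CommRing H] [HopfAlgebra k H] [Module.Finite k H]
variable {R : Type u} [CommRing R] [Algebra k R] [Algebra.FiniteType k R] [HopfRep.Comod k H R]
  [GLin.IsCoactAlg k H R]

omit [Algebra.FiniteType k R] in
/-- Primes over the same prime of the invariants are translates of each other. -/
theorem exists_translate (q₁ q₂ : Ideal R) [q₁.IsPrime] [q₂.IsPrime]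
    (h : q₁.under (GLin.invariants k H R) = q₂.under (GLin.invariants k H R)) :
    ∃ (P : Ideal (R ⊗[k] H)) (_ : P.IsPrime), P.comap (algebraMap R (R ⊗[k] H)) = q₁ ∧
      P.comap (GLin.coactAlgHom k H R).toRingHom = q₂ := by
  classical
  let S := GLin.invariants k H R
  let K := FractionRing (R ⧸ q₁)
  let j : R →ₐ[k] K := (IsScalarTower.toAlgHom k (R ⧸ q₁) K).comp (Ideal.Quotient.mkₐ k q₁)
  have hjker : ∀ r, j r = 0 ↔ r ∈ q₁ := fun r => by
    show algebraMap (R ⧸ q₁) K (Ideal.Quotient.mk q₁ r) = 0 ↔ _
    rw [map_eq_zero_iff _ (IsFractionRing.injective (R ⧸ q₁) K), Ideal.Quotient.eq_zero_iff_mem]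
  let J : R ⊗[k] H →ₐ[k] K ⊗[k] H := Algebra.TensorProduct.map j (AlgHom.id k H)
  haveI : IsArtinianRing (K ⊗[k] H) := IsArtinianRing.of_finite K _
  haveI : Fintype (PrimeSpectrum (K ⊗[k] H)) := Fintype.ofFinite _
  let F : PrimeSpectrum (K ⊗[k] H) → Ideal R := fun P =>
    P.asIdeal.comap (J.comp (GLin.coactAlgHom k H R)).toRingHom
  have hcover : (q₂ : Set R) ⊆ ⋃ P ∈ (↑(Finset.univ : Finset (PrimeSpectrum (K ⊗[k] H))) :
      Set (PrimeSpectrum (K ⊗[k] H))), (F P : Set R) := by
    intro f hf
    let b := Module.Free.chooseBasis k H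
    let c0 := (FinInv.chi b f).coeff 0
    have hc2 : c0 ∈ q₂ := by
      have hdvd := Polynomial.sub_dvd_eval_sub f 0 (FinInv.chi b f)
      rw [sub_zero, FinInv.aeval_chi, zero_sub, ← Polynomial.coeff_zero_eq_eval_zero, dvd_neg] at hdvd
      obtain ⟨c, hc⟩ := hdvd
      show (FinInv.chi b f).coeff 0 ∈ q₂
      rw [hc]
      exact q₂.mul_mem_right _ hf
    have hc1 : c0 ∈ q₁ := by
      have : (⟨c0, FinInv.coeff_chi_mem b f 0⟩ : S) ∈ q₂.under S := hc2
      rw [← h] at this
      exact this
    let y := J (GLin.coactAlgHom k H R f)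
    let bK := Algebra.TensorProduct.basis K b
    have hdet : (Algebra.leftMulMatrix bK y).det = 0 := by
      rw [Matrix.det_eq_sign_charpoly_coeff]
      refine mul_eq_zero_of_right _ ?_
      have e : Algebra.leftMulMatrix bK y =
          (Algebra.leftMulMatrix (Algebra.TensorProduct.basis R b) (GLin.coactAlgHom k H R f)).map (j : R →+* K) :=
        FinInv.leftMulMatrix_map b j (GLin.coactAlgHom k H R f)
      rw [e, Matrix.charpoly_map, Polynomial.coeff_map]
      exact (hjker _).2 hc1
    have hnu : ¬ IsUnit y := fun hu => by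
      have := (hu.map (Algebra.leftMulMatrix bK)).map (Matrix.detMonoidHom)
      simp only [Matrix.coe_detMonoidHom, hdet] at this
      exact not_isUnit_zero this
    obtain ⟨M, hM, hyM⟩ := exists_max_ideal_of_mem_nonunits hnu
    simp only [Set.mem_iUnion]
    exact ⟨⟨M, hM.isPrime⟩, Finset.mem_coe.2 (Finset.mem_univ _), hyM⟩
  have hne : (Finset.univ : Finset (PrimeSpectrum (K ⊗[k] H))).Nonempty := by
    have := hcover q₂.zero_mem
    simp only [Set.mem_iUnion] at this
    obtain ⟨P, -, -⟩ := this
    exact ⟨P, Finset.mem_univ P⟩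
  obtain ⟨P₀, -⟩ := hne
  obtain ⟨P, -, hP⟩ := (Ideal.subset_union_prime P₀ P₀ (fun P _ _ _ => Ideal.IsPrime.comap _)).1 hcover
  let Q : Ideal (R ⊗[k] H) := P.asIdeal.comap J.toRingHom
  haveI : Q.IsPrime := Ideal.IsPrime.comap _
  have hQ1 : Q.comap (algebraMap R (R ⊗[k] H)) = q₁ := by
    ext r
    show J (r ⊗ₜ[k] (1 : H)) ∈ P.asIdeal ↔ _
    rw [← hjker]
    refine ⟨fun hr => ?_, fun hr => by simp [J, hr]⟩
    by_contra hne
    have hu : IsUnit (algebraMap K (K ⊗[k] H) (j r)) := (isUnit_iff_ne_zero.2 hne).map _
    exact P.2.ne_top (Ideal.eq_top_of_isUnit_mem _ (show algebraMap K (K ⊗[k] H) (j r) ∈ P.asIdeal from hr) hu)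
  refine ⟨Q, inferInstance, hQ1, ?_⟩
  have hle : q₂ ≤ Q.comap (GLin.coactAlgHom k H R).toRingHom := hP
  refine le_antisymm (fun r hr => ?_) hle
  by_contra hr2
  have hlt : q₂.comap (algebraMap S R) < (Q.comap (GLin.coactAlgHom k H R).toRingHom).comap (algebraMap S R) :=
    Ideal.comap_lt_comap_of_integral_mem_sdiff hle ⟨hr, hr2⟩ (FinInv.isIntegral (Module.Free.chooseBasis k H) r)
  refine hlt.ne ?_
  rw [show q₂.comap (algebraMap S R) = q₁.comap (algebraMap S R) from h.symm, ← hQ1]
  ext s
  show algebraMap R (R ⊗[k] H) (s : R) ∈ Q ↔ HopfRep.Comod.coact (k := k) (A := H) (s : R) ∈ Q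
  rw [(GLin.mem_invariants_iff _ _ _ _).1 s.2]
  rfl

/-- Primes over the same prime of the invariants have the same height. -/
theorem height_eq (q₁ q₂ : Ideal R) [q₁.IsPrime] [q₂.IsPrime]
    (h : q₁.under (GLin.invariants k H R) = q₂.under (GLin.invariants k H R)) : q₁.height = q₂.height := by
  obtain ⟨P, hP, h1, h2⟩ := exists_translate (k := k) (H := H) q₁ q₂ h
  haveI : IsNoetherianRing R := Algebra.FiniteType.isNoetherianRing k R
  haveI : IsNoetherianRing (R ⊗[k] H) := isNoetherian_of_tower R inferInstance
  obtain ⟨σ, hσ⟩ := StableLocus.exists_shear (k := k) (A := H) (R := R)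
  have e : q₂ = (P.comap σ.toRingEquiv).under R := by
    rw [← h2]
    ext r
    show HopfRep.Comod.coact (k := k) (A := H) r ∈ P ↔ σ (algebraMap R (R ⊗[k] H) r) ∈ P
    rw [← hσ r]
    rfl
  haveI : (P.comap σ.toRingEquiv).IsPrime := Ideal.IsPrime.comap _
  rw [show q₁ = P.under R from h1.symm, e, ← height_eq_under, ← height_eq_under]
  exact (RingEquiv.height_comap σ.toRingEquiv P).symm

variable (k H R) in
theorem finite_over_invariants : Module.Finite (GLin.invariants k H R) R := by
  classical
  haveI : Algebra.FiniteType (GLin.invariants k H R) R := Algebra.FiniteType.of_restrictScalars_finiteType k _ _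
  haveI : Algebra.IsIntegral (GLin.invariants k H R) R := ⟨FinInv.isIntegral (Module.Free.chooseBasis k H)⟩
  exact Algebra.IsIntegral.finite

variable (k H R) in
theorem exists_retraction (hG : HopfRep.IsLinearlyReductive k H) :
    ∃ π : R →ₗ[GLin.invariants k H R] GLin.invariants k H R,
      π ∘ₗ Algebra.linearMap (GLin.invariants k H R) R = LinearMap.id := by
  obtain ⟨α, hα, h1⟩ := InvFinite.exists_total R hG
  let π : R →ₗ[GLin.invariants k H R] GLin.invariants k H R :=
    { toFun := fun r => ⟨TameAct.reynolds k H R R α r, reynolds_mem_fixedPts α hα r⟩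
      map_add' := fun a b => Subtype.ext (map_add _ a b)
      map_smul' := fun s r => Subtype.ext (by
        show TameAct.reynolds k H R R α ((s : R) * r) = (s : R) * TameAct.reynolds k H R R α r
        rw [mul_comm, ← smul_eq_mul, InvFinite.reynolds_smul_fixed α r s.2, smul_eq_mul, mul_comm]) }
  exact ⟨π, LinearMap.ext fun s => Subtype.ext (reynolds_fixed α h1 s.2)⟩

theorem hasSk (hG : HopfRep.IsLinearlyReductive k H) (r : ℕ) (hR : LocCoh.HasSk r R R) :
    LocCoh.HasSk r (GLin.invariants k H R) R ∧
      LocCoh.HasSk r (GLin.invariants k H R) (GLin.invariants k H R) := by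
  let S := GLin.invariants k H R
  haveI : IsNoetherianRing R := Algebra.FiniteType.isNoetherianRing k R
  haveI : IsNoetherianRing S := InvFinite.isNoetherianRing_invariants hG
  haveI : Module.Finite S R := finite_over_invariants k H R
  have hinj : Function.Injective (algebraMap S R) := Subtype.val_injective
  obtain ⟨π, hπ⟩ := exists_retraction k H R hG
  rw [FlatDepth.hasSk_iff] at hR
  have main : ∀ (p : Ideal S) [p.IsPrime], min (r : WithBot ℕ∞) (ringKrullDim (Localization.AtPrime p)) ≤
      ((LocCoh.depth (Localization.AtPrime p) (LocalizedModule p.primeCompl R) : ℕ∞) : WithBot ℕ∞) := by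
    intro p _
    let T := Localization (Algebra.algebraMapSubmonoid R p.primeCompl)
    letI : Algebra (Localization.AtPrime p) T := localizationAlgebra p.primeCompl R
    haveI : IsScalarTower S (Localization.AtPrime p) T := isScalarTower_localizationAlgebra p.primeCompl R
    haveI : IsNoetherianRing T := IsLocalization.isNoetherianRing (Algebra.algebraMapSubmonoid R p.primeCompl) T inferInstance
    haveI : IsLocalizedModule p.primeCompl (IsScalarTower.toAlgHom S R T).toLinearMap :=
      isLocalizedModule_iff_isLocalization.2 inferInstance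
    let e : LocalizedModule p.primeCompl R ≃ₗ[Localization.AtPrime p] T :=
      (IsLocalizedModule.iso p.primeCompl (IsScalarTower.toAlgHom S R T).toLinearMap).extendScalarsOfIsLocalization
        p.primeCompl (Localization.AtPrime p)
    haveI : Module.Finite (Localization.AtPrime p) T := Module.Finite.equiv e
    have hdepth : LocCoh.depth (Localization.AtPrime p) (LocalizedModule p.primeCompl R) =
        ⨅ (Q : PrimeSpectrum T) (_ : (IsLocalRing.maximalIdeal (Localization.AtPrime p)).map
            (algebraMap (Localization.AtPrime p) T) ≤ Q.asIdeal),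
          LocCoh.depth (Localization.AtPrime Q.asIdeal) (LocalizedModule Q.asIdeal.primeCompl T) := by
      rw [Depth.depth_congr e]
      show LocCoh.idealDepth _ _ = _
      rw [Groth.Agent.S14435.result (B := T) _ le_rfl T]
      exact Groth.Agent.S5152.result T _ T
    rw [hdepth]
    suffices ∀ (Q : PrimeSpectrum T), (IsLocalRing.maximalIdeal (Localization.AtPrime p)).map
        (algebraMap (Localization.AtPrime p) T) ≤ Q.asIdeal →
        min (r : WithBot ℕ∞) (ringKrullDim (Localization.AtPrime p)) ≤
          ((LocCoh.depth (Localization.AtPrime Q.asIdeal) (LocalizedModule Q.asIdeal.primeCompl T) : ℕ∞) : WithBot ℕ∞) by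
      rw [IsLocalization.AtPrime.ringKrullDim_eq_height p, show (r : WithBot ℕ∞) = ((r : ℕ∞) : WithBot ℕ∞) from rfl,
        ← WithBot.coe_min] at this ⊢
      exact WithBot.coe_le_coe.2 (le_iInf₂ fun Q hQ => WithBot.coe_le_coe.1 (this Q hQ))
    intro Q hQ
    let q := Q.asIdeal.comap (algebraMap R T)
    haveI : q.IsPrime := Ideal.IsPrime.comap _
    have hqp : q.under S = p := by
      have h1 : Q.asIdeal.comap (algebraMap (Localization.AtPrime p) T) = IsLocalRing.maximalIdeal _ :=
        ((IsLocalRing.maximalIdeal.isMaximal _).eq_of_le (Ideal.IsPrime.comap _).ne_top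
          (Ideal.map_le_iff_le_comap.1 hQ)).symm
      show (Q.asIdeal.comap (algebraMap R T)).comap (algebraMap S R) = p
      rw [Ideal.comap_comap, ← IsScalarTower.algebraMap_eq, IsScalarTower.algebraMap_eq S (Localization.AtPrime p) T,
        ← Ideal.comap_comap, h1]
      exact IsLocalization.AtPrime.under_maximalIdeal (Localization.AtPrime p) p
    haveI : IsLocalization.AtPrime (Localization.AtPrime Q.asIdeal) q :=
      IsLocalization.isLocalization_isLocalization_atPrime_isLocalization
        (Algebra.algebraMapSubmonoid R p.primeCompl) (Localization.AtPrime Q.asIdeal) Q.asIdeal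
    let eq : Localization.AtPrime q ≃+* Localization.AtPrime Q.asIdeal :=
      (IsLocalization.algEquiv q.primeCompl (Localization.AtPrime q) (Localization.AtPrime Q.asIdeal)).toRingEquiv
    obtain ⟨_, hq⟩ := FlatDepth.skLocal_of_ringEquiv eq (hR q)
    rw [Depth.depth_localizedSelf]
    refine le_trans ?_ hq
    refine min_le_min_left _ ?_
    rw [← ringKrullDim_eq_of_ringEquiv eq, IsLocalization.AtPrime.ringKrullDim_eq_height q (Localization.AtPrime q),
      IsLocalization.AtPrime.ringKrullDim_eq_height p (Localization.AtPrime p)]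
    refine WithBot.coe_le_coe.2 (ENat.forall_natCast_le_iff_le.1 fun n hn => ?_)
    haveI : Algebra.IsIntegral S R := inferInstance
    obtain ⟨q', hq', hq'p, hq'h⟩ := exists_height_le hinj p n hn
    exact hq'h.trans_eq (height_eq (k := k) (H := H) q' q (hq'p.trans hqp.symm))
  refine ⟨fun p hp => ?_, fun p hp => ?_⟩
  · refine le_trans (min_le_min_left _ ?_) (main p)
    exact Module.supportDim_le_ringKrullDim _ _
  · rw [Depth.supportDim_localizedSelf]
    refine (main p).trans (WithBot.coe_le_coe.2 ?_)
    let i : LocalizedModule p.primeCompl S →ₗ[Localization.AtPrime p] LocalizedModule p.primeCompl R :=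
      LocalizedModule.map p.primeCompl (Algebra.linearMap S R)
    let π' : LocalizedModule p.primeCompl R →ₗ[Localization.AtPrime p] LocalizedModule p.primeCompl S :=
      LocalizedModule.map p.primeCompl π
    haveI : Nontrivial (LocalizedModule p.primeCompl S) := (Depth.localizedSelfEquiv p).toEquiv.nontrivial
    refine depth_le_of_retract i π' (LinearMap.ext fun z => ?_)
    induction z using LocalizedModule.induction_on with
    | _ m s =>
      simp only [i, π', LinearMap.comp_apply, LocalizedModule.map, LinearMap.id_apply]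
      erw [IsLocalizedModule.map_LocalizedModules, IsLocalizedModule.map_LocalizedModules]
      rw [show π (Algebra.linearMap S R m) = m from LinearMap.congr_fun hπ m]

end Groth.Agent.Comodule.InvSk
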