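import Groth.Agent.Comodule.Trig
import Mathlib

/-! Groups of multiplicative type: cocommutative, trigonalizable, without primitive elements. -/

set_option autoImplicit false
universe u v w

open TensorProduct WithConv

noncomputable section

namespace Groth.Agent.Comodule

section Field

variable {k : Type u} [Field k] {A : Type v} [CommRing A] [HopfAlgebra k A]

theorem exists_dual_eq_one {V : Type w} [AddCommGroup V] [Module k V] {v : V} (hv : v ≠ 0) :
    ∃ φ : V →ₗ[k] k, φ v = 1 := by
  obtain ⟨ψ, hψ⟩ : ∃ ψ : V →ₗ[k] k, ψ v ≠ 0 := by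
    by_contra hc
    exact hv ((Module.forall_dual_apply_eq_zero_iff k v).mp fun ψ => not_not.mp fun h' => hc ⟨ψ, h'⟩)
  exact ⟨(ψ v)⁻¹ • ψ, inv_mul_cancel₀ hψ⟩

theorem groupLike_of_eigen {V : Type w} [AddCommGroup V] [Module k V] [HopfRep.Comod k A V] {v : V} (hv : v ≠ 0)
    {a : A} (h : HopfRep.Comod.coact (k := k) (A := A) v = v ⊗ₜ[k] a) : IsGroupLikeElem k a := by
  obtain ⟨φ, hφ⟩ := exists_dual_eq_one (k := k) hv
  have ha : coefMap (C := A) φ v = a := by rw [coefMap_apply, h, lcon_tmul, hφ, one_smul]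
  refine IsGroupLikeElem.mk ?_ ?_
  · rw [← ha, counit_coefMap, hφ]
  · have h1 := LinearMap.congr_fun (isComodHom_restrictScalars (coefMap (k := k) (C := A) φ)) v
    simp only [LinearMap.comp_apply, LinearMap.coe_restrictScalars, coact_regular, h, LinearMap.rTensor_tmul, ha] at h1
    exact h1

theorem eq_zero_of_skew [Coalgebra.IsCocomm k A]
    (hP : ∀ f : A, Coalgebra.comul (R := k) f = f ⊗ₜ[k] (1 : A) + (1 : A) ⊗ₜ[k] f → f = 0)
    {g h c : A} (hg : IsGroupLikeElem k g) (_hh : IsGroupLikeElem k h)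
    (hc : Coalgebra.comul (R := k) c = c ⊗ₜ[k] g + h ⊗ₜ[k] c) : ∃ t : k, c = t • (h - g) := by
  by_cases hgh : g = h
  · subst hgh
    refine ⟨0, ?_⟩
    rw [zero_smul]
    set gi := HopfAlgebra.antipode k g with hgi
    have hgl : IsGroupLikeElem k gi := hg.antipode
    have h1 : gi * g = 1 := hg.antipode_mul_cancel
    have h0 : gi * c = 0 := hP _ (by
      rw [Bialgebra.comul_mul, hgl.comul_eq_tmul_self, hc, mul_add, Algebra.TensorProduct.tmul_mul_tmul,
        Algebra.TensorProduct.tmul_mul_tmul, h1])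
    calc c = g * (gi * c) := by rw [← mul_assoc, mul_comm g, h1, one_mul]
      _ = 0 := by rw [h0, mul_zero]
  · have h1 := Coalgebra.comm_comul k c
    rw [hc, map_add, TensorProduct.comm_tmul, TensorProduct.comm_tmul] at h1
    have h2 : (g - h) ⊗ₜ[k] c = c ⊗ₜ[k] (g - h) := by
      rw [TensorProduct.sub_tmul, TensorProduct.tmul_sub, sub_eq_sub_iff_add_eq_add, h1]
    obtain ⟨ψ, hψ⟩ := exists_dual_eq_one (k := k) (sub_ne_zero.mpr hgh)
    have h3 := congrArg (lcon ψ) h2
    rw [lcon_tmul, lcon_tmul, hψ, one_smul] at h3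
    exact ⟨-ψ c, by rw [neg_smul, ← smul_neg, neg_sub]; exact h3⟩

/-- Cocommutative, trigonalizable and without primitive elements implies diagonalizable. -/
theorem diag_of_no_primitive [Coalgebra.IsCocomm k A] (hT : HopfRep.IsTrigonalizable k A)
    (hP : ∀ f : A, Coalgebra.comul (R := k) f = f ⊗ₜ[k] (1 : A) + (1 : A) ⊗ₜ[k] f → f = 0) :
    HopfRep.IsDiagonalizable k A := by
  refine diag_of_span_eigen fun V _ _ _ hfin => ?_
  set U := Submodule.span k {v : V | ∃ a : A, HopfRep.Comod.coact (k := k) (A := A) v = v ⊗ₜ[k] a} with hUdef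
  by_contra hne
  have hU : HopfRep.IsSubcomod (k := k) (A := A) U := by
    refine isSubcomod_iff.mpr fun f v hv => ?_
    induction hv using Submodule.span_induction with
    | zero => rw [smul_zero]; exact zero_mem _
    | add x y _ _ hx hy => rw [smul_add]; exact add_mem hx hy
    | smul c x _ hx => rw [smul_comm]; exact Submodule.smul_mem _ c hx
    | mem x hx =>
      obtain ⟨a, ha⟩ := hx
      rw [smul_def, dact, LinearMap.comp_apply, ha, rcon_tmul]
      exact Submodule.smul_mem _ _ (Submodule.subset_span ⟨a, ha⟩)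
  letI := quotComod U hU
  haveI : Nontrivial (V ⧸ U) := Submodule.Quotient.nontrivial_iff.mpr hne
  obtain ⟨L, -, hL⟩ := exists_simple_le (k := k) (C := A) (V := V ⧸ U)
    (N := (⊤ : Submodule (WithConv (A →ₗ[k] k)) (V ⧸ U))) top_ne_bot
  have hLsub := isSubcomod_restrictScalars (k := k) (C := A) L
  have hL1 : Module.finrank k (L.restrictScalars k) = 1 := by
    letI := subComod (L.restrictScalars k) hLsub
    haveI : IsSimpleModule (WithConv (A →ₗ[k] k)) (toDual (L.restrictScalars k) hLsub) := hL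
    refine hT (L.restrictScalars k) inferInstance (isSimpleComod_iff.mpr ?_)
    refine IsSimpleModule.congr (R := WithConv (A →ₗ[k] k)) (N := toDual (L.restrictScalars k) hLsub) ?_
    exact subEquiv _ _
  obtain ⟨q, hq, hq0⟩ := Submodule.exists_mem_ne_zero_of_ne_bot
    (show L.restrictScalars k ≠ ⊥ from fun h => by rw [h, finrank_bot] at hL1; exact zero_ne_one hL1)
  obtain ⟨φ, hφ⟩ := exists_dual_eq_one (k := k) hq0
  set g : A := coefMap (C := A) φ q with hgdef
  have hline : Submodule.span k {q} = L.restrictScalars k :=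
    Submodule.eq_of_le_of_finrank_le (Submodule.span_le.mpr (by simpa using hq))
      (by rw [hL1, finrank_span_singleton hq0])
  have hqg : HopfRep.Comod.coact (k := k) (A := A) q = q ⊗ₜ[k] g := by
    refine ext_rcon fun f => ?_
    obtain ⟨c, hc⟩ : ∃ c : k, c • q = rcon f (HopfRep.Comod.coact (k := k) (A := A) q) :=
      Submodule.mem_span_singleton.mp (hline.ge (L.smul_mem (toConv f) hq))
    have hφc : φ (rcon f (HopfRep.Comod.coact (k := k) (A := A) q)) = f g :=
      (eval_lcon' f φ _).symm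
    rw [← hc, map_smul, hφ, smul_eq_mul, mul_one] at hφc
    rw [rcon_tmul, ← hc, hφc]
  obtain ⟨v, rfl⟩ := Submodule.mkQ_surjective U q
  have hgl : IsGroupLikeElem k g := groupLike_of_eigen hq0 hqg
  obtain ⟨w, hws, hwspan, hwli⟩ := Submodule.exists_fun_fin_finrank_span_eq k
    {v : V | ∃ a : A, HopfRep.Comod.coact (k := k) (A := A) v = v ⊗ₜ[k] a}
  choose a ha using hws
  replace hwspan : Submodule.span k (Set.range w) = U := hwspan.trans hUdef.symm
  have hdiff : HopfRep.Comod.coact (k := k) (A := A) v - v ⊗ₜ[k] g ∈ LinearMap.range (U.subtype.rTensor A) := by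
    refine mem_range_rTensor_iff.mpr fun f => ?_
    have h1 : HopfRep.Comod.coact (k := k) (A := A) (U.mkQ v) =
        U.mkQ.rTensor A (HopfRep.Comod.coact (k := k) (A := A) v) := quotCoact_mk U hU v
    rw [← Submodule.Quotient.mk_eq_zero U, ← Submodule.mkQ_apply, map_sub, map_sub, ← rcon_rTensor, ← h1, hqg,
      rcon_tmul, rcon_tmul, map_smul, sub_self]
  obtain ⟨c, hc⟩ : ∃ c : Fin (Module.finrank k U) → A,
      HopfRep.Comod.coact (k := k) (A := A) v - v ⊗ₜ[k] g = ∑ i, w i ⊗ₜ[k] c i := by
    obtain ⟨z, hz⟩ := hdiff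
    rw [← hz]
    clear hz
    induction z with
    | zero => exact ⟨0, by simp⟩
    | add p q hp hq =>
      obtain ⟨cp, hcp⟩ := hp
      obtain ⟨cq, hcq⟩ := hq
      exact ⟨cp + cq, by simp [map_add, hcp, hcq, TensorProduct.tmul_add, Finset.sum_add_distrib]⟩
    | tmul p x =>
      obtain ⟨r, hr⟩ := (Submodule.mem_span_range_iff_exists_fun k).mp ((SetLike.ext_iff.mp hwspan _).mpr p.2)
      refine ⟨fun i => r i • x, ?_⟩
      rw [LinearMap.rTensor_tmul, Submodule.subtype_apply, ← hr, TensorProduct.sum_tmul]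
      exact Finset.sum_congr rfl fun i _ => (TensorProduct.smul_tmul _ _ _)
  have hvU : v ∉ Submodule.span k (Set.range w) := by
    rw [hwspan]
    exact fun h => hq0 ((Submodule.Quotient.mk_eq_zero U).mpr h)
  have hli : LinearIndependent k (Fin.cons v w : Fin (Module.finrank k U + 1) → V) :=
    linearIndependent_finCons.mpr ⟨hwli, hvU⟩
  have hψ : ∀ j, ∃ ψ : V →ₗ[k] k, ψ v = 0 ∧ ∀ i, ψ (w i) = if i = j then 1 else 0 := by
    intro j
    obtain ⟨ψ, hψ⟩ := LinearMap.exists_extend
      ((Module.Basis.span hli).coord (Fin.succ j))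
    refine ⟨ψ, ?_, fun i => ?_⟩
    · have h := LinearMap.congr_fun hψ (Module.Basis.span hli 0)
      rw [LinearMap.comp_apply, Module.Basis.coord_apply, Module.Basis.repr_self, Submodule.subtype_apply] at h
      simpa [Module.Basis.span_apply, Finsupp.single_apply, (Fin.succ_ne_zero j).symm] using h
    · have h := LinearMap.congr_fun hψ (Module.Basis.span hli (Fin.succ i))
      rw [LinearMap.comp_apply, Module.Basis.coord_apply, Module.Basis.repr_self, Submodule.subtype_apply] at h
      simpa [Module.Basis.span_apply, Finsupp.single_apply] using h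
  choose ψ hψv hψw using hψ
  have hwne : ∀ i, w i ≠ 0 := fun i => hwli.ne_zero i
  have hcoef : ∀ j, coefMap (C := A) (ψ j) v = c j := by
    intro j
    rw [coefMap_apply, eq_add_of_sub_eq' hc, map_add, lcon_tmul, hψv, zero_smul, zero_add, map_sum]
    simp [hψw]
  have hskew : ∀ j, Coalgebra.comul (R := k) (c j) = c j ⊗ₜ[k] g + a j ⊗ₜ[k] c j := by
    intro j
    have h1 := LinearMap.congr_fun (isComodHom_restrictScalars (coefMap (k := k) (C := A) (ψ j))) v
    simp only [LinearMap.comp_apply, LinearMap.coe_restrictScalars, coact_regular, eq_add_of_sub_eq' hc, map_add,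
      map_sum, LinearMap.rTensor_tmul, hcoef] at h1
    rw [h1]
    congr 1
    have h2 : ∀ i, coefMap (C := A) (ψ j) (w i) = if i = j then a i else 0 := fun i => by
      rw [coefMap_apply, ha, lcon_tmul, hψw]
      split_ifs <;> simp
    simp [h2, TensorProduct.ite_tmul]
  choose t ht using fun j => eq_zero_of_skew hP hgl (groupLike_of_eigen (hwne j) (ha j)) (hskew j)
  refine hvU ?_
  rw [hwspan]
  have hmem : v - ∑ i, t i • w i ∈ U := by
    refine Submodule.subset_span ⟨g, ?_⟩
    rw [map_sub, map_sum, eq_add_of_sub_eq' hc, TensorProduct.sub_tmul, TensorProduct.sum_tmul, add_sub_assoc,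
      sub_eq_add_neg (v ⊗ₜ[k] g), add_right_inj]
    rw [← Finset.sum_sub_distrib, ← Finset.sum_neg_distrib]
    refine Finset.sum_congr rfl fun i _ => ?_
    rw [map_smul, ha, ht, TensorProduct.tmul_smul, TensorProduct.tmul_sub, smul_sub, TensorProduct.smul_tmul',
      TensorProduct.smul_tmul']
    abel
  have h1 : ∑ i, t i • w i ∈ U := Submodule.sum_mem _ fun i _ => by
    rw [← hwspan]; exact Submodule.smul_mem _ _ (Submodule.subset_span ⟨i, rfl⟩)
  simpa using add_mem hmem h1

theorem isCocomm_of_diag (hD : HopfRep.IsDiagonalizable k A) : Coalgebra.IsCocomm k A := by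
  refine ⟨LinearMap.ext_on hD fun a ha => ?_⟩
  simp only [LinearMap.comp_apply, LinearEquiv.coe_coe]
  rw [IsGroupLikeElem.comul_eq_tmul_self ha, TensorProduct.comm_tmul]

theorem primitive_eq_zero_of_diag (hD : HopfRep.IsDiagonalizable k A) (f : A)
    (hf : Coalgebra.comul (R := k) f = f ⊗ₜ[k] (1 : A) + (1 : A) ⊗ₜ[k] f) : f = 0 := by
  classical
  have hli : LinearIndependent k (Subtype.val : {a : A // IsGroupLikeElem k a} → A) :=
    linearIndepOn_isGroupLikeElem (R := k) (A := A)
  let b := Module.Basis.mk hli (by rw [Subtype.range_coe_subtype]; exact hD.ge)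
  have hb : ∀ i, b i = i.1 := fun i => Module.Basis.mk_apply _ _ i
  let bb := b.tensorProduct b
  have key : ∀ (x : A) i, bb.repr (Coalgebra.comul (R := k) x) (i, i) = b.repr x i := by
    intro x i
    have h2 : (Finsupp.lapply (i, i) ∘ₗ bb.repr.toLinearMap ∘ₗ Coalgebra.comul (R := k)) =
        Finsupp.lapply i ∘ₗ b.repr.toLinearMap := b.ext fun j => by
      simp only [LinearMap.comp_apply, LinearEquiv.coe_coe, Finsupp.lapply_apply, Module.Basis.repr_self]
      rw [show Coalgebra.comul (R := k) (b j) = b j ⊗ₜ[k] b j by rw [hb]; exact j.2.comul_eq_tmul_self]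
      rw [Module.Basis.tensorProduct_repr_tmul_apply, Module.Basis.repr_self]
      simp [Finsupp.single_apply]
    exact LinearMap.congr_fun h2 x
  let i1 : {a : A // IsGroupLikeElem k a} := ⟨1, IsGroupLikeElem.one⟩
  have h1 : b.repr (1 : A) = Finsupp.single i1 1 := by rw [← b.repr_self, hb]
  refine b.repr.map_eq_zero_iff.mp (Finsupp.ext fun i => ?_)
  have h := key f i
  rw [hf, map_add, Finsupp.add_apply, Module.Basis.tensorProduct_repr_tmul_apply,
    Module.Basis.tensorProduct_repr_tmul_apply, h1, Finsupp.single_apply] at h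
  split_ifs at h with hi
  · simpa using h
  · simpa using h.symm

/-- A linearly reductive group has no primitive elements. -/
theorem primitive_eq_zero_of_linRed (h : HopfRep.IsLinearlyReductive k A) (f : A)
    (hf : Coalgebra.comul (R := k) f = f ⊗ₜ[k] (1 : A) + (1 : A) ⊗ₜ[k] f) : f = 0 := by
  by_contra hf0
  have hεf : Coalgebra.counit (R := k) f = 0 := by
    have h1 := lcon_counit_comul (k := k) f
    rw [hf, map_add, lcon_tmul, lcon_tmul, Bialgebra.counit_one, one_smul, add_eq_right] at h1
    have h2 := congrArg (Coalgebra.counit (R := k)) h1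
    simpa using h2
  let W : Submodule k A := Submodule.span k {(1 : A), f}
  have hW : HopfRep.IsSubcomod (k := k) (A := A) W := by
    refine isSubcomod_iff.mpr fun φ x hx => ?_
    obtain ⟨c, d, rfl⟩ := Submodule.mem_span_pair.mp hx
    rw [smul_def, dact, LinearMap.comp_apply, coact_regular, map_add, map_smul, map_smul, hf, Bialgebra.comul_one,
      Algebra.TensorProduct.one_def]
    simp only [map_add, map_smul, rcon_tmul]
    exact add_mem (Submodule.smul_mem _ _ (Submodule.smul_mem _ _ (Submodule.subset_span (by simp))))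
      (Submodule.smul_mem _ _ (add_mem (Submodule.smul_mem _ _ (Submodule.subset_span (by simp)))
        (Submodule.smul_mem _ _ (Submodule.subset_span (by simp)))))
  letI := subComod W hW
  haveI : Module.Finite k W := Module.Finite.iff_fg.mpr (Submodule.fg_span ((Set.finite_singleton f).insert 1))
  haveI : IsSemisimpleModule (WithConv (A →ₗ[k] k)) W := isSemisimpleComod_iff.mp (h W inferInstance)
  have hhom := isComodHom_iff.mp (isComodHom_subtype W hW)
  let o : W := ⟨1, Submodule.subset_span (by simp)⟩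
  let x : W := ⟨f, Submodule.subset_span (by simp)⟩
  let P : Submodule (WithConv (A →ₗ[k] k)) W := Submodule.span _ {o}
  have hfix : ∀ φ : WithConv (A →ₗ[k] k), φ • o = φ.ofConv 1 • o := fun φ => Subtype.ext (by
    refine (hhom φ o).trans ?_
    rw [smul_def, dact, LinearMap.comp_apply, coact_regular]
    show rcon φ.ofConv (Coalgebra.comul (R := k) (1 : A)) = _
    rw [Bialgebra.comul_one, Algebra.TensorProduct.one_def, rcon_tmul]
    rfl)
  obtain ⟨Q, hQ⟩ := exists_isCompl P
  obtain ⟨p, hp, q, hq, hpq⟩ := Submodule.mem_sup.mp (hQ.sup_eq_top ▸ Submodule.mem_top (x := x))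
  obtain ⟨c, rfl⟩ : ∃ c : k, c • o = p := by
    obtain ⟨φ, rfl⟩ := Submodule.mem_span_singleton.mp hp
    exact ⟨_, (hfix φ).symm⟩
  have hsm : ∀ φ : WithConv (A →ₗ[k] k), φ • x = φ.ofConv 1 • x + φ.ofConv f • o := fun φ => Subtype.ext (by
    refine (hhom φ x).trans ?_
    rw [smul_def, dact, LinearMap.comp_apply, coact_regular]
    show rcon φ.ofConv (Coalgebra.comul (R := k) f) = _
    rw [hf, map_add, rcon_tmul, rcon_tmul]
    rfl)
  obtain ⟨φ₀, hφ₀⟩ := exists_dual_eq_one (k := k) hf0
  set φ : WithConv (A →ₗ[k] k) := toConv φ₀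
  -- the complement is stable, so meets the fixed line
  have hqe : q = x - c • o := eq_sub_of_add_eq' hpq
  have hmem : φ • q - φ.ofConv 1 • q = o := by
    rw [hqe, smul_sub, show φ • (c • o) = c • (φ • o) from (dact (k := k) (C := A) (V := W) φ.ofConv).map_smul c o,
      hfix, hsm, smul_sub, show φ.ofConv f = 1 from hφ₀, one_smul, smul_comm c]
    abel
  have hoQ : o ∈ Q := hmem ▸ sub_mem (Q.smul_mem φ hq) (Q.smul_of_tower_mem _ hq)
  have ho : o = 0 := Submodule.disjoint_def.mp hQ.disjoint o (Submodule.mem_span_singleton_self o) hoQ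
  have : (1 : A) = 0 := congrArg Subtype.val ho
  exact hf0 (by rw [← one_mul f, this, zero_mul])

end Field

section BaseChange

variable {k A : Type u} [Field k] [CommRing A] [HopfAlgebra k A] (K : Type u) [Field K] [Algebra k K]

theorem comul_baseChange_eq (z : K ⊗[k] A) :
    Coalgebra.comul (R := K) z =
      TensorProduct.AlgebraTensorModule.distribBaseChange k K A A
        ((Coalgebra.comul (R := k) (A := A)).baseChange K z) := by
  induction z with
  | zero => simp
  | add p q hp hq => simp only [map_add, hp, hq]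
  | tmul s a =>
    rw [LinearMap.baseChange_tmul, TensorProduct.comul_tmul, show Coalgebra.comul (R := K) s = 1 ⊗ₜ[K] s from rfl]
    generalize Coalgebra.comul (R := k) a = y
    induction y with
    | zero => simp
    | add p q hp hq => simp only [TensorProduct.tmul_add, map_add, hp, hq]
    | tmul x b =>
      change ((1 : K) ⊗ₜ[k] x) ⊗ₜ[K] (s ⊗ₜ[k] b) = (s ⊗ₜ[k] x) ⊗ₜ[K] ((1 : K) ⊗ₜ[k] b)
      have e1 : s ⊗ₜ[k] x = s • ((1 : K) ⊗ₜ[k] x) := by rw [TensorProduct.smul_tmul', smul_eq_mul, mul_one]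
      have e2 : s ⊗ₜ[k] b = s • ((1 : K) ⊗ₜ[k] b) := by rw [TensorProduct.smul_tmul', smul_eq_mul, mul_one]
      rw [e1, e2, TensorProduct.smul_tmul, TensorProduct.tmul_smul]

theorem isCocomm_of_baseChange [Coalgebra.IsCocomm K (K ⊗[k] A)] : Coalgebra.IsCocomm k A := by
  refine ⟨LinearMap.ext fun a => ?_⟩
  simp only [LinearMap.comp_apply, LinearEquiv.coe_coe]
  have h := Coalgebra.comm_comul K ((1 : K) ⊗ₜ[k] a)
  rw [comul_baseChange_eq, LinearMap.baseChange_tmul] at h
  have e : ∀ y : A ⊗[k] A, TensorProduct.comm K (K ⊗[k] A) (K ⊗[k] A)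
      (TensorProduct.AlgebraTensorModule.distribBaseChange k K A A ((1 : K) ⊗ₜ[k] y)) =
      TensorProduct.AlgebraTensorModule.distribBaseChange k K A A ((1 : K) ⊗ₜ[k] TensorProduct.comm k A A y) := by
    intro y
    induction y with
    | zero => simp
    | add p q hp hq => simp only [TensorProduct.tmul_add, map_add, hp, hq]
    | tmul x b => rfl
  rw [e] at h
  have hinj : Function.Injective fun y : A ⊗[k] A => (1 : K) ⊗ₜ[k] y :=
    Algebra.TensorProduct.includeRight_injective (R := k) (A := K) (B := A ⊗[k] A) (RingHom.injective _)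
  exact hinj ((LinearEquiv.injective _) h)

theorem primitive_eq_zero_baseChange
    (hP : ∀ f : A, Coalgebra.comul (R := k) f = f ⊗ₜ[k] (1 : A) + (1 : A) ⊗ₜ[k] f → f = 0) (z : K ⊗[k] A)
    (hz : Coalgebra.comul (R := K) z = z ⊗ₜ[K] (1 : K ⊗[k] A) + (1 : K ⊗[k] A) ⊗ₜ[K] z) : z = 0 := by
  let L : A →ₗ[k] A ⊗[k] A := Coalgebra.comul (R := k) (A := A) -
    ((TensorProduct.mk k A A).flip 1 + TensorProduct.mk k A A 1)
  have hL : Function.Injective L := by
    refine (injective_iff_map_eq_zero L).mpr fun f hf => hP f ?_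
    rw [LinearMap.sub_apply, sub_eq_zero] at hf
    exact hf
  have key : TensorProduct.AlgebraTensorModule.distribBaseChange k K A A (L.baseChange K z) =
      Coalgebra.comul (R := K) z - (z ⊗ₜ[K] (1 : K ⊗[k] A) + (1 : K ⊗[k] A) ⊗ₜ[K] z) := by
    rw [LinearMap.baseChange_sub, LinearMap.sub_apply, map_sub, ← comul_baseChange_eq, LinearMap.baseChange_add,
      LinearMap.add_apply, map_add]
    congr 1
    clear hz
    induction z with
    | zero => simp
    | add p q hp hq => simp only [map_add, TensorProduct.add_tmul, TensorProduct.tmul_add]; rw [← add_assoc, add_add_add_comm, add_assoc, add_add_add_comm] at *; linear_combination (norm := abel) hp + hq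
    | tmul s a =>
      simp only [LinearMap.baseChange_tmul, LinearMap.flip_apply, TensorProduct.mk_apply]
      congr 1
      change (s ⊗ₜ[k] (1 : A)) ⊗ₜ[K] ((1 : K) ⊗ₜ[k] a) = ((1 : K) ⊗ₜ[k] (1 : A)) ⊗ₜ[K] (s ⊗ₜ[k] a)
      have e1 : s ⊗ₜ[k] (1 : A) = s • ((1 : K) ⊗ₜ[k] (1 : A)) := by
        rw [TensorProduct.smul_tmul', smul_eq_mul, mul_one]
      have e2 : s ⊗ₜ[k] a = s • ((1 : K) ⊗ₜ[k] a) := by rw [TensorProduct.smul_tmul', smul_eq_mul, mul_one]
      rw [e1, e2, TensorProduct.smul_tmul]
  rw [hz, sub_self, LinearEquiv.map_eq_zero_iff] at key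
  exact Module.Flat.lTensor_preserves_injective_linearMap L hL (key.trans (map_zero _).symm)

variable (k A)

theorem diag_algClosure_iff :
    HopfRep.IsDiagonalizable (AlgebraicClosure k) (AlgebraicClosure k ⊗[k] A) ↔
      Coalgebra.IsCocomm k A ∧
        ∀ f : A, Coalgebra.comul (R := k) f = f ⊗ₜ[k] (1 : A) + (1 : A) ⊗ₜ[k] f → f = 0 := by
  constructor
  · intro h
    haveI := isCocomm_of_diag h
    refine ⟨isCocomm_of_baseChange (AlgebraicClosure k), fun f hf => ?_⟩
    have h0 := primitive_eq_zero_of_diag h ((1 : AlgebraicClosure k) ⊗ₜ[k] f) (by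
      rw [comul_baseChange_eq, LinearMap.baseChange_tmul, hf, TensorProduct.tmul_add, map_add]
      rfl)
    exact Algebra.TensorProduct.includeRight_injective (R := k) (A := AlgebraicClosure k) (B := A)
      (RingHom.injective _) (h0.trans (map_zero _).symm)
  · rintro ⟨hc, hP⟩
    exact diag_of_no_primitive trig_of_cocomm (primitive_eq_zero_baseChange _ hP)

end BaseChange

section Semisimple

variable {k : Type u} [Field k] [IsAlgClosed k] {A : Type v} [CommRing A] [HopfAlgebra k A]

theorem act_isSemisimple_of_diag (hD : HopfRep.IsDiagonalizable k A) (g : A →ₐ[k] k) (V : Type v) [AddCommGroup V]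
    [Module k V] [HopfRep.Comod k A V] [Module.Finite k V] :
    Module.End.IsSemisimple (HopfRep.Comod.act k A V g) := by
  classical
  obtain ⟨w, hws, hwspan, -⟩ := Submodule.exists_fun_fin_finrank_span_eq k
    {v : V | ∃ a : A, HopfRep.Comod.coact (k := k) (A := A) v = v ⊗ₜ[k] a}
  choose a ha using hws
  replace hwspan : Submodule.span k (Set.range w) = ⊤ := hwspan.trans (span_eigen_eq_top hD V)
  set T := HopfRep.Comod.act k A V g
  have hT : ∀ i, T (w i) = g (a i) • w i := by
    intro i
    show (TensorProduct.rid k V) (g.toLinearMap.lTensor V (HopfRep.Comod.coact (k := k) (A := A) (w i))) = _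
    rw [ha, LinearMap.lTensor_tmul, TensorProduct.rid_tmul]
    rfl
  let S := Finset.univ.image fun i => g (a i)
  refine Module.End.isSemisimple_of_squarefree_aeval_eq_zero
    (p := ∏ c ∈ S, (Polynomial.X - Polynomial.C c)) ?_ ?_
  · exact (Polynomial.separable_prod_X_sub_C_iff'.mpr fun x _ y _ h => h).squarefree
  · refine LinearMap.ext_on hwspan ?_
    rintro _ ⟨i, rfl⟩
    have hmem : g (a i) ∈ S := Finset.mem_image_of_mem _ (Finset.mem_univ i)
    rw [← Finset.prod_erase_mul _ _ hmem, map_mul, Module.End.mul_apply, map_sub, Polynomial.aeval_X,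
      Polynomial.aeval_C, LinearMap.sub_apply, hT, Module.algebraMap_end_apply, sub_self, map_zero,
      LinearMap.zero_apply]

theorem diag_of_act_isSemisimple [Algebra.FiniteType k A] [Coalgebra.IsCocomm k A]
    (hsep : ∀ a : A, (∀ g : A →ₐ[k] k, g a = 0) → a = 0)
    (h : ∀ (g : A →ₐ[k] k) (V : Type v) [AddCommGroup V] [Module k V] [HopfRep.Comod k A V], Module.Finite k V →
      Module.End.IsSemisimple (HopfRep.Comod.act k A V g)) : HopfRep.IsDiagonalizable k A := by
  refine diag_of_span_eigen fun V _ _ _ hfin => ?_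
  let T : (A →ₐ[k] k) → Module.End k V := fun g => HopfRep.Comod.act k A V g
  have hTd : ∀ g v, T g v = (toConv g.toLinearMap : WithConv (A →ₗ[k] k)) • v := fun g v => rfl
  have hcomm : Pairwise fun g g' => Commute (T g) (T g') := fun g g' _ =>
    LinearMap.ext fun v => by
      show T g (T g' v) = T g' (T g v)
      rw [hTd, hTd, hTd, hTd, ← mul_smul, ← mul_smul, mul_comm]
  have htop := Module.End.iSup_iInf_maxGenEigenspace_eq_top_of_iSup_maxGenEigenspace_eq_top_of_commute T hcomm
    fun g => Module.End.iSup_maxGenEigenspace_eq_top _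
  refine eq_top_iff.mpr (htop ▸ iSup_le fun χ v hv => ?_)
  have hev : ∀ g, T g v = χ g • v := fun g => by
    have h1 := Submodule.mem_iInf _ |>.mp hv g
    rw [(h g V hfin).isFinitelySemisimple.maxGenEigenspace_eq_eigenspace] at h1
    exact Module.End.mem_eigenspace_iff.mp h1
  by_cases hv0 : v = 0
  · rw [hv0]; exact zero_mem _
  obtain ⟨φ, hφ⟩ := exists_dual_eq_one (k := k) hv0
  refine Submodule.subset_span ⟨coefMap (C := A) φ v, ext_lcon fun ψ => sub_eq_zero.mp (hsep _ fun g => ?_)⟩
  have e : ∀ (ψ : V →ₗ[k] k), g (lcon ψ (HopfRep.Comod.coact (k := k) (A := A) v)) = ψ (T g v) := fun ψ =>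
    eval_lcon' g.toLinearMap ψ _
  rw [map_sub, e, lcon_tmul, map_smul, hev, map_smul, coefMap_apply, e, hev, map_smul, hφ, smul_eq_mul, smul_eq_mul,
    smul_eq_mul, mul_one, mul_comm, sub_self]

end Semisimple

end Groth.Agent.Comodule
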