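import Groth.Agent.Comodule.StableLocus

/-! Invariants of a finite product of normal domains. -/

set_option autoImplicit false
set_option backward.isDefEq.respectTransparency false
universe u

open TensorProduct

noncomputable section

namespace Groth.Agent.Comodule.NormalInv

variable {k : Type u} [Field k] {H : Type u} [CommRing H] [HopfAlgebra k H]
  {S : Type u} [CommRing S] [Algebra k S] [HopfRep.Comod k H S] [GLin.IsCoactAlg k H S]

/-- A sub-idempotent of its translates is invariant. -/
theorem coact_eq_of_le {f : S}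
    (hle : HopfRep.Comod.coact (k := k) (A := H) f * (f ⊗ₜ[k] (1 : H)) = HopfRep.Comod.coact (k := k) (A := H) f) :
    HopfRep.Comod.coact (k := k) (A := H) f = f ⊗ₜ[k] (1 : H) := by
  let m : H ⊗[k] H →ₐ[k] H :=
    Algebra.TensorProduct.lift (AlgHom.id k H) (HopfAlgebra.antipodeAlgHom k H) fun _ _ => Commute.all _ _
  let Ψ : (S ⊗[k] H) ⊗[k] H →ₐ[k] S ⊗[k] H :=
    (Algebra.TensorProduct.map (AlgHom.id k S) m).comp (Algebra.TensorProduct.assoc k k k S H H).toAlgHom
  let c : S ⊗[k] H →ₐ[k] (S ⊗[k] H) ⊗[k] H := Algebra.TensorProduct.map (GLin.coactAlgHom k H S) (AlgHom.id k H)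
  have hm : ∀ a : H, m (Coalgebra.comul (R := k) a) = algebraMap k H (Coalgebra.counit (R := k) a) := by
    intro a
    rw [← HopfAlgebra.mul_antipode_lTensor_comul_apply (R := k) a]
    induction Coalgebra.comul (R := k) a with
    | zero => simp
    | add p q hp hq => simp only [map_add, hp, hq]
    | tmul p q => simp [m]
  have h1 : Ψ (c (HopfRep.Comod.coact (k := k) (A := H) f)) = f ⊗ₜ[k] (1 : H) := by
    have hc := LinearMap.congr_fun (HopfRep.Comod.coassoc (k := k) (A := H) (V := S)) f
    simp only [LinearMap.comp_apply, LinearEquiv.coe_coe] at hc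
    have e : ∀ z : S ⊗[k] H, Ψ (c z) = Algebra.TensorProduct.map (AlgHom.id k S) m
        (TensorProduct.assoc k S H H ((HopfRep.Comod.coact (k := k) (A := H)).rTensor H z)) := by
      intro z
      induction z with
      | zero => simp
      | add p q hp hq => simp only [map_add, hp, hq]
      | tmul p q => rfl
    rw [e, hc]
    have hu := LinearMap.congr_fun (HopfRep.Comod.counit_comp (k := k) (A := H) (V := S)) f
    simp only [LinearMap.comp_apply] at hu
    have e2 : ∀ z : S ⊗[k] H, Algebra.TensorProduct.map (AlgHom.id k S) m ((Coalgebra.comul (R := k)).lTensor S z) =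
        TensorProduct.rid k S ((Coalgebra.counit (R := k)).lTensor S z) ⊗ₜ[k] (1 : H) := by
      intro z
      induction z with
      | zero => simp
      | add p q hp hq => simp only [map_add, TensorProduct.add_tmul, hp, hq]
      | tmul p q => simp [hm, TensorProduct.smul_tmul, Algebra.algebraMap_eq_smul_one]
    rw [e2, hu]
    simp
  have h2 : Ψ (c (f ⊗ₜ[k] (1 : H))) = HopfRep.Comod.coact (k := k) (A := H) f := by
    show Algebra.TensorProduct.map (AlgHom.id k S) m (TensorProduct.assoc k S H H
      (HopfRep.Comod.coact (k := k) (A := H) f ⊗ₜ[k] (1 : H))) = _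
    generalize HopfRep.Comod.coact (k := k) (A := H) f = z
    induction z with
    | zero => simp
    | add p q hp hq => simp only [TensorProduct.add_tmul, map_add, hp, hq]
    | tmul p q => simp [m]
  have h := congrArg (fun z => Ψ (c z)) hle
  simp only [map_mul, h1, h2] at h
  rw [mul_comm] at h
  exact hle.symm.trans h

variable {ι : Type u} [Fintype ι] {D : ι → Type u} [∀ i, CommRing (D i)] [∀ i, IsDomain (D i)]
  (e : S ≃+* Π i, D i)

open scoped Classical in
/-- The idempotent of the complement of the support. -/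
def off (a : S) : S := e.symm fun i => if e a i = 0 then 1 else 0

theorem off_invariant {a : S} (ha : HopfRep.Comod.coact (k := k) (A := H) a = a ⊗ₜ[k] (1 : H)) :
    HopfRep.Comod.coact (k := k) (A := H) (off e a) = off e a ⊗ₜ[k] (1 : H) := by
  classical
  refine coact_eq_of_le ?_
  set f := off e a with hf
  have hfa : a * f = 0 := e.injective (funext fun i => by
    rw [map_mul, map_zero, Pi.mul_apply, hf, off, e.apply_symm_apply]
    split <;> simp [*])
  have hreg : IsLeftRegular (a + f) := by
    intro p q h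
    refine e.injective (funext fun i => ?_)
    have h' := congrFun (congrArg e h) i
    simp only [map_mul, map_add, Pi.mul_apply, Pi.add_apply, hf, off, e.apply_symm_apply] at h'
    split at h'
    · rename_i h0
      simpa [h0] using h'
    · rename_i h0
      exact mul_left_cancel₀ h0 (by simpa using h')
  have h0 : (a ⊗ₜ[k] (1 : H)) * HopfRep.Comod.coact (k := k) (A := H) f = 0 := by
    rw [← ha, ← GLin.IsCoactAlg.coact_mul, hfa, map_zero]
  have hff : f * f = f := e.injective (funext fun i => by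
    rw [map_mul, Pi.mul_apply, hf, off, e.apply_symm_apply]
    split <;> simp)
  refine StableLocus.isLeftRegular_tmul_one hreg ?_
  show ((a + f) ⊗ₜ[k] (1 : H)) * _ = ((a + f) ⊗ₜ[k] (1 : H)) * _
  rw [TensorProduct.add_tmul, add_mul, add_mul, ← mul_assoc, h0, zero_mul, zero_add, zero_add,
    mul_comm (HopfRep.Comod.coact (k := k) (A := H) f) (f ⊗ₜ[k] (1 : H)), ← mul_assoc,
    Algebra.TensorProduct.tmul_mul_tmul, hff, mul_one]

include e in
theorem exists_equiv [∀ i, IsIntegrallyClosed (D i)] (A : Subalgebra k S)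
    (hA : ∀ a : S, a ∈ A ↔ HopfRep.Comod.coact (k := k) (A := H) a = a ⊗ₜ[k] (1 : H)) :
    ∃ (κ : Type u) (_ : Fintype κ) (E : κ → Type u) (_ : ∀ j, CommRing (E j)) (_ : ∀ j, IsDomain (E j))
      (_ : ∀ j, IsIntegrallyClosed (E j)), Nonempty (A ≃+* Π j, E j) := by
  classical
  let π : ∀ i, A →+* D i := fun i => ((Pi.evalRingHom D i).comp e.toRingHom).comp A.val.toRingHom
  let P : ι → Ideal A := fun i => RingHom.ker (π i)
  haveI hP : ∀ i, (P i).IsPrime := fun i => RingHom.ker_isPrime _
  let κ := {Q : Ideal A // Q ∈ Finset.univ.image P}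
  haveI : Fintype κ := Finset.Subtype.fintype _
  let f : κ → Ideal A := Subtype.val
  have hmem : ∀ Q : κ, ∃ i, P i = f Q := fun Q => by simpa [f] using Finset.mem_image.1 Q.2
  have hf : Pairwise (Function.onFun IsCoprime f) := by
    intro Q Q' hne
    rw [Function.onFun, Ideal.isCoprime_iff_sup_eq]
    obtain ⟨i, hi⟩ := hmem Q
    obtain ⟨j, hj⟩ := hmem Q'
    have hone : ∀ i j, ∀ a ∈ P i, a ∉ P j → P i ⊔ P j = ⊤ := by
      intro i j a hai haj
      let o : A := ⟨off e (a : S), (hA _).2 (off_invariant e ((hA _).1 a.2))⟩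
      have h1 : o ∈ P j := by
        have : ¬ e (a : S) j = 0 := haj
        simp [P, π, o, off, this]
      have h2 : 1 - o ∈ P i := by
        have : e (a : S) i = 0 := hai
        simp [P, π, o, off, this]
      exact (Ideal.eq_top_iff_one _).2 (Submodule.mem_sup.2 ⟨_, h2, _, h1, by ring⟩)
    have hne' : P i ≠ P j := fun h => hne (Subtype.ext (show f Q = f Q' by rw [← hi, ← hj, h]))
    rw [← hi, ← hj]
    by_cases h : P i ≤ P j
    · obtain ⟨a, haj, hai⟩ := SetLike.exists_of_lt (lt_of_le_of_ne h hne')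
      rw [sup_comm]
      exact hone j i a haj hai
    · obtain ⟨a, hai, haj⟩ := SetLike.not_le_iff_exists.1 h
      exact hone i j a hai haj
  have hinf : ⨅ Q, f Q = ⊥ := by
    refine eq_bot_iff.2 fun a ha => (Submodule.mem_bot A).2 (Subtype.ext (e.injective (funext fun i => ?_)))
    have := (Submodule.mem_iInf f).1 ha ⟨P i, Finset.mem_image.2 ⟨i, Finset.mem_univ _, rfl⟩⟩
    simpa [f, P, π] using this
  let Φ : A ≃+* Π Q, A ⧸ f Q :=
    ((RingEquiv.quotientBot A).symm.trans (Ideal.quotEquivOfEq hinf.symm)).trans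
      (Ideal.quotientInfRingEquivPiQuotient f hf)
  have hΦ : ∀ a Q, Φ a Q = Ideal.Quotient.mk (f Q) a := fun a Q => rfl
  haveI hdom : ∀ Q : κ, IsDomain (A ⧸ f Q) := fun Q => by
    obtain ⟨i, hi⟩ := hmem Q
    haveI : (f Q).IsPrime := hi ▸ hP i
    infer_instance
  refine ⟨κ, inferInstance, fun Q => A ⧸ f Q, inferInstance, inferInstance, fun Q => ?_, ⟨Φ⟩⟩
  let K := FractionRing (A ⧸ f Q)
  rw [isIntegrallyClosed_iff K]
  intro x hx
  obtain ⟨a', b', hb', rfl⟩ := IsFractionRing.div_surjective (A ⧸ f Q) x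
  obtain ⟨a, rfl⟩ := Ideal.Quotient.mk_surjective a'
  obtain ⟨b, rfl⟩ := Ideal.Quotient.mk_surjective b'
  obtain ⟨ε, hε⟩ := Φ.surjective (Pi.single Q 1)
  have hε1 : ∀ i, P i = f Q → e (ε : S) i = 1 := fun i hi => by
    have h := congrFun hε Q
    rw [hΦ, Pi.single_eq_same, ← map_one (Ideal.Quotient.mk (f Q)), Ideal.Quotient.eq, ← hi, RingHom.mem_ker,
      map_sub, map_one, sub_eq_zero] at h
    exact h
  have hε0 : ∀ i, P i ≠ f Q → e (ε : S) i = 0 := fun i hi => by
    let Q' : κ := ⟨P i, Finset.mem_image.2 ⟨i, Finset.mem_univ _, rfl⟩⟩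
    have h := congrFun hε Q'
    rw [hΦ, Pi.single_eq_of_ne (fun h => hi (congrArg f h)), Ideal.Quotient.eq_zero_iff_mem] at h
    exact h
  have hbQ : ∀ i, P i = f Q → e (b : S) i ≠ 0 := fun i hi h => by
    refine (nonZeroDivisors.ne_zero hb') (Ideal.Quotient.eq_zero_iff_mem.2 ?_)
    rw [← hi]
    exact h
  have hex : ∀ i, ∃ t : D i, P i = f Q → e (b : S) i * t = e (a : S) i := by
    intro i
    by_cases hi : P i = f Q
    swap
    · exact ⟨0, fun h => absurd h hi⟩
    let L := FractionRing (D i)
    let θ : A ⧸ f Q →+* D i := Ideal.Quotient.lift (f Q) (π i) fun c hc => by rw [← hi] at hc; exact hc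
    have hθ : Function.Injective ((algebraMap (D i) L).comp θ) :=
      (IsFractionRing.injective (D i) L).comp (Ideal.injective_lift_iff (H := fun c hc => by
        rw [← hi] at hc; exact hc) |>.2 hi)
    let lift : K →+* L := IsFractionRing.lift hθ
    have hl : ∀ c, lift (algebraMap (A ⧸ f Q) K c) = algebraMap (D i) L (θ c) :=
      fun c => IsFractionRing.lift_algebraMap hθ c
    have hint : IsIntegral (D i) (lift (algebraMap (A ⧸ f Q) K (Ideal.Quotient.mk _ a) /
        algebraMap (A ⧸ f Q) K (Ideal.Quotient.mk _ b))) := by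
      obtain ⟨p, hp, hp0⟩ := hx
      refine ⟨p.map θ, hp.map θ, ?_⟩
      rw [Polynomial.eval₂_map, show (algebraMap (D i) L).comp θ = lift.comp (algebraMap (A ⧸ f Q) K) from
        RingHom.ext fun c => (hl c).symm, ← Polynomial.hom_eval₂, hp0, map_zero]
    obtain ⟨t, ht⟩ := IsIntegrallyClosed.isIntegral_iff.1 hint
    refine ⟨t, fun _ => IsFractionRing.injective (D i) L ?_⟩
    rw [map_div₀, hl, hl, show θ (Ideal.Quotient.mk _ a) = e (a : S) i from rfl,
      show θ (Ideal.Quotient.mk _ b) = e (b : S) i from rfl, eq_div_iff] at ht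
    · rw [map_mul, mul_comm]
      exact ht
    · exact fun h0 => hbQ i hi ((map_eq_zero_iff _ (IsFractionRing.injective (D i) L)).1 h0)
  choose t ht using hex
  let s : S := e.symm fun i => if P i = f Q then t i else 0
  have hbs : (b : S) * s = (a : S) * (ε : S) := e.injective (funext fun i => by
    simp only [map_mul, Pi.mul_apply, s, e.apply_symm_apply]
    by_cases hi : P i = f Q
    · rw [if_pos hi, ht i hi, hε1 i hi, mul_one]
    · rw [if_neg hi, hε0 i hi, mul_zero, mul_zero])
  have hsε : s * (ε : S) = s := e.injective (funext fun i => by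
    simp only [map_mul, Pi.mul_apply, s, e.apply_symm_apply]
    by_cases hi : P i = f Q
    · rw [hε1 i hi, mul_one]
    · rw [if_neg hi, zero_mul])
  let d : A := b * ε + (1 - ε)
  have hreg : IsLeftRegular (d : S) := by
    intro p q h
    refine e.injective (funext fun i => ?_)
    have h' := congrFun (congrArg e h) i
    simp only [d, map_mul, map_add, map_sub, map_one, Pi.mul_apply, Pi.add_apply, Pi.sub_apply, Pi.one_apply,
      AddMemClass.coe_add, MulMemClass.coe_mul, AddSubgroupClass.coe_sub, OneMemClass.coe_one] at h'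
    by_cases hi : P i = f Q
    · simpa [hε1 i hi, hbQ i hi] using h'
    · simpa [hε0 i hi] using h'
  have hds : (d : S) * s = (a : S) * (ε : S) := by
    simp only [d, AddMemClass.coe_add, MulMemClass.coe_mul, AddSubgroupClass.coe_sub, OneMemClass.coe_one]
    linear_combination hbs + ((b : S) - 1) * hsε
  have hsA : s ∈ A := by
    rw [hA]
    refine StableLocus.isLeftRegular_tmul_one (A := H) hreg ?_
    show ((d : S) ⊗ₜ[k] (1 : H)) * _ = ((d : S) ⊗ₜ[k] (1 : H)) * _
    conv_lhs => rw [← (hA _).1 d.2]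
    rw [← GLin.IsCoactAlg.coact_mul, hds, Algebra.TensorProduct.tmul_mul_tmul, one_mul, hds]
    exact (hA _).1 (mul_mem a.2 ε.2)
  refine ⟨Ideal.Quotient.mk (f Q) ⟨s, hsA⟩, ?_⟩
  rw [eq_div_iff (fun h0 => nonZeroDivisors.ne_zero hb' ((map_eq_zero_iff _ (IsFractionRing.injective _ K)).1 h0)),
    ← map_mul, ← map_mul]
  refine congrArg _ (Ideal.Quotient.eq.2 ?_)
  obtain ⟨i, hi⟩ := hmem Q
  rw [← hi, RingHom.mem_ker]
  show e ((s * (b : S)) - (a : S)) i = 0
  rw [mul_comm, hbs]
  simp [hε1 i hi]

end Groth.Agent.Comodule.NormalInv
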