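import Groth.Agent.Comodule.Reductive
import Groth.Agent.Comodule.Cosemi
import Groth.Agent.HopfFF.Coinv
import Groth.Prelude.Def_GLin
import Groth.Agent.S0389

/-!
A closed orbit is a faithfully flat quotient of the group; characters trivial on the stabiliser extend to
semi-invariants.
-/

set_option autoImplicit false
set_option backward.isDefEq.respectTransparency false
universe u

open TensorProduct WithConv

noncomputable section

namespace Groth.Agent.Comodule.OrbitFlat

variable {k : Type u} [Field k] {A : Type u} [CommRing A] [HopfAlgebra k A]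

section coideal

variable (B : Subalgebra k A)

/-- `B` is a right coideal. -/
def IsRightCoideal : Prop :=
  ∀ b ∈ B, Coalgebra.comul (R := k) b ∈ LinearMap.range (B.val.toLinearMap.rTensor A)

/-- Translation by a point. -/
def tr (g : A →ₐ[k] k) : A →ₐ[k] A :=
  ((Algebra.TensorProduct.rid k k A).toAlgHom.comp (Algebra.TensorProduct.map (AlgHom.id k A) g)).comp
    (Bialgebra.comulAlgHom k A)

theorem tr_mem (hB : IsRightCoideal B) (g : A →ₐ[k] k) {b : A} (hb : b ∈ B) : tr g b ∈ B := by
  obtain ⟨z, hz⟩ := hB b hb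
  simp only [tr, AlgHom.comp_apply, Bialgebra.comulAlgHom_apply, ← hz]
  clear hz
  induction z with
  | zero => simp
  | add x y hx hy => simp only [map_add]; exact B.add_mem hx hy
  | tmul x y => simp; exact B.smul_mem x.2 _

theorem comp_tr (q g : A →ₐ[k] k) : q.comp (tr g) = (toConv q * toConv g).ofConv := by
  refine AlgHom.ext fun a => ?_
  rw [AlgHom.convMul_apply]
  simp only [tr, AlgHom.comp_apply, Bialgebra.comulAlgHom_apply]
  induction Coalgebra.comul (R := k) a with
  | zero => simp
  | add x y hx hy => simp only [map_add, hx, hy]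
  | tmul x y => simp [mul_comm]

variable [IsAlgClosed k] [Algebra.FiniteType k A]

theorem exists_point_of_isMaximal (q : Ideal A) [q.IsMaximal] : ∃ h : A →ₐ[k] k, RingHom.ker h.toRingHom = q := by
  letI : Field (A ⧸ q) := Ideal.Quotient.field q
  haveI : Module.Finite k (A ⧸ q) := finite_of_finite_type_of_isJacobsonRing k (A ⧸ q)
  let e : k ≃ₐ[k] A ⧸ q := AlgEquiv.ofBijective (Algebra.ofId k (A ⧸ q)) IsAlgClosed.algebraMap_bijective_of_isIntegral
  refine ⟨e.symm.toAlgHom.comp (Ideal.Quotient.mkₐ k q), ?_⟩
  ext a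
  simp [Ideal.Quotient.eq_zero_iff_mem]

variable [IsDomain A]

theorem exists_point_ne_zero {b : A} (hb : b ≠ 0) : ∃ h : A →ₐ[k] k, h b ≠ 0 := by
  haveI : IsJacobsonRing A := isJacobsonRing_of_finiteType (A := k)
  have h0 : (⊥ : Ideal A).jacobson = ⊥ := IsJacobsonRing.out inferInstance Ideal.isPrime_bot.isRadical
  have : b ∉ (⊥ : Ideal A).jacobson := by rw [h0]; simpa using hb
  rw [Ideal.jacobson, Ideal.mem_sInf] at this
  push Not at this
  obtain ⟨q, ⟨-, hq⟩, hbq⟩ := this
  haveI := hq
  obtain ⟨h, hh⟩ := exists_point_of_isMaximal (k := k) q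
  exact ⟨h, fun e => hbq (hh ▸ (RingHom.mem_ker.2 e))⟩

theorem inv_conv (g : A →ₐ[k] k) :
    toConv g * toConv (g.comp (HopfAlgebra.antipodeAlgHom k A)) = 1 ∧
      toConv (g.comp (HopfAlgebra.antipodeAlgHom k A)) * toConv g = 1 :=
  ⟨HopfFF.comp_antipode_right g, HopfFF.comp_antipode_left g⟩

theorem tr_tr_inv (g g' : A →ₐ[k] k) (h : toConv g * toConv g' = 1) (a : A) : tr g (tr g' a) = a := by
  classical
  have key : ∀ q : A →ₐ[k] k, q (tr g (tr g' a)) = q a := fun q => by
    change ((q.comp (tr g)).comp (tr g')) a = q a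
    rw [comp_tr, comp_tr, WithConv.toConv_ofConv, mul_assoc, h, mul_one]
  by_contra hne
  obtain ⟨q, hq⟩ := exists_point_ne_zero (k := k) (sub_ne_zero.2 hne)
  exact hq (by rw [map_sub, key, sub_self])

/-- Translation as an automorphism. -/
def trEquiv (g : A →ₐ[k] k) : A ≃ₐ[k] A :=
  AlgEquiv.ofAlgHom (tr g) (tr (g.comp (HopfAlgebra.antipodeAlgHom k A)))
    (AlgHom.ext fun a => tr_tr_inv g _ (inv_conv g).1 a)
    (AlgHom.ext fun a => tr_tr_inv _ g (inv_conv g).2 a)

theorem flat_of_isRightCoideal [Algebra.FiniteType B A] (hB : IsRightCoideal B) : Module.Flat B A := by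
  classical
  obtain ⟨f, hf, hfree, -⟩ := Groth.Agent.S0389.result (R := B) (S := A) (M := A)
  have hf' : (f : A) ≠ 0 := fun h => hf (Subtype.ext h)
  -- flatness of the localisation at `f`
  letI : Algebra (Localization.Away f) (Localization.Away (algebraMap B A f)) :=
    (Localization.awayMap (algebraMap B A) f).toAlgebra
  haveI : IsScalarTower B (Localization.Away f) (Localization.Away (algebraMap B A f)) :=
    IsScalarTower.of_algebraMap_eq fun b => by
      rw [IsScalarTower.algebraMap_apply B A (Localization.Away (algebraMap B A f))]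
      change _ = Localization.awayMap (algebraMap B A) f (algebraMap B (Localization.Away f) b)
      exact (IsLocalization.map_eq _ b).symm
  haveI : IsLocalization (Algebra.algebraMapSubmonoid A (Submonoid.powers f))
      (Localization.Away (algebraMap B A f)) := by
    rw [Algebra.algebraMapSubmonoid_powers]; infer_instance
  haveI : Algebra.IsPushout B (Localization.Away f) A (Localization.Away (algebraMap B A f)) :=
    (Algebra.isPushout_of_isLocalization (Submonoid.powers f) (Localization.Away f) A _).symm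
  haveI := hfree
  haveI : Module.Flat (Localization.Away f) (Localization.Away f ⊗[B] A) := Module.Flat.of_free
  haveI : Module.Flat (Localization.Away f) (Localization.Away (algebraMap B A f)) :=
    Module.Flat.of_linearEquiv (Algebra.IsPushout.equiv B (Localization.Away f) A
      (Localization.Away (algebraMap B A f))).toLinearEquiv.symm
  have hflat : Module.Flat B (Localization.Away (algebraMap B A f)) :=
    Module.Flat.trans B (Localization.Away f) _
  let s : Set A := Set.range fun g : A →ₐ[k] k => tr g (f : A)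
  have hspan : Ideal.span s = ⊤ := by
    by_contra hne
    obtain ⟨q, hq, hle⟩ := Ideal.exists_le_maximal _ hne
    haveI := hq
    obtain ⟨h, hh⟩ := exists_point_of_isMaximal (k := k) q
    obtain ⟨h₀, hh₀⟩ := exists_point_ne_zero (k := k) hf'
    let g := (toConv (h.comp (HopfAlgebra.antipodeAlgHom k A)) * toConv h₀).ofConv
    have : h (tr g (f : A)) = 0 := by
      have := hle (Ideal.subset_span (⟨g, rfl⟩ : tr g (f : A) ∈ s))
      rw [← hh] at this
      exact this
    change (h.comp (tr g)) (f : A) = 0 at this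
    rw [comp_tr, WithConv.toConv_ofConv, ← mul_assoc, (inv_conv h).1, one_mul] at this
    exact hh₀ this
  refine Module.flat_of_isLocalized_span (R := B) (S := A) (M := A) s hspan (fun r : s => Localization.Away (r : A))
    (fun r : s => Algebra.linearMap A (Localization.Away (r : A))) ?_
  rintro ⟨_, g, rfl⟩
  let τ := trEquiv g
  let g' := g.comp (HopfAlgebra.antipodeAlgHom k A)
  let τB : B →+* B := ((tr g').toRingHom.comp B.val.toRingHom).codRestrict B fun b => tr_mem B hB g' b.2
  have hτB : Function.Bijective τB := by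
    refine ⟨fun a b hab => Subtype.ext (τ.symm.injective (congrArg Subtype.val hab)), fun b => ?_⟩
    exact ⟨⟨tr g (b : A), tr_mem B hB g b.2⟩, Subtype.ext (tr_tr_inv g' g (inv_conv g).2 b)⟩
  let e : Localization.Away (algebraMap B A f) ≃+* Localization.Away (tr g (f : A)) :=
    IsLocalization.ringEquivOfRingEquiv (Localization.Away (algebraMap B A f)) (Localization.Away (tr g (f : A)))
      (M := Submonoid.powers (algebraMap B A f)) (T := Submonoid.powers (tr g (f : A))) τ.toRingEquiv
      (Submonoid.map_powers _ _)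
  rw [← RingHom.flat_algebraMap_iff]
  have he : algebraMap B (Localization.Away (tr g (f : A))) =
      (e.toRingHom.comp (algebraMap B (Localization.Away (algebraMap B A f)))).comp τB := by
    ext b
    simp only [RingHom.comp_apply, IsScalarTower.algebraMap_apply B A (Localization.Away (algebraMap B A f)),
      IsScalarTower.algebraMap_apply B A (Localization.Away (tr g (f : A)))]
    change _ = e (algebraMap A _ (tr g' (b : A)))
    rw [IsLocalization.ringEquivOfRingEquiv_eq]
    congr 1
    exact (tr_tr_inv g g' (inv_conv g).1 b).symm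
  rw [he]
  exact (RingHom.Flat.of_bijective hτB).comp
    ((RingHom.flat_algebraMap_iff.2 hflat).comp (RingHom.Flat.of_bijective e.bijective))

end coideal

section character

variable [IsAlgClosed k] [IsDomain A] [Algebra.FiniteType k A]
  {R : Type u} [CommRing R] [Algebra k R] [HopfRep.Comod k A R] [GLin.IsCoactAlg k A R]

theorem orbit_comul (x : R →ₐ[k] k) (f : R) :
    Coalgebra.comul (R := k) (GLin.orbitHom k A x f) =
      (GLin.orbitHom k A x).toLinearMap.rTensor A (HopfRep.Comod.coact (k := k) (A := A) f) := by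
  have h := LinearMap.congr_fun (isComodHom_restrictScalars (coefMap (C := A) x.toLinearMap)) f
  simp only [LinearMap.comp_apply, coact_regular, LinearMap.coe_restrictScalars] at h
  have e : ∀ r, GLin.orbitHom k A x r = coefMap (C := A) x.toLinearMap r := fun r => by
    rw [coefMap_apply]
    simp only [GLin.orbitHom, AlgHom.comp_apply, GLin.coactAlgHom_apply]
    induction HopfRep.Comod.coact (k := k) (A := A) r with
    | zero => simp
    | add a b ha hb => simp only [map_add, ha, hb]
    | tmul a b => simp
  rw [e, h]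
  congr 2

theorem counit_orbit (x : R →ₐ[k] k) (f : R) : Coalgebra.counit (R := k) (GLin.orbitHom k A x f) = x f := by
  have e : GLin.orbitHom k A x f = coefMap (C := A) x.toLinearMap f := by
    rw [coefMap_apply]
    simp only [GLin.orbitHom, AlgHom.comp_apply, GLin.coactAlgHom_apply]
    induction HopfRep.Comod.coact (k := k) (A := A) f with
    | zero => simp
    | add a b ha hb => simp only [map_add, ha, hb]
    | tmul a b => simp
  rw [e, counit_coefMap]
  rfl

variable [Algebra.FiniteType k R]

theorem mem_range_orbitHom (x : R →ₐ[k] k) (hx : GLin.IsClosedOrbit k A x) {χ : A} (hχ : IsGroupLikeElem k χ)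
    (hstab : χ - 1 ∈ GLin.stabIdeal k A x) : χ ∈ (GLin.orbitHom k A x).range := by
  let o := GLin.orbitHom k A x
  let B := o.range
  have hco : IsRightCoideal B := by
    rintro _ ⟨f, rfl⟩
    refine ⟨o.rangeRestrict.toLinearMap.rTensor A (HopfRep.Comod.coact (k := k) (A := A) f), ?_⟩
    rw [← LinearMap.rTensor_comp_apply]
    exact (orbit_comul x f).symm
  haveI : Algebra.FiniteType B A := Algebra.FiniteType.of_restrictScalars_finiteType k B A
  haveI : Module.Flat B A := flat_of_isRightCoideal B hco
  haveI : Module.FaithfullyFlat B A := by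
    refine Module.FaithfullyFlat.of_comap_surjective fun p => ?_
    have hP : PrimeSpectrum.comap o.rangeRestrict.toRingHom p ∈ closure (Set.range (PrimeSpectrum.comap o.toRingHom)) := by
      rw [PrimeSpectrum.closure_range_comap]
      intro a ha
      have : o.rangeRestrict a = 0 := Subtype.ext (RingHom.mem_ker.1 ha)
      show o.rangeRestrict a ∈ p.asIdeal
      rw [this]; exact p.asIdeal.zero_mem
    rw [IsClosed.closure_eq hx] at hP
    obtain ⟨q, hq⟩ := hP
    refine ⟨q, PrimeSpectrum.comap_injective_of_surjective _ o.rangeRestrict_surjective ?_⟩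
    rw [← hq]
    exact PrimeSpectrum.ext rfl
  -- the twisting map kills the stabiliser ideal
  have htw : ∀ b ∈ B, HopfFF.twistL B b = algebraMap k (A ⊗[B] A) (Coalgebra.counit (R := k) b) := by
    intro b hb
    obtain ⟨z, hz⟩ := hco b hb
    have h0 := HopfAlgebra.mul_antipode_lTensor_comul_apply (R := k) b
    rw [← hz] at h0
    rw [← (HopfFF.inB₂ B).commutes, ← h0, HopfFF.twistL, AlgHom.convMul_apply,
      show Coalgebra.comul (R := k) b = _ from hz.symm]
    clear h0 hz
    induction z with
    | zero => simp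
    | add p q hp hq => simp only [map_add, hp, hq]
    | tmul p q => simp [HopfFF.inB₁, HopfFF.inB₂, HopfFF.move']
  have hker : GLin.stabIdeal k A x ≤ RingHom.ker (HopfFF.twistL B).toRingHom := by
    rw [GLin.stabIdeal, Ideal.map_le_iff_le_comap]
    intro f hf
    rw [Ideal.mem_comap, RingHom.mem_ker]
    change HopfFF.twistL B (o f) = 0
    rw [htw (o f) ⟨f, rfl⟩, counit_orbit, show x f = 0 from hf, map_zero]
  have h1 := hker hstab
  rw [RingHom.mem_ker, AlgHom.toRingHom_eq_coe, RingHom.coe_coe, map_sub, map_one, sub_eq_zero] at h1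
  rw [HopfFF.twistL, AlgHom.convMul_apply, hχ.comul_eq_tmul_self] at h1
  simp only [Algebra.TensorProduct.lift_tmul, Algebra.TensorProduct.lmul'_apply_tmul, WithConv.ofConv_toConv,
    AlgHom.comp_apply, HopfAlgebra.antipodeAlgHom_apply] at h1
  have h2 : χ ⊗ₜ[B] (1 : A) = (1 : A) ⊗ₜ[B] χ := by
    have hS : HopfAlgebra.antipode k χ * χ = 1 := by
      have := HopfAlgebra.mul_antipode_rTensor_comul_apply (R := k) χ
      rw [hχ.comul_eq_tmul_self, LinearMap.rTensor_tmul, LinearMap.mul'_apply, hχ.counit_eq_one, map_one] at this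
      exact this
    calc χ ⊗ₜ[B] (1 : A) = HopfFF.inB₁ B χ * HopfFF.inB₂ B (HopfAlgebra.antipode k χ * χ) := by
          rw [hS, map_one, mul_one]; rfl
      _ = _ := by rw [map_mul, ← mul_assoc, h1, one_mul]; rfl
  let π := (Subalgebra.toSubmodule (⊥ : Subalgebra B A)).mkQ
  have h3 := congrArg (π.rTensor A) h2
  rw [LinearMap.rTensor_tmul, LinearMap.rTensor_tmul, show π 1 = 0 from
    (Submodule.Quotient.mk_eq_zero _).2 (Subalgebra.one_mem _), TensorProduct.zero_tmul] at h3
  have h4 : π χ = 0 := Module.FaithfullyFlat.tensorProduct_mk_injective (A := B) (B := A) _ (by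
    have := congrArg (TensorProduct.comm B _ _) h3
    simpa using this)
  obtain ⟨b, hb⟩ := Algebra.mem_bot.1 ((Submodule.Quotient.mk_eq_zero _).1 h4)
  exact hb ▸ b.2

/-- A weight vector of weight `χ` with nonzero value at `x`. -/
theorem exists_weightVector (hG : HopfRep.IsLinearlyReductive k A) (x : R →ₐ[k] k) (hx : GLin.IsClosedOrbit k A x)
    {χ : A} (hχ : IsGroupLikeElem k χ) (hstab : χ - 1 ∈ GLin.stabIdeal k A x) :
    ∃ h : R, HopfRep.Comod.coact (k := k) (A := A) h = h ⊗ₜ[k] χ ∧ x h = 1 := by
  obtain ⟨r, hr⟩ := mem_range_orbitHom x hx hχ hstab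
  have hhom : Hoch.IsComodHom A (GLin.orbitHom k A x).toLinearMap := LinearMap.ext fun f => orbit_comul x f
  let φ := toDualHom (GLin.orbitHom k A x).toLinearMap hhom
  haveI := isSemisimpleModule_of_linRed hG R
  obtain ⟨Q, hQ⟩ := exists_isCompl (LinearMap.ker φ)
  obtain ⟨y, hy, h, hh, rfl⟩ := Submodule.mem_sup.1 (hQ.sup_eq_top.ge (Submodule.mem_top : r ∈ ⊤))
  have hφh : φ h = χ := by
    rw [← hr]
    change φ h = φ (y + h)
    rw [map_add, LinearMap.mem_ker.1 hy, zero_add]
  refine ⟨h, ?_, ?_⟩
  · have hw : ∀ g : WithConv (A →ₗ[k] k), g • h = g.ofConv χ • h := fun g => by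
      refine sub_eq_zero.1 (Submodule.disjoint_def.1 hQ.disjoint _ (LinearMap.mem_ker.2 ?_)
        (Q.sub_mem (Q.smul_mem g hh) (Submodule.smul_of_tower_mem Q _ hh)))
      rw [map_sub, map_smul, LinearMap.map_smul_of_tower, hφh, sub_eq_zero, smul_def]
      simp [dact, coact_regular, hχ.comul_eq_tmul_self, rcon]
    suffices ∀ z : R ⊗[k] A, (∀ g : A →ₗ[k] k, rcon g z = 0) → z = 0 by
      refine sub_eq_zero.1 (this _ fun g => ?_)
      rw [map_sub, sub_eq_zero]
      have := hw (toConv g)
      rw [smul_def] at this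
      simpa [dact, rcon] using this
    intro z hz
    let b := Module.Free.chooseBasis k A
    refine (TensorProduct.equivFinsuppOfBasisRight b).injective (Finsupp.ext fun i => ?_)
    rw [map_zero, Finsupp.zero_apply, ← hz (b.coord i)]
    clear hz
    induction z with
    | zero => simp
    | add p q hp hq => simp only [map_add, Finsupp.add_apply, hp, hq]
    | tmul p q => simp [rcon, TensorProduct.equivFinsuppOfBasisRight_apply_tmul_apply]
  · have := counit_orbit (A := A) x h
    rw [show GLin.orbitHom k A x h = χ from hφh, hχ.counit_eq_one] at this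
    exact this.symm

theorem exists_invariants_character (hG : HopfRep.IsLinearlyReductive k A) {χ : A} (hχ : IsGroupLikeElem k χ) :
    ∃ E : Set R, E ⊆ GLin.invariants k A R ∧
      ∀ x : R →ₐ[k] k, GLin.IsClosedOrbit k A x →
        (χ - 1 ∈ GLin.stabIdeal k A x ↔ ∃ f ∈ E, x f ≠ 0) := by
  let χ' := HopfAlgebra.antipode k χ
  have hS : χ * χ' = 1 := by
    have := HopfAlgebra.mul_antipode_lTensor_comul_apply (R := k) χ
    rw [hχ.comul_eq_tmul_self, LinearMap.lTensor_tmul, LinearMap.mul'_apply, hχ.counit_eq_one, map_one] at this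
    exact this
  have hχ' : IsGroupLikeElem k χ' := by
    constructor
    · simp [χ', hχ.counit_eq_one]
    · simp [χ', comul_antipode, hχ.comul_eq_tmul_self]
  refine ⟨{f | ∃ h h' : R, HopfRep.Comod.coact (k := k) (A := A) h = h ⊗ₜ[k] χ ∧
    HopfRep.Comod.coact (k := k) (A := A) h' = h' ⊗ₜ[k] χ' ∧ f = h * h'}, ?_, fun x hx => ⟨fun hst => ?_, ?_⟩⟩
  · rintro _ ⟨h, h', e, e', rfl⟩
    rw [SetLike.mem_coe, GLin.mem_invariants_iff, GLin.IsCoactAlg.coact_mul, e, e',
      Algebra.TensorProduct.tmul_mul_tmul, hS]
  · have hst' : χ' - 1 ∈ GLin.stabIdeal k A x := by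
      have e : χ' - 1 = -(χ' * (χ - 1)) := by linear_combination hS
      rw [e]
      exact (GLin.stabIdeal k A x).neg_mem (Ideal.mul_mem_left _ _ hst)
    obtain ⟨h, e, e1⟩ := exists_weightVector hG x hx hχ hst
    obtain ⟨h', e', e1'⟩ := exists_weightVector hG x hx hχ' hst'
    exact ⟨_, ⟨h, h', e, e', rfl⟩, by simp [e1, e1']⟩
  · rintro ⟨_, ⟨h, h', e, -, rfl⟩, hf⟩
    have hxh : x h ≠ 0 := fun h0 => hf (by simp [h0])
    have hm : GLin.orbitHom k A x (h - algebraMap k R (x h)) ∈ GLin.stabIdeal k A x :=
      Ideal.mem_map_of_mem _ (RingHom.mem_ker.2 (by simp))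
    have e2 : GLin.orbitHom k A x h = algebraMap k A (x h) * χ := by
      simp [GLin.orbitHom, e, Algebra.smul_def]
    rw [map_sub, AlgHom.commutes, e2, ← mul_sub_one] at hm
    exact (Ideal.unit_mul_mem_iff_mem _ ((isUnit_iff_ne_zero.2 hxh).map (algebraMap k A))).1 hm

end character

end Groth.Agent.Comodule.OrbitFlat
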