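import Groth.Agent.Comodule.UnipotentDual
import Groth.Agent.HopfFF.Coinv

/-! Unipotence and primitive elements. -/

set_option autoImplicit false
universe u v

open TensorProduct WithConv

noncomputable section

namespace Groth.Agent.Comodule

section Bi

variable {k : Type u} [Field k] {A : Type v} [CommRing A] [Bialgebra k A]

theorem fil_map {A' : Type v} [CommRing A'] [Bialgebra k A'] (π : A →ₐc[k] A') :
    ∀ {n : ℕ} {a : A}, a ∈ fil k A A n → π a ∈ fil k A' A' n := by
  intro n
  induction n with
  | zero =>
    intro a ha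
    rw [fil_zero, Submodule.mem_bot] at ha ⊢
    rw [ha, map_zero]
  | succ n ih =>
    intro a ha
    refine mem_fil_succ.mpr fun f hf => ?_
    set F : A →ₗ[k] A' := π.toLinearMap with hF
    have hF1 : F 1 = 1 := map_one π
    have h1 : f • π a = F (toConv (f.ofConv ∘ₗ F) • a) := by
      rw [smul_def, smul_def, dact, dact, LinearMap.comp_apply, LinearMap.comp_apply, coact_regular, coact_regular]
      have h2 : TensorProduct.map F F (Coalgebra.comul (R := k) a) = Coalgebra.comul (R := k) (π a) :=
        CoalgHomClass.map_comp_comul_apply π a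
      rw [← h2]
      clear h2
      induction Coalgebra.comul (R := k) a with
      | zero => simp
      | add p q hp hq => simp only [map_add, hp, hq]
      | tmul p q => simp [rcon]
    rw [h1]
    exact ih (mem_fil_succ.mp ha _ (by rw [ofConv_toConv, LinearMap.comp_apply, hF1]; exact hf))

theorem mem_fil_one_iff {a : A} : a ∈ fil k A A 1 ↔ ∃ c : k, c • (1 : A) = a := by
  rw [fil_one, fixedPts_regular, Submodule.mem_span_singleton]

theorem exists_primitive_of_fil : ∀ {n : ℕ} {a : A}, a ∈ fil k A A n → a ∉ fil k A A 1 →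
    ∃ x : A, x ≠ 0 ∧ Coalgebra.comul (R := k) x = x ⊗ₜ[k] (1 : A) + (1 : A) ⊗ₜ[k] x := by
  intro n
  induction n with
  | zero =>
    intro a ha hna
    exact absurd (fil_mono (Nat.zero_le 1) ha) hna
  | succ n ih =>
    intro a ha hna
    by_cases h : ∀ f : WithConv (A →ₗ[k] k), f.ofConv 1 = 0 → f • a ∈ fil k A A 1
    · have h2 : a ∈ fil k A A 2 := mem_fil_succ.mpr h
      set x : A := a - Coalgebra.counit (R := k) a • (1 : A) with hx
      have hxm : x ∈ fil k A A 2 :=
        Submodule.sub_mem _ h2 (fil_mono (show 1 ≤ 2 by omega) (mem_fil_one_iff.mpr ⟨_, rfl⟩))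
      have hε : Coalgebra.counit (R := k) x = 0 := by
        rw [hx, map_sub, map_smul, Bialgebra.counit_one, smul_eq_mul, mul_one, sub_self]
      refine ⟨x, fun h0 => hna (mem_fil_one_iff.mpr ⟨_, (sub_eq_zero.mp h0).symm⟩), ?_⟩
      obtain ⟨u, w, huw⟩ : ∃ u w : A, Coalgebra.comul (R := k) x = (1 : A) ⊗ₜ[k] u + w ⊗ₜ[k] (1 : A) := by
        suffices H : (⨆ i ∈ Finset.range 2, LinearMap.range
            (TensorProduct.mapIncl (fil k A A (i + 1)) (fil k A A (2 - i)))) ≤
            LinearMap.range ((TensorProduct.mk k A A 1).coprod ((TensorProduct.mk k A A).flip 1)) by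
          obtain ⟨⟨u, w⟩, h'⟩ := H (comul_mem_fil hxm)
          exact ⟨u, w, h'.symm⟩
        refine iSup₂_le fun i hi => ?_
        rintro _ ⟨z, rfl⟩
        induction z with
        | zero => simp only [map_zero]; exact Submodule.zero_mem _
        | add p q hp hq => simp only [map_add]; exact Submodule.add_mem _ hp hq
        | tmul p q =>
          have hi' := Finset.mem_range.mp hi
          rcases Nat.lt_or_ge i 1 with hi0 | hi0
          · obtain ⟨c, hc⟩ := mem_fil_one_iff.mp (fil_mono (show i + 1 ≤ 1 by omega) p.2)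
            refine ⟨(c • (q : A), 0), ?_⟩
            simp [TensorProduct.mapIncl, ← hc, TensorProduct.smul_tmul]
          · obtain ⟨c, hc⟩ := mem_fil_one_iff.mp (fil_mono (show 2 - i ≤ 1 by omega) q.2)
            refine ⟨(0, c • (p : A)), ?_⟩
            simp [TensorProduct.mapIncl, ← hc, TensorProduct.smul_tmul]
      have e1 : x = u + Coalgebra.counit (R := k) w • (1 : A) := by
        have := lcon_counit_comul (k := k) x
        rw [huw] at this
        simpa [lcon] using this.symm
      have e2 : x = Coalgebra.counit (R := k) u • (1 : A) + w := by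
        have := congrArg (TensorProduct.rid k A) (Coalgebra.lTensor_counit_comul (R := k) x)
        rw [huw] at this
        simpa using this.symm
      have e3 : Coalgebra.counit (R := k) u + Coalgebra.counit (R := k) w = 0 := by
        have := congrArg (Coalgebra.counit (R := k)) e1
        simpa [hε] using this.symm
      have hu : u = x - Coalgebra.counit (R := k) w • (1 : A) := eq_sub_of_add_eq e1.symm
      have hw : w = x - Coalgebra.counit (R := k) u • (1 : A) := eq_sub_of_add_eq' e2.symm
      have e4 : Coalgebra.counit (R := k) w • ((1 : A) ⊗ₜ[k] (1 : A)) +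
          Coalgebra.counit (R := k) u • ((1 : A) ⊗ₜ[k] (1 : A)) = 0 := by
        rw [← add_smul, add_comm, e3, zero_smul]
      generalize Coalgebra.counit (R := k) u = cu at hw e4
      generalize Coalgebra.counit (R := k) w = cw at hu e4
      rw [huw, hu, hw, TensorProduct.tmul_sub, TensorProduct.sub_tmul, TensorProduct.tmul_smul, ← TensorProduct.smul_tmul']
      linear_combination (norm := module) -(1 : k) • e4
    · push Not at h
      obtain ⟨f, hf, hfa⟩ := h
      exact ih (mem_fil_succ.mp ha f hf) hfa

theorem pow_mem_fil {x : A} (hx : Coalgebra.comul (R := k) x = x ⊗ₜ[k] (1 : A) + (1 : A) ⊗ₜ[k] x) (m : ℕ) :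
    x ^ m ∈ fil k A A (m + 1) := by
  induction m using Nat.strong_induction_on with
  | _ m ih =>
    refine mem_fil_succ.mpr fun f hf => ?_
    rw [smul_def, dact, LinearMap.comp_apply, coact_regular, Bialgebra.comul_pow, hx, add_pow, map_sum]
    refine Submodule.sum_mem _ fun i hi => ?_
    rw [Algebra.TensorProduct.tmul_pow, Algebra.TensorProduct.tmul_pow, Algebra.TensorProduct.tmul_mul_tmul,
      one_pow, one_pow, mul_one, one_mul, ← Nat.cast_comm, ← nsmul_eq_mul, map_nsmul]
    refine Submodule.smul_of_tower_mem _ _ ?_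
    rcases Nat.lt_or_ge i m with hlt | hge
    · simpa [rcon] using Submodule.smul_mem _ (f.ofConv (x ^ (m - i))) (fil_mono (show i + 1 ≤ m by omega) (ih i hlt))
    · simp [rcon, Nat.sub_eq_zero_of_le hge, hf]

theorem exists_le_fil {P : Submodule k A} [Module.Finite k P] (h : ∀ a ∈ P, ∃ n, a ∈ fil k A A n) :
    ∃ m, P ≤ fil k A A m := by
  classical
  obtain ⟨t, ht⟩ := Module.Finite.fg_top (R := k) (M := P)
  choose N hN using fun p : P => h p p.2
  refine ⟨t.sup N, fun a ha => ?_⟩
  have hle : Submodule.span k (t : Set P) ≤ (fil k A A (t.sup N)).comap P.subtype :=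
    Submodule.span_le.mpr fun p hp => fil_mono (Finset.le_sup hp) (hN p)
  rw [ht] at hle
  exact hle (show (⟨a, ha⟩ : P) ∈ ⊤ from trivial)

end Bi

variable {k : Type u} [Field k]

theorem isHopfIdeal_ker {A : Type v} [CommRing A] [HopfAlgebra k A] {C : Type v} [CommRing C] [HopfAlgebra k C]
    (f : A →ₐc[k] C) (hf : Function.Surjective f) : (RingHom.ker f).IsHopfIdeal k := by
  set F : A →ₗ[k] C := f.toLinearMap with hF
  set I : Submodule k A := (RingHom.ker f).restrictScalars k with hI
  obtain ⟨s, hs⟩ := F.exists_rightInverse_of_surjective (LinearMap.range_eq_top.mpr hf)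
  have hσ : (I.mkQ ∘ₗ s) ∘ₗ F = I.mkQ := LinearMap.ext fun a => by
    simp only [LinearMap.comp_apply, Submodule.mkQ_apply, Submodule.Quotient.eq]
    show f (s (F a) - a) = 0
    rw [map_sub, sub_eq_zero]
    exact LinearMap.congr_fun hs (F a)
  have hsub : I.IsCoideal := by
    refine ⟨fun x hx => ?_, fun x hx => ?_⟩
    · rw [← CoalgHomClass.counit_comp_apply f x, show f x = 0 from hx, map_zero]
    · rw [← hσ, TensorProduct.map_comp, LinearMap.comp_apply,
        show TensorProduct.map F F (Coalgebra.comul (R := k) x) = Coalgebra.comul (R := k) (f x) from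
          CoalgHomClass.map_comp_comul_apply f x, show f x = 0 from hx, map_zero, map_zero]
  exact { hsub with
    antipode_mem := fun x hx => by
      show f (HopfAlgebra.antipode k x) = 0
      rw [HopfFF.map_antipode' f x, show f x = 0 from hx, map_zero] }

section Primitive

variable {A : Type v} [CommRing A] [HopfAlgebra k A] {x : A}
  (hx : Coalgebra.comul (R := k) x = x ⊗ₜ[k] (1 : A) + (1 : A) ⊗ₜ[k] x)

include hx in
theorem counit_primitive : Coalgebra.counit (R := k) x = 0 := by
  have h := congrArg (Coalgebra.counit (R := k)) (lcon_counit_comul (k := k) x)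
  rw [hx] at h
  simpa [lcon] using h

include hx in
theorem antipode_primitive : HopfAlgebra.antipode k x = -x := by
  have h := HopfAlgebra.mul_antipode_rTensor_comul_apply (R := k) x
  rw [hx, counit_primitive hx] at h
  simpa [HopfAlgebra.antipode_one, add_eq_zero_iff_eq_neg] using h

include hx in
theorem isHopfIdeal_span_primitive : (Ideal.span {x}).IsHopfIdeal k := by
  have hsub : ((Ideal.span {x}).restrictScalars k).IsCoideal := by
    refine ⟨fun y hy => ?_, fun y hy => ?_⟩
    · obtain ⟨c, rfl⟩ := Ideal.mem_span_singleton'.mp hy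
      rw [Bialgebra.counit_mul, counit_primitive hx, mul_zero]
    · obtain ⟨c, rfl⟩ := Ideal.mem_span_singleton'.mp hy
      rw [Bialgebra.comul_mul, hx]
      have hq : ((Ideal.span {x}).restrictScalars k).mkQ = (Ideal.Quotient.mkₐ k (Ideal.span {x})).toLinearMap := rfl
      rw [hq]
      show Algebra.TensorProduct.map (Ideal.Quotient.mkₐ k (Ideal.span {x})) (Ideal.Quotient.mkₐ k (Ideal.span {x})) _ = 0
      rw [map_mul, map_add, Algebra.TensorProduct.map_tmul, Algebra.TensorProduct.map_tmul]
      have h0 : Ideal.Quotient.mkₐ k (Ideal.span {x}) x = 0 :=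
        Ideal.Quotient.eq_zero_iff_mem.mpr (Ideal.mem_span_singleton_self x)
      rw [h0, TensorProduct.zero_tmul, TensorProduct.tmul_zero, add_zero, mul_zero]
  exact { hsub with
    antipode_mem := fun y hy => by
      obtain ⟨c, rfl⟩ := Ideal.mem_span_singleton'.mp hy
      rw [HopfAlgebra.antipode_mul, antipode_primitive hx, Ideal.mem_span_singleton']
      exact ⟨-HopfAlgebra.antipode k c, by ring⟩ }

include hx in
theorem isHopfSub_adjoin : HopfFF.IsHopfSub (Algebra.adjoin k {x}) := by
  set B := Algebra.adjoin k {x} with hB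
  have hxB : x ∈ B := Algebra.subset_adjoin rfl
  refine ⟨fun b hb => ?_, fun b hb => ?_⟩
  · have h1 : B ≤ ((Algebra.TensorProduct.map B.val B.val).range).comap (Bialgebra.comulAlgHom k A) := by
      rw [hB, Algebra.adjoin_le_iff, Set.singleton_subset_iff]
      refine ⟨⟨x, hxB⟩ ⊗ₜ[k] 1 + 1 ⊗ₜ[k] ⟨x, hxB⟩, ?_⟩
      simp [hx]
    obtain ⟨z, hz⟩ := h1 hb
    exact ⟨z, hz⟩
  · have h1 : B ≤ B.comap (HopfAlgebra.antipodeAlgHom k A) := by
      rw [hB, Algebra.adjoin_le_iff, Set.singleton_subset_iff]
      show HopfAlgebra.antipode k x ∈ Algebra.adjoin k {x}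
      rw [antipode_primitive hx]
      exact neg_mem hxB
    exact h1 hb

include hx in
theorem unipotent_of_kernel (hN : ∀ a : A ⧸ Ideal.span {x}, haveI := isHopfIdeal_span_primitive hx;
      ∃ n, a ∈ fil k (A ⧸ Ideal.span {x}) (A ⧸ Ideal.span {x}) n) :
    ∀ a : A, ∃ n, a ∈ fil k A A n := by
  haveI := isHopfIdeal_span_primitive hx
  set π : A →ₐ[k] A ⧸ Ideal.span {x} := Ideal.Quotient.mkₐ k (Ideal.span {x}) with hπ
  let U : Submodule k A := ⨆ n, fil k A A n
  have hU : ∀ a, a ∈ U ↔ ∃ n, a ∈ fil k A A n := fun a =>
    Submodule.mem_iSup_of_directed _ fil_mono.directed_le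
  have hB : ∀ b ∈ Algebra.adjoin k {x}, b ∈ U := by
    intro b hb
    rw [Algebra.adjoin_singleton_eq_range_aeval] at hb
    obtain ⟨p, rfl⟩ := hb
    show Polynomial.aeval x p ∈ U
    induction p using Polynomial.induction_on' with
    | add p q hp hq => rw [map_add]; exact U.add_mem hp hq
    | monomial n c =>
      rw [Polynomial.aeval_monomial, ← Algebra.smul_def]
      exact U.smul_mem c ((hU _).mpr ⟨n + 1, pow_mem_fil hx n⟩)
  let T : WithConv ((A ⧸ Ideal.span {x}) →ₗ[k] k) → (A →ₗ[k] A) := fun h =>
    (coefMap (k := k) (C := A) (V := A) (h.ofConv ∘ₗ π.toLinearMap)).restrictScalars k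
  have hTcomm : ∀ h (f : WithConv (A →ₗ[k] k)) a, T h (f • a) = f • T h a := fun h f a =>
    (coefMap (k := k) (C := A) (V := A) (h.ofConv ∘ₗ π.toLinearMap)).map_smul f a
  have hT : ∀ h a, T h a = lcon (h.ofConv ∘ₗ π.toLinearMap) (Coalgebra.comul (R := k) a) := fun h a => rfl
  have hfin : ∀ a : A, ∃ s : Finset A, ∀ φ : A →ₗ[k] k,
      lcon φ (Coalgebra.comul (R := k) a) ∈ Submodule.span k (s : Set A) := by
    intro a
    obtain ⟨S, hS⟩ := TensorProduct.exists_finset (Coalgebra.comul (R := k) a)
    classical
    refine ⟨S.image Prod.snd, fun φ => ?_⟩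
    rw [hS, map_sum]
    refine Submodule.sum_mem _ fun p hp => ?_
    simp only [lcon_tmul]
    exact Submodule.smul_mem _ _ (Submodule.subset_span (Finset.mem_image_of_mem _ hp))
  -- if all first derivatives lie in `U` then so does the element
  have hS1 : ∀ a : A, (∀ g, g.ofConv 1 = 0 → T g a ∈ U) → a ∈ U := by
    intro a ha
    obtain ⟨s, hs⟩ := hfin a
    haveI : Module.Finite k (Submodule.span k (s : Set A)) := Module.Finite.span_of_finite k s.finite_toSet
    let R : Submodule k A := Submodule.span k {y | ∃ g, g.ofConv 1 = 0 ∧ T g a = y}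
    have hR : R ≤ U := Submodule.span_le.mpr (by rintro _ ⟨g, hg, rfl⟩; exact ha g hg)
    have hRs : R ≤ Submodule.span k (s : Set A) := Submodule.span_le.mpr (by rintro _ ⟨g, -, rfl⟩; exact hs _)
    haveI : Module.Finite k R := Submodule.finiteDimensional_of_le hRs
    obtain ⟨m, hm⟩ : ∃ m, R ≤ fil k A A m := exists_le_fil fun r hr => (hU r).mp (hR hr)
    let W : Submodule k A := (Submodule.span (WithConv (A →ₗ[k] k)) {a}).restrictScalars k
    haveI : Module.Finite k W := finite_span_singleton a
    haveI : Module.Finite k (W ⊓ Subalgebra.toSubmodule (Algebra.adjoin k {x}) : Submodule k A) :=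
      Submodule.finiteDimensional_of_le inf_le_left
    obtain ⟨M, hM⟩ : ∃ M, W ⊓ Subalgebra.toSubmodule (Algebra.adjoin k {x}) ≤ fil k A A M :=
      exists_le_fil fun r hr => (hU r).mp (hB r hr.2)
    have key : ∀ j, ∀ v ∈ W, (∀ g, g.ofConv 1 = 0 → T g v ∈ fil k A A j) → v ∈ fil k A A (j + M) := by
      intro j
      induction j with
      | zero =>
        intro v hv h0
        rw [Nat.zero_add]
        refine hM ⟨hv, ?_⟩
        refine HopfFF.mem_of_left_coinv (isHopfSub_adjoin hx) (I := Ideal.span {x}) ?_ ?_
        · exact Ideal.span_mono (Set.singleton_subset_iff.mpr ⟨Algebra.subset_adjoin rfl, counit_primitive hx⟩)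
        · refine ext_lcon fun h => ?_
          set g : WithConv ((A ⧸ Ideal.span {x}) →ₗ[k] k) :=
            toConv h - h 1 • (1 : WithConv ((A ⧸ Ideal.span {x}) →ₗ[k] k)) with hg
          have h1 := h0 g (by simp [hg, LinearMap.convOne_def, Bialgebra.counit_one])
          rw [fil_zero, Submodule.mem_bot, hT] at h1
          have h2 : ∀ y : A ⊗[k] A, lcon (g.ofConv ∘ₗ π.toLinearMap) y =
              lcon h (π.toLinearMap.rTensor A y) -
                h 1 • lcon (Coalgebra.counit (R := k) (A := A)) y := by
            intro y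
            induction y with
            | zero => simp
            | add p q hp hq => simp only [map_add, hp, hq, smul_add]; abel
            | tmul p q =>
              simp [hg, lcon, LinearMap.convOne_def, sub_smul, smul_smul, hπ]
          rw [h2, lcon_counit_comul, sub_eq_zero] at h1
          rw [h1]
          simp [lcon]
      | succ j ih =>
        intro v hv hv'
        rw [Nat.succ_add]
        refine mem_fil_succ.mpr fun f hf => ih _ ?_ fun g hg => ?_
        · exact isSubcomod_iff.mp (isSubcomod_restrictScalars _) f v hv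
        · rw [hTcomm]
          exact mem_fil_succ.mp (hv' g hg) f hf
    exact (hU a).mpr ⟨m + M, key m a (Submodule.subset_span rfl) fun g hg => hm (Submodule.subset_span ⟨g, hg, rfl⟩)⟩
  have hQ : ∀ n, ∀ a : A, (∀ h, Van n h → T h a = 0) → a ∈ U := by
    intro n
    induction n with
    | zero =>
      intro a ha
      have h1 := ha 1 (van_zero _)
      rw [hT] at h1
      have h2 : (1 : WithConv ((A ⧸ Ideal.span {x}) →ₗ[k] k)).ofConv ∘ₗ π.toLinearMap =
          Coalgebra.counit (R := k) (A := A) := LinearMap.ext fun y => by simp [LinearMap.convOne_def, hπ]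
      rw [h2, lcon_counit_comul] at h1
      rw [h1]
      exact U.zero_mem
    | succ n ih =>
      intro a ha
      refine hS1 a fun g hg => ih _ fun h hh => ?_
      have hgh : Van (n + 1) (g * h) := Nat.add_comm 1 n ▸ (van_one_iff.mpr hg).mul hh
      have h3 := ha (g * h) hgh
      rw [hT] at h3
      show T h (T g a) = 0
      rw [hT, hT, ← h3]
      -- composition of left translations
      have h4 : ∀ φ ψ : A →ₗ[k] k, lcon ψ (Coalgebra.comul (R := k) (lcon φ (Coalgebra.comul (R := k) a))) =
          lcon (toConv φ * toConv ψ).ofConv (Coalgebra.comul (R := k) a) := by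
        intro φ ψ
        have hc := Coalgebra.coassoc_apply (R := k) a
        have e1 : ∀ y : A ⊗[k] A, lcon ψ (Coalgebra.comul (R := k) (lcon φ y)) =
            lcon φ ((lcon ψ).lTensor A (Coalgebra.comul.lTensor A y)) := by
          intro y
          induction y with
          | zero => simp
          | add p q hp hq => simp only [map_add, hp, hq]
          | tmul p q => simp [lcon]
        have e2 : ∀ z : (A ⊗[k] A) ⊗[k] A, lcon φ ((lcon ψ).lTensor A (TensorProduct.assoc k A A A z)) =
            lcon (LinearMap.mul' k k ∘ₗ TensorProduct.map φ ψ) z := by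
          intro z
          induction z with
          | zero => simp
          | add p q hp hq => simp only [map_add, hp, hq]
          | tmul p q =>
            induction p with
            | zero => simp
            | add p p' hp hp' => simp only [TensorProduct.add_tmul, map_add, hp, hp']
            | tmul p r => simp [lcon, smul_smul, mul_comm]
        rw [e1, ← hc, e2, lcon_rTensor]
        rfl
      rw [h4]
      congr 1
      refine congrArg lcon ?_
      have h5 := LinearMap.convMul_comp_coalgHom_distrib g h
        ((Bialgebra.Quotient.mkBialgHom (R := k) (Ideal.span {x})).toCoalgHom)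
      exact h5.symm
  intro a
  obtain ⟨S, hS⟩ := TensorProduct.exists_finset (Coalgebra.comul (R := k) a)
  choose N hN using fun p : A × A => hN (π p.1)
  refine (hU a).mp (hQ (S.sup N) a fun h hh => ?_)
  rw [hT, hS, map_sum]
  refine Finset.sum_eq_zero fun p hp => ?_
  simp [lcon, hh _ (fil_mono (Finset.le_sup hp) (hN p))]

end Primitive

end Groth.Agent.Comodule
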