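import Groth.Agent.Comodule.Tame
import Mathlib

/-! The Reynolds map of a total integral on relative Hopf modules. -/

set_option autoImplicit false
universe u v w w' w''

open TensorProduct WithConv

noncomputable section

namespace Groth.Agent.Comodule

variable {k : Type u} [CommRing k] {A : Type v} [CommRing A] [HopfAlgebra k A]
variable {B : Type w} [CommRing B] [Algebra k B] [HopfRep.Comod k A B]
variable {M : Type w'} [AddCommGroup M] [Module k M] [Module B M] [IsScalarTower k B M] [HopfRep.Comod k A M]

theorem comul_antipode_mul_eq (a : A) :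
    Algebra.TensorProduct.lift
        ((Algebra.TensorProduct.includeRight : A →ₐ[k] A ⊗[k] A))
        ((Bialgebra.comulAlgHom k A).comp (HopfAlgebra.antipodeAlgHom k A))
        (fun _ _ => Commute.all _ _) (Coalgebra.comul (R := k) a) =
      HopfAlgebra.antipode k a ⊗ₜ[k] (1 : A) := by
  let jL : A →ₐ[k] A ⊗[k] A := Algebra.TensorProduct.includeLeft
  let jR : A →ₐ[k] A ⊗[k] A := Algebra.TensorProduct.includeRight
  let S := HopfAlgebra.antipodeAlgHom k A
  have e : toConv ((Bialgebra.comulAlgHom k A).comp S) = toConv (jR.comp S) * toConv (jL.comp S) := by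
    refine WithConv.ofConv_injective (AlgHom.ext fun a => ?_)
    rw [AlgHom.convMul_apply]
    simp only [AlgHom.comp_apply, Bialgebra.comulAlgHom_apply, ofConv_toConv, S, HopfAlgebra.antipodeAlgHom_apply,
      comul_antipode]
    generalize Coalgebra.comul (R := k) a = z
    induction z with
    | zero => simp
    | add p q hp hq => simp only [map_add, hp, hq]
    | tmul x y => simp [jL, jR, Algebra.TensorProduct.tmul_mul_tmul]
  have h : toConv jR * toConv ((Bialgebra.comulAlgHom k A).comp S) = toConv (jL.comp S) := by
    rw [e]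
    exact (mul_assoc (G := WithConv (A →ₐ[k] A ⊗[k] A)) (toConv jR) (toConv (jR.comp S)) (toConv (jL.comp S))).symm.trans
      ((congrArg (fun z => z * toConv (jL.comp S)) (mul_comp_antipode jR)).trans
        (one_mul (M := WithConv (A →ₐ[k] A ⊗[k] A)) (toConv (jL.comp S))))
  have h2 := DFunLike.congr_fun (congrArg WithConv.ofConv h) a
  rw [AlgHom.convMul_apply] at h2
  refine Eq.trans ?_ h2
  induction Coalgebra.comul (R := k) a with
  | zero => simp
  | add p q hp hq => simp only [map_add, hp, hq]
  | tmul x y => simp [jR, S]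

theorem reynolds_mem_fixedPts (α : A →ₗ[k] B) (hα : Hoch.IsComodHom A α) [TameAct.IsHopfMod k A B M] (m : M) :
    TameAct.reynolds k A B M α m ∈ HopfRep.fixedPts k A M := by
  show HopfRep.Comod.coact (k := k) (A := A) _ = _
  let S := HopfAlgebra.antipode k (A := A)
  let act : M →ₗ[k] A →ₗ[k] M :=
    ((Algebra.lsmul k k M : B →ₐ[k] Module.End k M).toLinearMap ∘ₗ α).flip
  -- `G (y ⊗ a) = ρ(α (S a)) · y`
  let G : (M ⊗[k] A) ⊗[k] A →ₗ[k] M ⊗[k] A :=
    TensorProduct.lift (TameAct.hmSMul k A B M ∘ₗ HopfRep.Comod.coact (k := k) (A := A) ∘ₗ α ∘ₗ S).flip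
  have hα' : ∀ a, HopfRep.Comod.coact (k := k) (A := A) (α a) = α.rTensor A (Coalgebra.comul (R := k) a) :=
    fun a => LinearMap.congr_fun hα a
  have e1 : ∀ y : M ⊗[k] A, HopfRep.Comod.coact (k := k) (A := A) (TensorProduct.lift (act.compl₂ S) y) =
      G ((HopfRep.Comod.coact (k := k) (A := A)).rTensor A y) := by
    intro y
    induction y with
    | zero => simp
    | add p q hp hq => simp only [map_add, hp, hq]
    | tmul x a => simp [act, G, TameAct.IsHopfMod.coact_smul (k := k) (A := A) (B := B)]
  have e2 : ∀ (x : M) (a : A), G ((TensorProduct.assoc k M A A).symm (x ⊗ₜ[k] Coalgebra.comul (R := k) a)) =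
      (α (S a) • x) ⊗ₜ[k] (1 : A) := by
    intro x a
    have h3 := congrArg ((act x).rTensor A) (comul_antipode_mul_eq (k := k) a)
    simp only [LinearMap.rTensor_tmul] at h3
    refine Eq.trans ?_ (h3.trans rfl)
    generalize Coalgebra.comul (R := k) a = z
    induction z with
    | zero => simp
    | add p q hp hq => simp only [map_add, TensorProduct.tmul_add, hp, hq]
    | tmul p q =>
      simp only [TensorProduct.assoc_symm_tmul, G, TensorProduct.lift.tmul, LinearMap.flip_apply, LinearMap.comp_apply,
        hα', Algebra.TensorProduct.lift_tmul, AlgHom.comp_apply, Algebra.TensorProduct.includeRight_apply,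
        Bialgebra.comulAlgHom_apply, HopfAlgebra.antipodeAlgHom_apply]
      generalize Coalgebra.comul (R := k) (S q) = w
      induction w with
      | zero => simp
      | add r s hr hs => simp only [map_add, LinearMap.add_apply, mul_add, hr, hs]
      | tmul r s => simp [act, mul_comm]
  have hc := LinearMap.congr_fun (HopfRep.Comod.coassoc (k := k) (A := A) (V := M)) m
  simp only [LinearMap.comp_apply, LinearEquiv.coe_coe] at hc
  have hR : TameAct.reynolds k A B M α m =
      TensorProduct.lift (act.compl₂ S) (HopfRep.Comod.coact (k := k) (A := A) m) := rfl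
  rw [hR, e1, show (HopfRep.Comod.coact (k := k) (A := A)).rTensor A (HopfRep.Comod.coact (k := k) (A := A) m) =
    (TensorProduct.assoc k M A A).symm (Coalgebra.comul.lTensor M (HopfRep.Comod.coact (k := k) (A := A) m)) by
      rw [← hc, LinearEquiv.symm_apply_apply]]
  induction HopfRep.Comod.coact (k := k) (A := A) m with
  | zero => simp
  | add p q hp hq => simp only [map_add, TensorProduct.add_tmul, hp, hq]
  | tmul x a => rw [LinearMap.lTensor_tmul, e2]; simp [act]

theorem reynolds_fixed (α : A →ₗ[k] B) (h1 : α 1 = 1) {m : M} (hm : m ∈ HopfRep.fixedPts k A M) :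
    TameAct.reynolds k A B M α m = m := by
  rw [TameAct.reynolds_apply_of_coact_eq k A B M α m m 1 hm]
  simp [h1]

theorem reynolds_natural {N : Type w''} [AddCommGroup N] [Module k N] [Module B N] [IsScalarTower k B N]
    [HopfRep.Comod k A N] (α : A →ₗ[k] B) (f : M →ₗ[B] N) (hf : Hoch.IsComodHom A (f.restrictScalars k)) (m : M) :
    f (TameAct.reynolds k A B M α m) = TameAct.reynolds k A B N α (f m) := by
  have h : HopfRep.Comod.coact (k := k) (A := A) (f m) =
      (f.restrictScalars k).rTensor A (HopfRep.Comod.coact (k := k) (A := A) m) := LinearMap.congr_fun hf m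
  simp only [TameAct.reynolds, LinearMap.comp_apply, h]
  induction HopfRep.Comod.coact (k := k) (A := A) m with
  | zero => simp
  | add p q hp hq => simp only [map_add, hp, hq]
  | tmul x a => simp

end Groth.Agent.Comodule
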