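import Groth.Agent.Comodule.Reynolds
import Groth.Agent.Comodule.Reductive
import Groth.Agent.Comodule.Sub

/-! The Reynolds operator of a linearly reductive group on an arbitrary representation. -/

set_option autoImplicit false
set_option backward.isDefEq.respectTransparency false
universe u v w w'

open TensorProduct WithConv

noncomputable section

namespace Groth.Agent.Comodule.ReynoldsOp

variable {k : Type u} [Field k] {A : Type v} [CommRing A] [HopfAlgebra k A]
variable {V : Type w} [AddCommGroup V] [Module k V] [HopfRep.Comod k A V]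
variable {W : Type w'} [AddCommGroup W] [Module k W] [HopfRep.Comod k A W]

/-- The averaging map of a functional. -/
def avg (l : A →ₗ[k] k) : V →ₗ[k] V :=
  letI := HopfRep.Comod.trivial k A k
  TameAct.reynolds k A k V l

theorem avg_natural (l : A →ₗ[k] k) (u : V →ₗ[k] W) (hu : Hoch.IsComodHom A u) (v : V) :
    u (avg l v) = avg l (u v) := by
  letI := HopfRep.Comod.trivial k A k
  exact reynolds_natural (k := k) (A := A) l u hu v

theorem avg_fixed (l : A →ₗ[k] k) (h1 : l 1 = 1) {v : V} (hv : v ∈ HopfRep.fixedPts k A V) : avg l v = v := by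
  letI := HopfRep.Comod.trivial k A k
  exact reynolds_fixed (k := k) (A := A) l h1 hv

theorem avg_mem (hA : HopfRep.IsLinearlyReductive k A) :
    ∃ l : A →ₗ[k] k, l 1 = 1 ∧ (∀ a, l.rTensor A (Coalgebra.comul (R := k) a) = l a ⊗ₜ[k] (1 : A)) ∧
      (∀ (v : V), avg l v ∈ HopfRep.fixedPts k A V) ∧
      ∀ (S : Submodule k V), HopfRep.IsSubcomod (k := k) (A := A) S → ∀ v ∈ S, avg l v ∈ S := by
  obtain ⟨l, hl, h1⟩ := exists_integral_of_linRed hA
  refine ⟨l, h1, fun a => (LinearMap.congr_fun hl a).symm, fun v => ?_, fun S hS v hv => ?_⟩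
  · letI := HopfRep.Comod.trivial k A k
    haveI : TameAct.IsHopfMod k A k V :=
      { coact_smul := fun c m => by
          rw [map_smul, show HopfRep.Comod.coact (k := k) (A := A) c = c ⊗ₜ[k] (1 : A) from rfl]
          induction HopfRep.Comod.coact (k := k) (A := A) m with
          | zero => simp
          | add p q hp hq => simp only [map_add, smul_add, hp, hq]
          | tmul p q => simp [TensorProduct.smul_tmul'] }
    exact reynolds_mem_fixedPts (k := k) (A := A) l hl v
  · obtain ⟨z, hz⟩ := hS v hv
    simp only [avg, TameAct.reynolds, LinearMap.comp_apply, ← hz]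
    clear hz
    induction z with
    | zero => simp
    | add p q hp hq => simp only [map_add]; exact S.add_mem hp hq
    | tmul p q => simpa using S.smul_mem _ p.2

theorem avg_eq_dact (l : A →ₗ[k] k) (v : V) : avg l v = dact (l ∘ₗ HopfAlgebra.antipode k (A := A)) v := by
  simp only [avg, TameAct.reynolds, dact, LinearMap.comp_apply]
  induction HopfRep.Comod.coact (k := k) (A := A) v with
  | zero => simp
  | add p q hp hq => simp only [map_add, hp, hq]
  | tmul p q => simp [rcon]

theorem integral_comp_antipode {l : A →ₗ[k] k} (hl : ∀ a, l.rTensor A (Coalgebra.comul (R := k) a) = l a ⊗ₜ[k] (1 : A))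
    (h1 : l 1 = 1) (hmem : ∀ a : A, avg l a ∈ HopfRep.fixedPts k A A) :
    l ∘ₗ HopfAlgebra.antipode k (A := A) = l := by
  let l' := l ∘ₗ HopfAlgebra.antipode k (A := A)
  have hone : ∀ a, avg (V := A) l a = l' a • (1 : A) := by
    intro a
    have hc := congrArg (fun z => TensorProduct.lid k A (LinearMap.rTensor A (Coalgebra.counit (R := k)) z)) (hmem a)
    simp only [coact_regular, Coalgebra.rTensor_counit_comul, LinearMap.rTensor_tmul, TensorProduct.lid_tmul,
      one_smul] at hc
    rw [hc]
    congr 1
    rw [avg_eq_dact]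
    simp only [dact, LinearMap.comp_apply, coact_regular]
    have e : ∀ z : A ⊗[k] A, Coalgebra.counit (R := k) (rcon l' z) =
        l' (TensorProduct.lid k A (LinearMap.rTensor A (Coalgebra.counit (R := k)) z)) := by
      intro z
      induction z with
      | zero => simp
      | add p q hp hq => simp only [map_add, hp, hq]
      | tmul p q => simp [rcon, mul_comm]
    rw [e, Coalgebra.rTensor_counit_comul, TensorProduct.lid_tmul, one_smul]
  refine LinearMap.ext fun a => ?_
  have e1 : l (avg (V := A) l a) = l' a := by rw [hone, map_smul, h1, smul_eq_mul, mul_one]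
  have e2 : ∀ z : A ⊗[k] A, l (rcon l' z) = l' (lcon l z) := by
    intro z
    induction z with
    | zero => simp
    | add p q hp hq => simp only [map_add, hp, hq]
    | tmul p q => simp [rcon, lcon, mul_comm]
  rw [avg_eq_dact, dact, LinearMap.comp_apply, coact_regular, e2, (lcon_eq_iff l a).2 (hl a), map_smul] at e1
  simp only [l', LinearMap.comp_apply, HopfAlgebra.antipode_one, h1, smul_eq_mul, mul_one] at e1
  exact e1.symm

theorem existsUnique_op (hA : HopfRep.IsLinearlyReductive k A) :
    ∃! E : V →ₗ[k] V, Hoch.IsComodHom A E ∧ E ∘ₗ E = E ∧ ∀ x : V, E x = x ↔ x ∈ HopfRep.fixedPts k A V := by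
  obtain ⟨l, h1, hl, hmem, hstab⟩ := avg_mem (V := V) hA
  refine ⟨avg l, ⟨?_, LinearMap.ext fun v => avg_fixed l h1 (hmem v),
    fun x => ⟨fun h => h ▸ hmem x, avg_fixed l h1⟩⟩, ?_⟩
  · refine LinearMap.ext fun v => ?_
    rw [LinearMap.comp_apply, LinearMap.comp_apply, show HopfRep.Comod.coact (k := k) (A := A) (avg l v) = _ from hmem v]
    refine ext_rcon fun f => ?_
    rw [rcon_tmul, rcon_rTensor]
    have hmemA : ∀ a : A, avg (V := A) l a ∈ HopfRep.fixedPts k A A := by
      letI := HopfRep.Comod.trivial k A k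
      haveI : TameAct.IsHopfMod k A k A :=
        { coact_smul := fun c m => by
            rw [map_smul, show HopfRep.Comod.coact (k := k) (A := A) c = c ⊗ₜ[k] (1 : A) from rfl]
            induction HopfRep.Comod.coact (k := k) (A := A) m with
            | zero => simp
            | add p q hp hq => simp only [map_add, smul_add, hp, hq]
            | tmul p q => simp [TensorProduct.smul_tmul'] }
      exact fun a => reynolds_mem_fixedPts (k := k) (A := A) l (LinearMap.ext fun a => (hl a).symm) a
    have hS := integral_comp_antipode hl h1 hmemA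
    have key : avg l (rcon f (HopfRep.Comod.coact (k := k) (A := A) v)) = f 1 • avg l v := by
      rw [avg_eq_dact, avg_eq_dact, hS, show rcon f (HopfRep.Comod.coact (k := k) (A := A) v) = dact f v from rfl,
        ← dact_mul, ← dact_smul]
      refine congrArg (fun g : A →ₗ[k] k => dact g v) ?_
      refine LinearMap.ext fun a => ?_
      have h := congrArg f ((lcon_eq_iff l a).2 (hl a))
      rw [map_smul] at h
      simp only [LinearMap.convMul_def, LinearMap.smul_apply, smul_eq_mul, mul_comm (f 1)] at h ⊢
      rw [← h]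
      simp only [LinearMap.comp_apply]
      induction Coalgebra.comul (R := k) a with
      | zero => simp
      | add p q hp hq => simp only [map_add, hp, hq]
      | tmul p q => simp [lcon, mul_comm]
    exact key.symm
  · rintro E ⟨hE, hEE, hEx⟩
    refine LinearMap.ext fun v => ?_
    calc E v = avg l (E v) := (avg_fixed l h1 ((hEx _).1 (LinearMap.congr_fun hEE v))).symm
      _ = E (avg l v) := (avg_natural l E hE v).symm
      _ = avg l v := (hEx _).2 (hmem v)

theorem op_comm (hA : HopfRep.IsLinearlyReductive k A) {E : V →ₗ[k] V} (hE : Hoch.IsComodHom A E)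
    (hE₂ : E ∘ₗ E = E) (hE₃ : ∀ x : V, E x = x ↔ x ∈ HopfRep.fixedPts k A V) {E' : W →ₗ[k] W}
    (hE' : Hoch.IsComodHom A E') (hE'₂ : E' ∘ₗ E' = E') (hE'₃ : ∀ y : W, E' y = y ↔ y ∈ HopfRep.fixedPts k A W)
    {u : V →ₗ[k] W} (hu : Hoch.IsComodHom A u) : E' ∘ₗ u = u ∘ₗ E := by
  obtain ⟨l, h1, -, hmem, -⟩ := avg_mem (V := V) hA
  have eq : ∀ v, E v = avg l v := fun v =>
    calc E v = avg l (E v) := (avg_fixed l h1 ((hE₃ _).1 (LinearMap.congr_fun hE₂ v))).symm
      _ = E (avg l v) := (avg_natural l E hE v).symm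
      _ = avg l v := (hE₃ _).2 (hmem v)
  refine LinearMap.ext fun v => ?_
  rw [LinearMap.comp_apply, LinearMap.comp_apply, eq, avg_natural l u hu]
  have hfix : u (avg l v) ∈ HopfRep.fixedPts k A W := by
    show HopfRep.Comod.coact (k := k) (A := A) _ = _
    have := LinearMap.congr_fun hu (avg l v)
    simp only [LinearMap.comp_apply] at this
    rw [this, show HopfRep.Comod.coact (k := k) (A := A) (avg l v) = _ from hmem v, LinearMap.rTensor_tmul]
  rw [avg_natural l u hu] at hfix
  calc E' (u v) = avg l (E' (u v)) := (avg_fixed l h1 ((hE'₃ _).1 (LinearMap.congr_fun hE'₂ (u v)))).symm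
    _ = E' (avg l (u v)) := (avg_natural l E' hE' _).symm
    _ = avg l (u v) := (hE'₃ _).2 hfix

theorem iSup_inf_invariants {R : Type w} [CommRing R] [Algebra k R] [HopfRep.Comod k A R]
    (hA : HopfRep.IsLinearlyReductive k A) {ι : Type*} (𝔄 : ι → Submodule k R)
    (h : ∀ i, HopfRep.IsSubcomod (k := k) (A := A) (𝔄 i)) :
    (⨆ i, 𝔄 i) ⊓ HopfRep.fixedPts k A R = ⨆ i, (𝔄 i ⊓ HopfRep.fixedPts k A R) := by
  obtain ⟨l, h1, -, hmem, hstab⟩ := avg_mem (V := R) hA
  refine le_antisymm (fun x hx => ?_) (iSup_le fun i => inf_le_inf_right _ (le_iSup 𝔄 i))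
  rw [← avg_fixed l h1 hx.2]
  refine Submodule.iSup_induction 𝔄 (motive := fun y => avg l y ∈ ⨆ i, (𝔄 i ⊓ HopfRep.fixedPts k A R)) hx.1
    (fun i y hy => Submodule.mem_iSup_of_mem i ⟨hstab _ (h i) y hy, hmem y⟩) (by simp)
    fun a b ha hb => by rw [map_add]; exact Submodule.add_mem _ ha hb

end Groth.Agent.Comodule.ReynoldsOp
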