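import Groth.Agent.Comodule.ClosedOrbit
import Groth.Agent.Comodule.OrbitFlat
import Groth.Agent.GrSegreLib.Dim

/-! Stable points of affine schemes with an action of a linearly reductive group. -/

set_option autoImplicit false
set_option backward.isDefEq.respectTransparency false
universe u

open TensorProduct WithConv

noncomputable section

namespace Groth.Agent.Comodule.StableLocus

open Groth.Agent.Comodule.HilbertFG Groth.Agent.Comodule.ClosedOrbit

variable {k : Type u} [Field k] {A : Type u} [CommRing A] [HopfAlgebra k A]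

section Translate

theorem tr_eq_dact (g : A →ₐ[k] k) (a : A) : OrbitFlat.tr g a = dact g.toLinearMap a := by
  simp only [OrbitFlat.tr, AlgHom.comp_apply, Bialgebra.comulAlgHom_apply, dact, LinearMap.comp_apply, coact_regular]
  induction Coalgebra.comul (R := k) a with
  | zero => simp
  | add p q hp hq => simp only [map_add, hp, hq]
  | tmul p q => simp [rcon]

theorem tr_tr (g g' : A →ₐ[k] k) (a : A) :
    OrbitFlat.tr g (OrbitFlat.tr g' a) = OrbitFlat.tr (toConv g * toConv g').ofConv a := by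
  have e : (toConv g * toConv g').ofConv.toLinearMap = (toConv g.toLinearMap * toConv g'.toLinearMap).ofConv := by
    refine LinearMap.ext fun c => ?_
    rw [AlgHom.toLinearMap_apply, AlgHom.convMul_apply, LinearMap.convMul_def]
    simp only [LinearMap.comp_apply, WithConv.ofConv_toConv]
    induction Coalgebra.comul (R := k) c with
    | zero => simp
    | add p q hp hq => simp only [map_add, hp, hq]
    | tmul p q => simp
  rw [tr_eq_dact g, tr_eq_dact g', tr_eq_dact, e, dact_mul]

theorem tr_one (a : A) : OrbitFlat.tr (Bialgebra.counitAlgHom k A) a = a := by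
  simp only [OrbitFlat.tr, AlgHom.comp_apply, Bialgebra.comulAlgHom_apply]
  have h : ∀ z : A ⊗[k] A, Algebra.TensorProduct.rid k k A
      (Algebra.TensorProduct.map (AlgHom.id k A) (Bialgebra.counitAlgHom k A) z) =
      TensorProduct.rid k A ((Coalgebra.counit (R := k)).lTensor A z) := by
    intro z
    induction z with
    | zero => simp
    | add p q hp hq => simp only [map_add, hp, hq]
    | tmul p q => simp
  exact (h _).trans (by simp [Coalgebra.lTensor_counit_comul])

theorem one_ofConv : (1 : WithConv (A →ₐ[k] k)).ofConv = Bialgebra.counitAlgHom k A := by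
  refine AlgHom.ext fun a => ?_
  simp [AlgHom.convOne_def]

/-- Translation by a rational point. -/
def trEquiv (g : A →ₐ[k] k) : A ≃ₐ[k] A :=
  AlgEquiv.ofAlgHom (OrbitFlat.tr g) (OrbitFlat.tr (g.comp (HopfAlgebra.antipodeAlgHom k A)))
    (AlgHom.ext fun a => by rw [AlgHom.comp_apply, tr_tr, (Groth.Agent.HopfFF.comp_antipode_right g), one_ofConv, tr_one]; rfl)
    (AlgHom.ext fun a => by rw [AlgHom.comp_apply, tr_tr, (Groth.Agent.HopfFF.comp_antipode_left g), one_ofConv, tr_one]; rfl)

theorem trEquiv_apply (g : A →ₐ[k] k) (a : A) : trEquiv g a = OrbitFlat.tr g a := rfl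

theorem counit_comp_tr (g : A →ₐ[k] k) : (Bialgebra.counitAlgHom k A).comp (OrbitFlat.tr g) = g := by
  rw [OrbitFlat.comp_tr, ← one_ofConv, WithConv.toConv_ofConv, one_mul]

theorem ker_eq_comap_trEquiv (g : A →ₐ[k] k) :
    RingHom.ker g = (RingHom.ker (Bialgebra.counitAlgHom k A)).comap (trEquiv g).toRingEquiv := by
  ext a
  rw [RingHom.mem_ker, Ideal.mem_comap, RingHom.mem_ker]
  conv_lhs => rw [← counit_comp_tr g]
  rfl

end Translate

section Dimension

/-- A finite type algebra has finite dimension, witnessed by independent elements. -/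
theorem exists_dim_eq (B : Type u) [CommRing B] [Nontrivial B] [Algebra k B] [Algebra.FiniteType k B] :
    ∃ s : ℕ, ringKrullDim B = s ∧ ∃ z : Fin s → B, AlgebraicIndependent k z := by
  obtain ⟨s, g, hinj, hint⟩ := exists_integral_inj_algHom_of_fg k B
  refine ⟨s, ?_, fun i => g (MvPolynomial.X i), (MvPolynomial.algebraicIndependent_X (Fin s) k).map' hinj⟩
  rw [← GrSegreLib.ringKrullDim_eq_of_integral_injective g.toRingHom hinj hint,
    MvPolynomial.ringKrullDim_of_isNoetherianRing, ringKrullDim_eq_zero_of_field, zero_add]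
  simp

/-- Subalgebras of finite type do not raise the dimension. -/
theorem ringKrullDim_le_of_injective {B C : Type u} [CommRing B] [CommRing C] [Algebra k B] [Algebra k C]
    [Algebra.FiniteType k B] [Algebra.FiniteType k C] (f : B →ₐ[k] C) (hf : Function.Injective f) :
    ringKrullDim B ≤ ringKrullDim C := by
  rcases subsingleton_or_nontrivial B with h | h
  · rw [ringKrullDim_eq_bot_of_subsingleton]; exact bot_le
  obtain ⟨s, hs, z, hz⟩ := exists_dim_eq (k := k) B
  rw [hs]
  exact GrSegreLib.le_ringKrullDim_of_algIndep (hz.map' hf)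

end Dimension

variable [IsAlgClosed k] [Algebra.FiniteType k A]
variable {R : Type u} [CommRing R] [Algebra k R] [Algebra.FiniteType k R] [HopfRep.Comod k A R]
  [GLin.IsCoactAlg k A R]

omit [IsAlgClosed k] [Algebra.FiniteType k A] [Algebra.FiniteType k R] in
theorem ker_orbit_ne_top (x : R →ₐ[k] k) : RingHom.ker (GLin.orbitHom k A x) ≠ ⊤ := fun h =>
  RingHom.ker_ne_top x (top_le_iff.1 (h.ge.trans (inOrbitClosure_refl x)))

/-- Orbit closures of the same dimension, one inside the other, share a point of the orbit. -/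
theorem inOrbitClosure_symm_of_dim_le {x z : R →ₐ[k] k} (h : GLin.InOrbitClosure k A x z)
    (hdim : ringKrullDim (R ⧸ RingHom.ker (GLin.orbitHom k A x)) ≤
      ringKrullDim (R ⧸ RingHom.ker (GLin.orbitHom k A z))) :
    GLin.InOrbitClosure k A z x := by
  haveI : Nontrivial (R ⧸ RingHom.ker (GLin.orbitHom k A x)) := Ideal.Quotient.nontrivial_iff.2 (ker_orbit_ne_top x)
  haveI : Nontrivial (R ⧸ RingHom.ker (GLin.orbitHom k A z)) := Ideal.Quotient.nontrivial_iff.2 (ker_orbit_ne_top z)
  obtain ⟨d, hd, -⟩ := exists_dim_eq (k := k) (R ⧸ RingHom.ker (GLin.orbitHom k A z))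
  rw [hd, ringKrullDim_quotient] at hdim
  rw [ringKrullDim_quotient] at hd
  obtain ⟨l, hl⟩ := Order.le_krullDim_iff.1 hd.ge
  let Q := l.head.1
  have hzx := ker_le_of_inOrbitClosure h
  have hQz : RingHom.ker (GLin.orbitHom k A z) ≤ Q.asIdeal := l.head.2
  have hQ : Q.asIdeal ∈ (RingHom.ker (GLin.orbitHom k A x)).minimalPrimes := by
    refine ⟨⟨Q.2, hzx.trans hQz⟩, fun P hP hPQ => ?_⟩
    by_contra hne
    have hlt : P < Q.asIdeal := lt_of_le_not_ge hPQ hne
    let i : PrimeSpectrum.zeroLocus (RingHom.ker (GLin.orbitHom k A z) : Set R) →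
        PrimeSpectrum.zeroLocus (RingHom.ker (GLin.orbitHom k A x) : Set R) :=
      fun p => ⟨p.1, hzx.trans p.2⟩
    let l' := l.map i (fun _ _ hab => hab)
    have hle : ((d + 1 : ℕ) : WithBot ℕ∞) ≤ d :=
      le_trans (Order.le_krullDim_iff.2 ⟨RelSeries.cons l' ⟨⟨P, hP.1⟩, hP.2⟩ hlt, by simp [l', hl]⟩) hdim
    have : d + 1 ≤ d := by exact_mod_cast hle
    omega
  haveI := Q.2
  obtain ⟨P, hP, -, hPQ⟩ := Ideal.exists_comap_eq_of_mem_minimalPrimes (GLin.orbitHom k A x).toRingHom (I := ⊥)
    Q.asIdeal (show Q.asIdeal ∈ ((⊥ : Ideal A).comap (GLin.orbitHom k A x).toRingHom).minimalPrimes from hQ)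
  haveI := hP
  obtain ⟨g, hg⟩ := exists_pt (k := k) hP.ne_top
  refine inOrbitClosure_trans (y := GLin.actPt k g x) (fun f hf => ?_) (inOrbitClosure_of_actPt g x)
  have hfQ : f ∈ Q.asIdeal := hQz hf
  rw [← hPQ] at hfQ
  exact hg hfQ

/-- The stabiliser has finitely many rational points. -/
def FinStab (A : Type u) [CommRing A] [HopfAlgebra k A] [HopfRep.Comod k A R] [GLin.IsCoactAlg k A R]
    (x : R →ₐ[k] k) : Prop :=
  {g : A →ₐ[k] k | GLin.actPt k g x = x}.Finite

omit [IsAlgClosed k] [Algebra.FiniteType k A] [Algebra.FiniteType k R] in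
theorem stabIdeal_le_ker_iff (x : R →ₐ[k] k) (g : A →ₐ[k] k) :
    GLin.stabIdeal k A x ≤ RingHom.ker g ↔ GLin.actPt k g x = x := by
  rw [GLin.stabIdeal, Ideal.map_le_iff_le_comap]
  constructor
  · intro h
    refine AlgHom.ext fun f => ?_
    have := RingHom.mem_ker.1 (h (show f - algebraMap k R (x f) ∈ RingHom.ker x by simp))
    simpa [GLin.actPt, sub_eq_zero] using this
  · intro h f hf
    rw [Ideal.mem_comap, RingHom.mem_ker, ← RingHom.mem_ker.1 hf]
    exact DFunLike.congr_fun h f

omit [IsAlgClosed k] [Algebra.FiniteType k A] [Algebra.FiniteType k R] in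
theorem stabIdeal_le_counit (x : R →ₐ[k] k) :
    GLin.stabIdeal k A x ≤ RingHom.ker (Bialgebra.counitAlgHom k A) := by
  rw [stabIdeal_le_ker_iff]
  exact AlgHom.ext (counit_orbitHom x)

omit [Algebra.FiniteType k R] in
theorem finite_quotient_iff (I : Ideal A) :
    Module.Finite k (A ⧸ I) ↔ {g : A →ₐ[k] k | I ≤ RingHom.ker g}.Finite := by
  haveI : Algebra.FiniteType k (A ⧸ I) := inferInstance
  constructor
  · intro h
    refine (Set.finite_range (fun φ : A ⧸ I →ₐ[k] k => φ.comp (Ideal.Quotient.mkₐ k I))).subset fun g hg => ?_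
    exact ⟨Ideal.Quotient.liftₐ I g fun a ha => RingHom.mem_ker.1 (hg ha), AlgHom.ext fun a => rfl⟩
  · intro h
    rw [Module.finite_iff_krullDimLE_zero, Ring.krullDimLE_zero_iff]
    intro p hp
    haveI : IsJacobsonRing (A ⧸ I) := isJacobsonRing_of_finiteType (A := k)
    let s : Set (Ideal (A ⧸ I)) := {q | p ≤ q ∧ q.IsMaximal}
    have hs : s.Finite := by
      refine (h.image fun g : A →ₐ[k] k => (RingHom.ker g).map (Ideal.Quotient.mk I)).subset fun q hq => ?_
      haveI := hq.2
      obtain ⟨φ, hφ⟩ := exists_pt (k := k) hq.2.ne_top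
      refine ⟨φ.comp (Ideal.Quotient.mkₐ k I), fun a ha => ?_, ?_⟩
      · simp [Ideal.Quotient.eq_zero_iff_mem.2 ha]
      · dsimp only
        rw [hq.2.eq_of_le (RingHom.ker_ne_top φ) hφ]
        ext b
        rw [Ideal.mem_map_iff_of_surjective _ Ideal.Quotient.mk_surjective]
        obtain ⟨a, rfl⟩ := Ideal.Quotient.mk_surjective b
        exact ⟨fun ⟨c, hc, e⟩ => by rw [RingHom.mem_ker, ← e]; exact hc, fun hb => ⟨a, hb, rfl⟩⟩
    have hp' : sInf s = p := IsJacobsonRing.out inferInstance hp.isRadical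
    rw [← hs.coe_toFinset, ← Finset.inf_id_eq_sInf] at hp'
    obtain ⟨q, hq, hqp⟩ := (hp.inf_le').1 hp'.le
    have hq' := hs.mem_toFinset.1 hq
    exact le_antisymm hq'.1 hqp ▸ hq'.2

omit [Algebra.FiniteType k R] in
theorem hasFiniteStab_iff (x : R →ₐ[k] k) : GLin.HasFiniteStab k A x ↔ FinStab A x := by
  rw [GLin.HasFiniteStab, finite_quotient_iff]
  simp only [stabIdeal_le_ker_iff, FinStab]

omit [IsAlgClosed k] [Algebra.FiniteType k A] [Algebra.FiniteType k R] in
theorem mem_minimalPrimes_of_finStab {x : R →ₐ[k] k} [Module.Finite k (A ⧸ GLin.stabIdeal k A x)] :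
    RingHom.ker (Bialgebra.counitAlgHom k A) ∈ (GLin.stabIdeal k A x).minimalPrimes := by
  haveI : IsArtinianRing (A ⧸ GLin.stabIdeal k A x) := IsArtinianRing.of_finite k _
  refine ⟨⟨RingHom.ker_isPrime _, stabIdeal_le_counit x⟩, fun P hP hPe => ?_⟩
  haveI := hP.1
  have hmax : (P.map (Ideal.Quotient.mk (GLin.stabIdeal k A x))).IsMaximal := by
    haveI : (P.map (Ideal.Quotient.mk (GLin.stabIdeal k A x))).IsPrime :=
      Ideal.map_isPrime_of_surjective Ideal.Quotient.mk_surjective (by simpa using hP.2)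
    exact IsArtinianRing.isMaximal_of_isPrime _
  have : P.IsMaximal := by
    have := Ideal.comap_isMaximal_of_surjective (Ideal.Quotient.mk (GLin.stabIdeal k A x))
      Ideal.Quotient.mk_surjective (K := P.map (Ideal.Quotient.mk (GLin.stabIdeal k A x)))
    rwa [Ideal.comap_map_of_surjective _ Ideal.Quotient.mk_surjective, ← RingHom.ker_eq_comap_bot,
      Ideal.mk_ker, sup_eq_left.2 hP.2] at this
  exact (this.eq_of_le (RingHom.ker_ne_top _) hPe).ge

/-- The orbit of a point with finite stabiliser has the dimension of the group. -/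
theorem ringKrullDim_le_orbit {x : R →ₐ[k] k} (hx : FinStab A x) :
    ringKrullDim A ≤ ringKrullDim (R ⧸ RingHom.ker (GLin.orbitHom k A x)) := by
  haveI : Module.Finite k (A ⧸ GLin.stabIdeal k A x) := (hasFiniteStab_iff x).2 hx
  haveI : IsNoetherianRing A := Algebra.FiniteType.isNoetherianRing k A
  let B := R ⧸ RingHom.ker (GLin.orbitHom k A x)
  haveI : IsNoetherianRing B := Algebra.FiniteType.isNoetherianRing k B
  let θ : B →ₐ[k] A := Ideal.kerLiftAlg (GLin.orbitHom k A x)
  letI : Algebra B A := θ.toRingHom.toAlgebra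
  let xb : B →ₐ[k] k := Ideal.Quotient.liftₐ _ x fun f hf => RingHom.mem_ker.1 (inOrbitClosure_refl x hf)
  let n := RingHom.ker (Bialgebra.counitAlgHom k A)
  haveI : n.IsPrime := RingHom.ker_isPrime _
  haveI : (RingHom.ker xb).IsPrime := RingHom.ker_isPrime _
  haveI : n.LiesOver (RingHom.ker xb) := ⟨by
    ext b
    obtain ⟨f, rfl⟩ := Ideal.Quotient.mk_surjective b
    exact (show x f = 0 ↔ Coalgebra.counit (R := k) (GLin.orbitHom k A x f) = 0 by rw [counit_orbitHom])⟩
  have hmap : (RingHom.ker xb).map (algebraMap B A) = GLin.stabIdeal k A x := by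
    have e : RingHom.ker xb = (RingHom.ker x).map (Ideal.Quotient.mk (RingHom.ker (GLin.orbitHom k A x))) := by
      ext b
      rw [Ideal.mem_map_iff_of_surjective _ Ideal.Quotient.mk_surjective]
      obtain ⟨f, rfl⟩ := Ideal.Quotient.mk_surjective b
      exact ⟨fun h => ⟨f, h, rfl⟩, fun ⟨f', hf', e⟩ => by rw [RingHom.mem_ker, ← e]; exact hf'⟩
    rw [e, Ideal.map_map]
    rfl
  rw [ringKrullDim_le_iff_isMaximal_height_le]
  intro q hq
  obtain ⟨g, hg⟩ := exists_pt (k := k) hq.ne_top
  rw [hq.eq_of_le (RingHom.ker_ne_top g) hg, ker_eq_comap_trEquiv, RingEquiv.height_comap]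
  refine le_trans (WithBot.coe_le_coe.2 (Ideal.height_le_height_add_of_liesOver (RingHom.ker xb) n)) ?_
  have h0 : (n.map (Ideal.Quotient.mk ((RingHom.ker xb).map (algebraMap B A)))).height = 0 := by
    haveI : (n.map (Ideal.Quotient.mk ((RingHom.ker xb).map (algebraMap B A)))).IsPrime :=
      Ideal.map_isPrime_of_surjective Ideal.Quotient.mk_surjective (by
        rw [Ideal.mk_ker, hmap]; exact stabIdeal_le_counit x)
    rw [Ideal.height_eq_zero_iff]
    refine ⟨⟨inferInstance, bot_le⟩, fun P hP hPn => Ideal.map_le_iff_le_comap.2 ?_⟩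
    haveI := hP.1
    refine (mem_minimalPrimes_of_finStab (x := x)).2 ⟨Ideal.IsPrime.comap _, ?_⟩ ?_
    · intro a ha
      rw [← hmap] at ha
      rw [Ideal.mem_comap, Ideal.Quotient.eq_zero_iff_mem.2 ha]
      exact P.zero_mem
    · refine (Ideal.comap_mono hPn).trans ?_
      rw [Ideal.comap_map_of_surjective _ Ideal.Quotient.mk_surjective, ← RingHom.ker_eq_comap_bot, Ideal.mk_ker,
        hmap, sup_eq_left.2 (stabIdeal_le_counit x)]
  rw [h0, add_zero]
  exact Ideal.height_le_ringKrullDim_of_isPrime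

/-- A point with finite stabiliser in an orbit closure recovers that orbit closure. -/
theorem inOrbitClosure_symm {x y : R →ₐ[k] k} (hx : FinStab A x) (h : GLin.InOrbitClosure k A y x) :
    GLin.InOrbitClosure k A x y :=
  inOrbitClosure_symm_of_dim_le h ((ringKrullDim_le_of_injective (Ideal.kerLiftAlg (GLin.orbitHom k A y))
    (Ideal.kerLiftAlg_injective _)).trans (ringKrullDim_le_orbit hx))

/-- The orbit is closed on rational points. -/
def IsClosedPt (A : Type u) [CommRing A] [HopfAlgebra k A] [HopfRep.Comod k A R] [GLin.IsCoactAlg k A R]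
    (x : R →ₐ[k] k) : Prop :=
  ∀ z : R →ₐ[k] k, GLin.InOrbitClosure k A x z → ∃ g : A →ₐ[k] k, z = GLin.actPt k g x

omit [Algebra.FiniteType k A] in
theorem isClosedOrbit_iff [Algebra.FiniteType k A] (x : R →ₐ[k] k) :
    GLin.IsClosedOrbit k A x ↔ IsClosedPt A x := by
  refine ⟨fun h z hz => exists_actPt_eq_of_isClosedOrbit h hz, fun h => ?_⟩
  rw [GLin.IsClosedOrbit, ← closure_subset_iff_isClosed, PrimeSpectrum.closure_range_comap]
  intro p hp
  rw [PrimeSpectrum.mem_range_comap_iff]
  by_contra hne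
  obtain ⟨s, hs, hsp⟩ := SetLike.exists_of_lt (lt_of_le_of_ne Ideal.le_comap_map (Ne.symm hne))
  have hnil : ¬ IsNilpotent (Ideal.Quotient.mk p.asIdeal s) := fun hn =>
    hsp (Ideal.Quotient.eq_zero_iff_mem.1 (isNilpotent_iff_eq_zero.1 hn))
  obtain ⟨φ, hφ⟩ := exists_pt_ne_zero (k := k) hnil
  let z : R →ₐ[k] k := φ.comp (Ideal.Quotient.mkₐ k p.asIdeal)
  have hpz : ∀ r ∈ p.asIdeal, z r = 0 := fun r hr => by simp [z, Ideal.Quotient.eq_zero_iff_mem.2 hr]
  obtain ⟨g, hg⟩ := h z fun f hf => RingHom.mem_ker.2 (hpz f (hp hf))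
  have hle : p.asIdeal.map (GLin.orbitHom k A x).toRingHom ≤ RingHom.ker g := Ideal.map_le_iff_le_comap.2 fun r hr => by
    have := hpz r hr
    rw [hg] at this
    exact this
  refine hφ ?_
  show z s = 0
  rw [hg]
  exact hle hs

omit [Algebra.FiniteType k R] in
theorem finStab_actPt {x : R →ₐ[k] k} (hx : FinStab A x) (g : A →ₐ[k] k) : FinStab A (GLin.actPt k g x) := by
  let G' := toConv (g.comp (HopfAlgebra.antipodeAlgHom k A))
  refine Set.Finite.subset (hx.image fun q => (G' * toConv q * toConv g).ofConv) fun h hh => ?_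
  refine ⟨(toConv g * toConv h * G').ofConv, ?_, ?_⟩
  · show GLin.actPt k _ x = x
    have e := exists_actPt_symm (A := A) g x
    calc GLin.actPt k (toConv g * toConv h * G').ofConv x
        = GLin.actPt k G'.ofConv (GLin.actPt k h (GLin.actPt k g x)) := by
          rw [actPt_actPt, actPt_actPt]; simp [mul_assoc]
      _ = x := by rw [show GLin.actPt k h (GLin.actPt k g x) = GLin.actPt k g x from hh]; exact e.symm
  · have h1 := (Groth.Agent.HopfFF.comp_antipode_left g)
    show (G' * toConv (toConv g * toConv h * G').ofConv * toConv g).ofConv = h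
    rw [WithConv.toConv_ofConv, ← mul_assoc, ← mul_assoc, h1, one_mul, mul_assoc, h1, mul_one]

/-- Stability on rational points. -/
def IsStable (A : Type u) [CommRing A] [HopfAlgebra k A] [HopfRep.Comod k A R] [GLin.IsCoactAlg k A R]
    (x : R →ₐ[k] k) : Prop :=
  IsClosedPt A x ∧ FinStab A x

theorem isStablePt_iff (x : R →ₐ[k] k) : GLin.IsStablePt k A x ↔ IsStable A x :=
  and_congr (isClosedOrbit_iff x) (hasFiniteStab_iff x)

/-- Points with the same invariants as a stable point lie in its orbit. -/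
theorem exists_actPt_of_isStable (hA : HopfRep.IsLinearlyReductive k A) {x : R →ₐ[k] k} (hx : IsStable A x)
    {z : R →ₐ[k] k} (hz : ∀ f ∈ GLin.invariants k A R, z f = x f) :
    ∃ g : A →ₐ[k] k, z = GLin.actPt k g x := by
  obtain ⟨w, h₁, h₂⟩ := (eq_on_invariants_iff hA z x).1 (AlgHom.ext fun f => hz f f.2)
  obtain ⟨g, rfl⟩ := hx.1 w h₂
  exact hx.1 z (inOrbitClosure_symm hx.2 (inOrbitClosure_trans h₁ (inOrbitClosure_of_actPt g x)))

theorem isStable_iff (hA : HopfRep.IsLinearlyReductive k A) (x : R →ₐ[k] k) :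
    IsStable A x ↔ ∀ z : R →ₐ[k] k, (∀ f ∈ GLin.invariants k A R, z f = x f) → FinStab A z := by
  refine ⟨fun hx z hz => ?_, fun h => ?_⟩
  · obtain ⟨g, rfl⟩ := exists_actPt_of_isStable hA hx hz
    exact finStab_actPt hx.2 g
  obtain ⟨y, hxy, hy⟩ := exists_minimal_closure (A := A) x
  have hyf : FinStab A y := h y fun f hf => eq_of_mem_ker_orbit hxy hf
  obtain ⟨g, hg⟩ := hy x (inOrbitClosure_symm hyf hxy)
  refine ⟨fun z hz => ?_, h x fun f _ => rfl⟩
  subst hg
  obtain ⟨g', rfl⟩ := hy z (inOrbitClosure_trans (inOrbitClosure_actPt g y) hz)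
  refine ⟨(toConv (g.comp (HopfAlgebra.antipodeAlgHom k A)) * toConv g').ofConv, ?_⟩
  rw [← actPt_actPt, ← exists_actPt_symm]

section Locus

variable (R) in
/-- The ideal of the stabiliser scheme over the base. -/
def stabRel (A : Type u) [CommRing A] [HopfAlgebra k A] [HopfRep.Comod k A R] : Ideal (R ⊗[k] A) :=
  Ideal.span (Set.range fun f : R => HopfRep.Comod.coact (k := k) (A := A) f - f ⊗ₜ[k] (1 : A))

/-- Evaluation of the base at a rational point. -/
def evalAt (z : R →ₐ[k] k) : R ⊗[k] A →ₐ[k] A :=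
  (Algebra.TensorProduct.lid k A).toAlgHom.comp (Algebra.TensorProduct.map z (AlgHom.id k A))

omit [IsAlgClosed k] [Algebra.FiniteType k A] [Algebra.FiniteType k R] [HopfRep.Comod k A R]
  [GLin.IsCoactAlg k A R] in
theorem evalAt_tmul (z : R →ₐ[k] k) (r : R) (a : A) : evalAt z (r ⊗ₜ[k] a) = z r • a := by simp [evalAt]

omit [IsAlgClosed k] [Algebra.FiniteType k A] [Algebra.FiniteType k R] in
theorem map_stabRel (z : R →ₐ[k] k) : (stabRel R A).map (evalAt (A := A) z) = GLin.stabIdeal k A z := by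
  have e : ∀ f : R, evalAt z (HopfRep.Comod.coact (k := k) (A := A) f - f ⊗ₜ[k] (1 : A)) =
      GLin.orbitHom k A z (f - algebraMap k R (z f)) := fun f => by
    rw [map_sub, evalAt_tmul, map_sub, AlgHom.commutes, ← Algebra.algebraMap_eq_smul_one]
    rfl
  rw [stabRel, Ideal.map_span, GLin.stabIdeal]
  refine le_antisymm (Ideal.span_le.2 ?_) (Ideal.map_le_iff_le_comap.2 fun f hf => ?_)
  · rintro _ ⟨_, ⟨f, rfl⟩, rfl⟩
    rw [e]
    exact Ideal.mem_map_of_mem _ (by simp)
  · refine Ideal.subset_span ⟨_, ⟨f, rfl⟩, ?_⟩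
    rw [e, RingHom.mem_ker.1 hf, map_zero, sub_zero]

omit [IsAlgClosed k] [Algebra.FiniteType k A] [Algebra.FiniteType k R] [HopfRep.Comod k A R]
  [GLin.IsCoactAlg k A R] in
theorem sub_evalAt_mem (z : R →ₐ[k] k) (y : R ⊗[k] A) :
    y - (1 : R) ⊗ₜ[k] evalAt z y ∈ (RingHom.ker z).map (algebraMap R (R ⊗[k] A)) := by
  induction y with
  | zero => simp
  | add p q hp hq => rw [map_add, TensorProduct.tmul_add, add_sub_add_comm]; exact Ideal.add_mem _ hp hq
  | tmul r a =>
    rw [evalAt_tmul, TensorProduct.tmul_smul, TensorProduct.smul_tmul', ← TensorProduct.sub_tmul,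
      ← Algebra.algebraMap_eq_smul_one,
      show (r - algebraMap k R (z r)) ⊗ₜ[k] a = algebraMap R (R ⊗[k] A) (r - algebraMap k R (z r)) * (1 : R) ⊗ₜ[k] a by
        simp [Algebra.TensorProduct.tmul_mul_tmul]]
    exact Ideal.mul_mem_right _ _ (Ideal.mem_map_of_mem _ (by simp))

theorem minimal_counit_iff (z : R →ₐ[k] k) :
    FinStab A z ↔ RingHom.ker (Bialgebra.counitAlgHom k A) ∈ (GLin.stabIdeal k A z).minimalPrimes := by
  constructor
  · intro h
    haveI : Module.Finite k (A ⧸ GLin.stabIdeal k A z) := (hasFiniteStab_iff z).2 h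
    exact mem_minimalPrimes_of_finStab
  intro hmin
  rw [← hasFiniteStab_iff, GLin.HasFiniteStab, Module.finite_iff_krullDimLE_zero, Ring.krullDimLE_zero_iff]
  intro P hP
  haveI : IsJacobsonRing A := isJacobsonRing_of_finiteType (A := k)
  let P₀ := P.comap (Ideal.Quotient.mk (GLin.stabIdeal k A z))
  have hP₀ : GLin.stabIdeal k A z ≤ P₀ := fun a ha => by
    rw [Ideal.mem_comap, Ideal.Quotient.eq_zero_iff_mem.2 ha]; exact P.zero_mem
  obtain ⟨g, hg⟩ := exists_pt (k := k) (B := A) (I := P₀) (Ideal.IsPrime.comap _).ne_top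
  let P' := P₀.comap (trEquiv g).symm.toRingEquiv
  have hP' : GLin.stabIdeal k A z ≤ P' := by
    intro a ha
    rw [Ideal.mem_comap]
    by_contra hnot
    have hnil : ¬ IsNilpotent (Ideal.Quotient.mk P₀ ((trEquiv g).symm a)) := fun hn =>
      hnot (Ideal.Quotient.eq_zero_iff_mem.1 (isNilpotent_iff_eq_zero.1 hn))
    obtain ⟨φ, hφ⟩ := exists_pt_ne_zero (k := k) hnil
    let q : A →ₐ[k] k := φ.comp (Ideal.Quotient.mkₐ k P₀)
    have hq : GLin.actPt k q z = z :=
      (stabIdeal_le_ker_iff z q).1 (hP₀.trans fun b hb => by simp [q, Ideal.Quotient.eq_zero_iff_mem.2 hb])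
    have hg' : GLin.actPt k g z = z := (stabIdeal_le_ker_iff z g).1 (hP₀.trans hg)
    refine hφ ?_
    let G' := g.comp (HopfAlgebra.antipodeAlgHom k A)
    have hmem : GLin.actPt k (toConv q * toConv G').ofConv z = z := by
      rw [← actPt_actPt, hq]
      conv_lhs => rw [← hg']
      exact (exists_actPt_symm g z).symm
    have := RingHom.mem_ker.1 ((stabIdeal_le_ker_iff z _).2 hmem ha)
    rw [← OrbitFlat.comp_tr] at this
    exact this
  haveI : P'.IsPrime := Ideal.IsPrime.comap _
  have hle : P' ≤ RingHom.ker (Bialgebra.counitAlgHom k A) := fun a ha => by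
    have h1 := hg ha
    rw [ker_eq_comap_trEquiv g, Ideal.mem_comap] at h1
    simpa using h1
  have heq : P' = RingHom.ker (Bialgebra.counitAlgHom k A) := le_antisymm hle (hmin.2 ⟨inferInstance, hP'⟩ hle)
  have hP₀eq : P₀ = RingHom.ker g := by
    rw [ker_eq_comap_trEquiv g, ← heq]
    ext a
    simp [P']
  have hmax : P₀.IsMaximal := by
    rw [hP₀eq]; exact RingHom.ker_isMaximal_of_surjective g fun c => ⟨algebraMap k A c, by simp⟩
  have := Ideal.map_eq_top_or_isMaximal_of_surjective (Ideal.Quotient.mk (GLin.stabIdeal k A z))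
    Ideal.Quotient.mk_surjective hmax
  rw [Ideal.map_comap_of_surjective _ Ideal.Quotient.mk_surjective] at this
  exact this.resolve_left hP.ne_top

theorem isOpen_quasiFiniteAt (R S : Type u) [CommRing R] [CommRing S] [Algebra R S] [Algebra.FiniteType R S] :
    IsOpen {q : PrimeSpectrum S | Algebra.QuasiFiniteAt R q.asIdeal} := by
  rw [isOpen_iff_forall_mem_open]
  intro p hp
  haveI : Algebra.QuasiFiniteAt R p.asIdeal := hp
  obtain ⟨S', hS', r, hrp, H⟩ := Algebra.QuasiFiniteAt.exists_fg_and_exists_notMem_and_awayMap_bijective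
    (R := R) p.asIdeal
  refine ⟨PrimeSpectrum.basicOpen r.1, fun q hq => ?_, (PrimeSpectrum.basicOpen r.1).isOpen, hrp⟩
  haveI : Module.Finite R S' := ⟨(Submodule.fg_top _).mpr hS'⟩
  haveI : Algebra.QuasiFinite R (Localization.Away r) := .trans _ S' _
  haveI : Algebra.QuasiFinite R (Localization.Away r.1) :=
    .of_surjective_algHom (Localization.awayMapₐ S'.val r) H.2
  let f : Localization.Away r.1 →ₐ[S] Localization.AtPrime q.asIdeal :=
    IsLocalization.Away.liftAlgHom r.1 (f := Algebra.ofId _ _) <|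
      IsLocalization.map_units (M := q.asIdeal.primeCompl) (Localization.AtPrime q.asIdeal) ⟨r.1, hq⟩
  refine Algebra.QuasiFinite.of_forall_exists_mul_mem_range (f.restrictScalars R) fun x ↦ ?_
  obtain ⟨x, ⟨s, hs⟩, rfl⟩ := IsLocalization.exists_mk'_eq q.asIdeal.primeCompl x
  exact ⟨algebraMap _ _ s, by simpa using IsLocalization.map_units _ ⟨s, hs⟩, algebraMap _ _ x, by simp⟩

/-- A closed point minimal in its fibre is a point of quasi-finiteness. -/
theorem quasiFiniteAt_of_minimal {A B : Type u} [CommRing A] [CommRing B] [Algebra A B]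
    [Algebra.FiniteType A B] (n : Ideal B) [n.IsMaximal]
    (hmin : ∀ q : Ideal B, q.IsPrime → q.comap (algebraMap A B) = n.comap (algebraMap A B) → q ≤ n → q = n) :
    Algebra.QuasiFiniteAt A n := by
  refine Algebra.QuasiFiniteAt.of_isOpen_singleton_fiber ⟨n, inferInstance⟩ ?_
  let p := PrimeSpectrum.comap (algebraMap A B) ⟨n, inferInstance⟩
  let e := PrimeSpectrum.preimageHomeomorphFiber A B p
  haveI : IsJacobsonRing (p.asIdeal.Fiber B) :=
    isJacobsonRing_of_finiteType (A := p.asIdeal.ResidueField)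
  haveI : IsNoetherianRing (p.asIdeal.Fiber B) :=
    Algebra.FiniteType.isNoetherianRing p.asIdeal.ResidueField _
  rw [← e.isOpen_image, Set.image_singleton]
  set Q := e ⟨⟨n, inferInstance⟩, rfl⟩ with hQ
  have hmax : ∀ x : PrimeSpectrum (p.asIdeal.Fiber B), Q ≤ x → x = Q := by
    intro x hx
    have hx' : (PrimeSpectrum.preimageOrderIsoFiber A B p).symm Q ≤
        (PrimeSpectrum.preimageOrderIsoFiber A B p).symm x :=
      (PrimeSpectrum.preimageOrderIsoFiber A B p).symm.le_iff_le.mpr hx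
    rw [hQ, show (PrimeSpectrum.preimageOrderIsoFiber A B p).symm (e _) = _ from
      e.symm_apply_apply _] at hx'
    apply e.symm.injective
    rw [hQ, e.symm_apply_apply]
    apply Subtype.ext
    apply PrimeSpectrum.ext
    exact ((‹n.IsMaximal›).eq_of_le ((e.symm x).1.isPrime.ne_top) hx').symm
  have hmin' : ∀ x : PrimeSpectrum (p.asIdeal.Fiber B), x ≤ Q → x = Q := by
    intro x hx
    have hx' : (PrimeSpectrum.preimageOrderIsoFiber A B p).symm x ≤
        (PrimeSpectrum.preimageOrderIsoFiber A B p).symm Q :=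
      (PrimeSpectrum.preimageOrderIsoFiber A B p).symm.le_iff_le.mpr hx
    rw [hQ, show (PrimeSpectrum.preimageOrderIsoFiber A B p).symm (e _) = _ from
      e.symm_apply_apply _] at hx'
    apply e.symm.injective
    rw [hQ, e.symm_apply_apply]
    apply Subtype.ext
    apply PrimeSpectrum.ext
    exact hmin _ (e.symm x).1.isPrime (congrArg PrimeSpectrum.asIdeal (e.symm x).2) hx'
  refine ((PrimeSpectrum.isOpen_singleton_tfae_of_isNoetherian_of_isJacobsonRing Q).out 0 2).mpr ?_
  refine ⟨(PrimeSpectrum.isClosed_singleton_iff_isMaximal Q).mpr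
    (PrimeSpectrum.isMax_iff.mp fun x hx => (hmax x hx).le), fun x y hxy hx => ?_⟩
  obtain rfl := Set.mem_singleton_iff.mp hx
  exact hmin' y ((PrimeSpectrum.le_iff_specializes y Q).mpr hxy)

/-- The points with finite stabiliser form the complement of a zero locus. -/
theorem exists_finStab_locus :
    ∃ I₀ : Ideal R, ∀ z : R →ₐ[k] k, FinStab A z ↔ ¬ ∀ f ∈ I₀, z f = 0 := by
  let C := (R ⊗[k] A) ⧸ stabRel R A
  haveI : Algebra.FiniteType R (R ⊗[k] A) := inferInstance
  haveI : Algebra.FiniteType R C :=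
    Algebra.FiniteType.of_surjective (Ideal.Quotient.mkₐ R (stabRel R A)) Ideal.Quotient.mk_surjective
  let eR : R ⊗[k] A →ₐ[k] R :=
    Algebra.TensorProduct.lift (AlgHom.id k R) ((Algebra.ofId k R).comp (Bialgebra.counitAlgHom k A))
      fun _ _ => Commute.all _ _
  have heR : ∀ y, eR y = TensorProduct.rid k R ((Coalgebra.counit (R := k)).lTensor R y) := by
    intro y
    induction y with
    | zero => simp
    | add p q hp hq => simp only [map_add, hp, hq]
    | tmul r a => simp [eR, Algebra.smul_def, mul_comm]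
  have he0 : stabRel R A ≤ RingHom.ker eR := Ideal.span_le.2 <| by
    rintro _ ⟨f, rfl⟩
    have hc := LinearMap.congr_fun (HopfRep.Comod.counit_comp (k := k) (A := A) (V := R)) f
    simp only [LinearMap.comp_apply] at hc
    rw [SetLike.mem_coe, RingHom.mem_ker, map_sub, heR, hc, heR]
    simp
  let e : C →ₐ[k] R := Ideal.Quotient.liftₐ _ eR fun y hy => RingHom.mem_ker.1 (he0 hy)
  let U : Set (PrimeSpectrum R) :=
    PrimeSpectrum.comap e.toRingHom ⁻¹' {q | Algebra.QuasiFiniteAt R q.asIdeal}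
  have hU : IsOpen U := (isOpen_quasiFiniteAt R C).preimage (PrimeSpectrum.continuous_comap _)
  obtain ⟨I₀, hI₀⟩ := (PrimeSpectrum.isClosed_iff_zeroLocus_ideal _).1 hU.isClosed_compl
  refine ⟨I₀, fun z => ?_⟩
  let m : PrimeSpectrum R := ⟨RingHom.ker z, RingHom.ker_isPrime _⟩
  have hm : (∀ f ∈ I₀, z f = 0) ↔ m ∈ Uᶜ := by rw [hI₀]; rfl
  rw [hm, Set.mem_compl_iff, not_not, minimal_counit_iff]
  let π : C →ₐ[k] A ⧸ GLin.stabIdeal k A z :=
    Ideal.Quotient.liftₐ _ ((Ideal.Quotient.mkₐ k (GLin.stabIdeal k A z)).comp (evalAt z)) fun y hy =>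
      Ideal.Quotient.eq_zero_iff_mem.2 (map_stabRel (A := A) z ▸ Ideal.mem_map_of_mem _ hy)
  have hπ : Function.Surjective π := fun a => by
    obtain ⟨a, rfl⟩ := Ideal.Quotient.mk_surjective a
    refine ⟨Ideal.Quotient.mk _ ((1 : R) ⊗ₜ a), ?_⟩
    show Ideal.Quotient.mk _ (evalAt z ((1 : R) ⊗ₜ[k] a)) = _
    rw [evalAt_tmul, map_one, one_smul]
  have hker : RingHom.ker π ≤ (RingHom.ker z).map (algebraMap R C) := by
    intro c hc
    obtain ⟨y, rfl⟩ := Ideal.Quotient.mk_surjective c
    have hy : evalAt z y ∈ (stabRel R A).map (evalAt (A := A) z) :=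
      (map_stabRel (A := A) z).symm ▸ Ideal.Quotient.eq_zero_iff_mem.1 hc
    obtain ⟨j, hj, hjy⟩ := (Ideal.mem_map_iff_of_surjective _ fun a => ⟨(1 : R) ⊗ₜ a, by simp [evalAt_tmul]⟩).1 hy
    have h1 := Ideal.mem_map_of_mem (Ideal.Quotient.mk (stabRel R A)) (sub_evalAt_mem z (y - j))
    rw [Ideal.map_map, map_sub (evalAt z), hjy, sub_self, TensorProduct.tmul_zero, sub_zero, map_sub,
      Ideal.Quotient.eq_zero_iff_mem.2 hj, sub_zero] at h1
    exact h1
  have hπR : ∀ r : R, π (algebraMap R C r) = algebraMap k _ (z r) := fun r => by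
    show Ideal.Quotient.mk _ (evalAt z (r ⊗ₜ[k] (1 : A))) = _
    rw [evalAt_tmul, ← Algebra.algebraMap_eq_smul_one]
    rfl
  let nb := (RingHom.ker (Bialgebra.counitAlgHom k A)).map (Ideal.Quotient.mk (GLin.stabIdeal k A z))
  have hnb : nb.comap (Ideal.Quotient.mk (GLin.stabIdeal k A z)) = RingHom.ker (Bialgebra.counitAlgHom k A) := by
    rw [Ideal.comap_map_of_surjective _ Ideal.Quotient.mk_surjective, ← RingHom.ker_eq_comap_bot, Ideal.mk_ker,
      sup_eq_left.2 (stabIdeal_le_counit z)]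
  let q : Ideal C := (RingHom.ker z).comap e.toRingHom
  have hq : q = nb.comap π.toRingHom := by
    ext c
    obtain ⟨y, rfl⟩ := Ideal.Quotient.mk_surjective c
    show z (eR y) = 0 ↔ evalAt z y ∈ nb.comap (Ideal.Quotient.mk (GLin.stabIdeal k A z))
    rw [hnb, RingHom.mem_ker, show z (eR y) = Bialgebra.counitAlgHom k A (evalAt z y) by
      induction y with
      | zero => simp
      | add p q hp hq => simp only [map_add, hp, hq]
      | tmul r a => simp [eR, evalAt_tmul, mul_comm]]
  haveI : q.IsMaximal := RingHom.ker_isMaximal_of_surjective (z.comp e) (fun c => ⟨algebraMap k C c, by simp⟩)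
  have hqR : q.comap (algebraMap R C) = RingHom.ker z := by
    ext r
    show z (eR (r ⊗ₜ[k] (1 : A))) = 0 ↔ _
    simp [eR]
  constructor
  · intro hmin
    refine quasiFiniteAt_of_minimal q fun P hP hPR hPq => ?_
    have hkerP : RingHom.ker π ≤ P :=
      hker.trans (Ideal.map_le_iff_le_comap.2 (hPR.trans hqR).ge)
    haveI : (P.map π.toRingHom).IsPrime := Ideal.map_isPrime_of_surjective hπ hkerP
    have hle : P.map π.toRingHom ≤ nb := Ideal.map_le_iff_le_comap.2 (hPq.trans hq.le)
    have h2 : nb ≤ P.map π.toRingHom := by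
      refine Ideal.map_le_iff_le_comap.2 (hmin.2 ⟨Ideal.IsPrime.comap _, fun a ha => ?_⟩
        ((Ideal.comap_mono hle).trans hnb.le))
      rw [Ideal.mem_comap, Ideal.Quotient.eq_zero_iff_mem.2 ha]
      exact Ideal.zero_mem _
    rw [hq, ← le_antisymm hle h2, Ideal.comap_map_of_surjective π.toRingHom hπ, sup_eq_left.2]
    rwa [← RingHom.ker_eq_comap_bot]
  · intro hqf
    haveI : Algebra.QuasiFiniteAt R q := hqf
    refine ⟨⟨RingHom.ker_isPrime _, stabIdeal_le_counit z⟩, fun P hP hPe => ?_⟩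
    haveI := hP.1
    let Pb := P.map (Ideal.Quotient.mk (GLin.stabIdeal k A z))
    haveI : Pb.IsPrime := Ideal.map_isPrime_of_surjective Ideal.Quotient.mk_surjective (by simpa using hP.2)
    have hPq : Pb.comap π.toRingHom ≤ q := hq ▸ Ideal.comap_mono (Ideal.map_mono hPe)
    haveI : (Pb.comap π.toRingHom).IsPrime := Ideal.IsPrime.comap _
    have heq := Algebra.QuasiFiniteAt.eq_of_le_of_under_eq (R := R) hPq (by
      refine le_antisymm (Ideal.comap_mono hPq) ?_
      show q.comap (algebraMap R C) ≤ _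
      rw [hqR]
      intro r hr
      show π (algebraMap R C r) ∈ Pb
      rw [hπR, RingHom.mem_ker.1 hr, map_zero]
      exact Pb.zero_mem)
    rw [hq] at heq
    have := Ideal.comap_injective_of_surjective _ hπ heq
    refine le_of_eq ?_
    rw [← hnb, ← this, Ideal.comap_map_of_surjective _ Ideal.Quotient.mk_surjective, ← RingHom.ker_eq_comap_bot,
      Ideal.mk_ker, sup_eq_left.2 hP.2]

variable (R) in
/-- An invariant ideal cutting out the points with infinite stabiliser. -/
theorem exists_stable_ideal :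
    ∃ I : Ideal R, HopfRep.IsSubcomod (k := k) (A := A) (I.restrictScalars k) ∧
      ∀ z : R →ₐ[k] k, (¬ FinStab A z ↔ ∀ f ∈ I, z f = 0) := by
  obtain ⟨I₀, hI₀⟩ := exists_finStab_locus (k := k) (A := A) (R := R)
  haveI : IsNoetherianRing A := Algebra.FiniteType.isNoetherianRing k A
  obtain ⟨N, hN⟩ := IsNoetherianRing.isNilpotent_nilradical A
  let I : Ideal R := ⨅ (z : R →ₐ[k] k) (_ : ¬ FinStab A z), RingHom.ker (GLin.orbitHom k A z)
  refine ⟨I, isSubcomod_iff.mpr fun g f hf => ?_, fun z => ⟨fun hz f hf => ?_, fun h hz => ?_⟩⟩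
  · simp only [I, Submodule.restrictScalars_mem, Submodule.mem_iInf] at hf ⊢
    exact fun z hz => isSubcomod_iff.mp (isSubcomod_ker_orbit (A := A) z) g f (hf z hz)
  · simp only [I, Submodule.mem_iInf] at hf
    exact RingHom.mem_ker.1 (inOrbitClosure_refl z (hf z hz))
  · have := (hI₀ z).1 hz
    refine this fun f hf => ?_
    refine eq_zero_of_pow_eq_zero (n := N) ?_
    rw [← map_pow]
    refine h _ ?_
    simp only [I, Submodule.mem_iInf]
    intro w hw
    have hnil : IsNilpotent (GLin.orbitHom k A w f) := by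
      by_contra hn
      obtain ⟨g, hg⟩ := exists_pt_ne_zero (k := k) hn
      have hfin : ¬ FinStab A (GLin.actPt k g w) := fun hf' => hw (by
        have := finStab_actPt hf' (g.comp (HopfAlgebra.antipodeAlgHom k A))
        rwa [← exists_actPt_symm g w] at this)
      exact hg (by_contra fun hne => hfin ((hI₀ _).2 fun hall => hne (hall f hf)))
    rw [RingHom.mem_ker, map_pow]
    have hmem : GLin.orbitHom k A w f ^ N ∈ nilradical A ^ N :=
      Ideal.pow_mem_pow (mem_nilradical.2 hnil) N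
    rw [hN] at hmem
    exact hmem

end Locus

/-- The stable points are the complement of the zero set of a family of invariants. -/
theorem exists_invariants_cutting_out (hA : HopfRep.IsLinearlyReductive k A) :
    ∃ S : Set R, S ⊆ (GLin.invariants k A R : Set R) ∧ ∀ x : R →ₐ[k] k, IsStable A x ↔ ∃ f ∈ S, x f ≠ 0 := by
  obtain ⟨I, hIsub, hI⟩ := exists_stable_ideal (k := k) (A := A) R
  refine ⟨(GLin.invariants k A R : Set R) ∩ I, Set.inter_subset_left, fun x => ⟨fun hx => ?_, ?_⟩⟩
  · by_contra hno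
    push Not at hno
    obtain ⟨z, hz, hzx⟩ := exists_pt_over hA I hIsub (x.comp (GLin.invariants k A R).val)
      fun f hf => hno f ⟨f.2, hf⟩
    exact (hI z).2 hz ((isStable_iff hA x).1 hx z fun f hf => DFunLike.congr_fun hzx ⟨f, hf⟩)
  · rintro ⟨f, ⟨hf, hfI⟩, hxf⟩
    rw [isStable_iff hA]
    intro z hz
    by_contra hn
    exact hxf ((hz f hf).symm.trans ((hI z).1 hn f hfI))

omit [IsAlgClosed k] [Algebra.FiniteType k A] [Algebra.FiniteType k R] in
theorem isLeftRegular_tmul_one {b : R} (hb : IsLeftRegular b) :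
    IsLeftRegular (b ⊗ₜ[k] (1 : A)) := by
  intro p q h
  have e : ∀ y : R ⊗[k] A, (b ⊗ₜ[k] (1 : A)) * y = (LinearMap.mulLeft k b).rTensor A y := by
    intro y
    induction y with
    | zero => simp
    | add p q hp hq => simp only [mul_add, map_add, hp, hq]
    | tmul p q => simp [Algebra.TensorProduct.tmul_mul_tmul]
  simp only [e] at h
  exact Module.Flat.rTensor_preserves_injective_linearMap _ hb h

omit [IsAlgClosed k] [Algebra.FiniteType k A] [Algebra.FiniteType k R] in
/-- The shear automorphism of an action. -/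
theorem exists_shear : ∃ σ : R ⊗[k] A ≃ₐ[k] R ⊗[k] A,
    ∀ r : R, σ (r ⊗ₜ[k] (1 : A)) = HopfRep.Comod.coact (k := k) (A := A) r := by
  let S := R ⊗[k] A
  let i2 : A →ₐ[k] S := Algebra.TensorProduct.includeRight
  let shear : S →ₐ[k] S := Algebra.TensorProduct.lift (GLin.coactAlgHom k A R) i2 fun _ _ => Commute.all _ _
  let tw : R →ₐ[k] S :=
    (Algebra.TensorProduct.map (AlgHom.id k R) (HopfAlgebra.antipodeAlgHom k A)).comp (GLin.coactAlgHom k A R)
  let shear' : S →ₐ[k] S := Algebra.TensorProduct.lift tw i2 fun _ _ => Commute.all _ _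
  have hsh : ∀ (p : R) (q : A), shear (p ⊗ₜ[k] q) =
      HopfRep.Comod.coact (k := k) (A := A) p * ((1 : R) ⊗ₜ[k] q) := fun p q => Algebra.TensorProduct.lift_tmul _ _ _ p q
  have hsh' : ∀ (p : R) (q : A), shear' (p ⊗ₜ[k] q) =
      Algebra.TensorProduct.map (AlgHom.id k R) (HopfAlgebra.antipodeAlgHom k A)
        (HopfRep.Comod.coact (k := k) (A := A) p) * ((1 : R) ⊗ₜ[k] q) := fun p q => Algebra.TensorProduct.lift_tmul _ _ _ p q
  have hu : ∀ r, TensorProduct.rid k R ((Coalgebra.counit (R := k)).lTensor R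
      (HopfRep.Comod.coact (k := k) (A := A) r)) = r := fun r => by
    have hu := LinearMap.congr_fun (HopfRep.Comod.counit_comp (k := k) (A := A) (V := R)) r
    simp only [LinearMap.comp_apply] at hu
    rw [hu]
    simp
  have gen : ∀ (f : A ⊗[k] A →ₗ[k] A) (F : S → S), (∀ a, f (Coalgebra.comul (R := k) a) =
      algebraMap k A (Coalgebra.counit (R := k) a)) →
      (∀ r, F (HopfRep.Comod.coact (k := k) (A := A) r) = f.lTensor R (TensorProduct.assoc k R A A
        ((HopfRep.Comod.coact (k := k) (A := A)).rTensor A (HopfRep.Comod.coact (k := k) (A := A) r)))) →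
      ∀ r, F (HopfRep.Comod.coact (k := k) (A := A) r) = r ⊗ₜ[k] (1 : A) := by
    intro f F hf hF r
    have hc := LinearMap.congr_fun (HopfRep.Comod.coassoc (k := k) (A := A) (V := R)) r
    simp only [LinearMap.comp_apply, LinearEquiv.coe_coe] at hc
    rw [hF, hc]
    have hψ : ∀ y : R ⊗[k] A, f.lTensor R ((Coalgebra.comul (R := k)).lTensor R y) =
        (TensorProduct.rid k R ((Coalgebra.counit (R := k)).lTensor R y)) ⊗ₜ[k] (1 : A) := by
      intro y
      induction y with
      | zero => simp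
      | add p q hp hq => simp only [map_add, TensorProduct.add_tmul, hp, hq]
      | tmul p q => simp [hf, TensorProduct.smul_tmul, Algebra.algebraMap_eq_smul_one]
    rw [hψ, hu]
  have key1 : ∀ r, shear' (HopfRep.Comod.coact (k := k) (A := A) r) = r ⊗ₜ[k] (1 : A) := by
    refine gen (LinearMap.mul' k A ∘ₗ (HopfAlgebra.antipode k (A := A)).rTensor A) shear'
      (fun a => HopfAlgebra.mul_antipode_rTensor_comul_apply a) fun r => ?_
    induction HopfRep.Comod.coact (k := k) (A := A) r with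
    | zero => simp
    | add p q hp hq => simp only [map_add, hp, hq]
    | tmul p q =>
      rw [hsh', LinearMap.rTensor_tmul]
      induction HopfRep.Comod.coact (k := k) (A := A) p with
      | zero => simp
      | add r s hr hs => simp only [map_add, TensorProduct.add_tmul, add_mul, hr, hs]
      | tmul r s => simp [Algebra.TensorProduct.tmul_mul_tmul]
  have key2 : ∀ r, shear (tw r) = r ⊗ₜ[k] (1 : A) := by
    refine fun r => gen (LinearMap.mul' k A ∘ₗ (HopfAlgebra.antipode k (A := A)).lTensor A)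
      (fun y => shear (Algebra.TensorProduct.map (AlgHom.id k R) (HopfAlgebra.antipodeAlgHom k A) y))
      (fun a => HopfAlgebra.mul_antipode_lTensor_comul_apply a) (fun r => ?_) r
    induction HopfRep.Comod.coact (k := k) (A := A) r with
    | zero => simp
    | add p q hp hq => simp only [map_add, hp, hq]
    | tmul p q =>
      rw [Algebra.TensorProduct.map_tmul, AlgHom.id_apply, hsh, LinearMap.rTensor_tmul]
      induction HopfRep.Comod.coact (k := k) (A := A) p with
      | zero => simp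
      | add r s hr hs => simp only [map_add, TensorProduct.add_tmul, add_mul, hr, hs]
      | tmul r s => simp [Algebra.TensorProduct.tmul_mul_tmul]
  have hs2 : ∀ a, shear (i2 a) = i2 a ∧ shear' (i2 a) = i2 a := fun a => by
    constructor
    · show shear ((1 : R) ⊗ₜ[k] a) = (1 : R) ⊗ₜ[k] a
      rw [hsh, GLin.IsCoactAlg.coact_one, one_mul]
    · show shear' ((1 : R) ⊗ₜ[k] a) = (1 : R) ⊗ₜ[k] a
      rw [hsh', GLin.IsCoactAlg.coact_one, map_one, one_mul]
  have h2 : shear.comp shear' = AlgHom.id k S := by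
    refine Algebra.TensorProduct.ext (AlgHom.ext fun r => ?_) (AlgHom.ext fun a => ?_)
    · show shear (shear' (r ⊗ₜ[k] (1 : A))) = r ⊗ₜ[k] (1 : A)
      rw [hsh', ← Algebra.TensorProduct.one_def, mul_one]
      exact key2 r
    · show shear (shear' (i2 a)) = i2 a
      rw [(hs2 a).2, (hs2 a).1]
  have h1 : shear'.comp shear = AlgHom.id k S := by
    refine Algebra.TensorProduct.ext (AlgHom.ext fun r => ?_) (AlgHom.ext fun a => ?_)
    · show shear' (shear (r ⊗ₜ[k] (1 : A))) = r ⊗ₜ[k] (1 : A)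
      rw [hsh, ← Algebra.TensorProduct.one_def, mul_one]
      exact key1 r
    · show shear' (shear (i2 a)) = i2 a
      rw [(hs2 a).1, (hs2 a).2]
  refine ⟨AlgEquiv.ofAlgHom shear shear' h2 h1, fun r => ?_⟩
  show shear (r ⊗ₜ[k] (1 : A)) = _
  rw [hsh, ← Algebra.TensorProduct.one_def, mul_one]

omit [IsAlgClosed k] [Algebra.FiniteType k A] [Algebra.FiniteType k R] in
theorem isLeftRegular_coact {b : R} (hb : IsLeftRegular b) :
    IsLeftRegular (HopfRep.Comod.coact (k := k) (A := A) b) := by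
  obtain ⟨σ, hσ⟩ := exists_shear (k := k) (A := A) (R := R)
  intro p q h
  have h' := congrArg σ.symm h
  simp only [map_mul, ← hσ, σ.symm_apply_apply] at h'
  exact σ.symm.injective (isLeftRegular_tmul_one (A := A) hb h')

/-- Invariant fractions are fractions of invariants when a stable point exists. -/
theorem exists_invariant_fraction [IsDomain R] (hA : HopfRep.IsLinearlyReductive k A) {x : R →ₐ[k] k}
    (hx : IsStable A x) {a b : R} (hb : b ≠ 0)
    (hab : (a ⊗ₜ[k] (1 : A)) * HopfRep.Comod.coact (k := k) (A := A) b =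
      (b ⊗ₜ[k] (1 : A)) * HopfRep.Comod.coact (k := k) (A := A) a) :
    ∃ c ∈ GLin.invariants k A R, ∃ d ∈ GLin.invariants k A R, d ≠ 0 ∧ a * d = b * c := by
  let D : Ideal R := Submodule.colon (Ideal.span {b}) {a}
  have hD : ∀ {d : R}, d ∈ D ↔ b ∣ d * a := fun {d} => by
    rw [Submodule.mem_colon_singleton, smul_eq_mul, Ideal.mem_span_singleton]
  have hbreg : IsLeftRegular b := IsLeftCancelMulZero.mul_left_cancel_of_ne_zero hb
  have step : ∀ d c : R, d * a = b * c →
      (a ⊗ₜ[k] (1 : A)) * HopfRep.Comod.coact (k := k) (A := A) d =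
        (b ⊗ₜ[k] (1 : A)) * HopfRep.Comod.coact (k := k) (A := A) c := by
    intro d c h
    refine isLeftRegular_coact hbreg ?_
    have h2 := congrArg (HopfRep.Comod.coact (k := k) (A := A)) h
    rw [GLin.IsCoactAlg.coact_mul, GLin.IsCoactAlg.coact_mul] at h2
    calc HopfRep.Comod.coact (k := k) (A := A) b * (a ⊗ₜ[k] (1 : A) * HopfRep.Comod.coact (k := k) (A := A) d)
        = (a ⊗ₜ[k] (1 : A) * HopfRep.Comod.coact (k := k) (A := A) b) * HopfRep.Comod.coact (k := k) (A := A) d := by
          ring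
      _ = (b ⊗ₜ[k] (1 : A)) * (HopfRep.Comod.coact (k := k) (A := A) d * HopfRep.Comod.coact (k := k) (A := A) a) := by
          rw [hab]; ring
      _ = _ := by rw [h2]; ring
  have e : ∀ (u : R) (χ : A →ₗ[k] k) (y : R ⊗[k] A), rcon χ ((u ⊗ₜ[k] (1 : A)) * y) = u * rcon χ y := by
    intro u χ y
    induction y with
    | zero => simp
    | add p q hp hq => simp only [mul_add, map_add, hp, hq]
    | tmul p q => simp [rcon, Algebra.TensorProduct.tmul_mul_tmul]
  have hDsub : HopfRep.IsSubcomod (k := k) (A := A) (D.restrictScalars k) := by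
    refine isSubcomod_iff.mpr fun χ d hd => ?_
    obtain ⟨c, hc⟩ := hD.1 hd
    refine hD.2 ⟨dact χ.ofConv c, ?_⟩
    rw [smul_def, mul_comm (dact χ.ofConv d) a]
    simp only [dact, LinearMap.comp_apply, ← e, step d c hc]
  obtain ⟨S, hS, hSx⟩ := exists_invariants_cutting_out (R := R) hA
  obtain ⟨f, hfS, hfx⟩ := (hSx x).1 hx
  have hfb : f * b ≠ 0 := mul_ne_zero (fun h0 => hfx (by rw [h0, map_zero])) hb
  obtain ⟨x', hx'⟩ := exists_pt_ne_zero (k := k) (fun hn => hfb (isNilpotent_iff_eq_zero.1 hn))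
  rw [map_mul, mul_ne_zero_iff] at hx'
  have hst : IsStable A x' := (hSx x').2 ⟨f, hfS, hx'.1⟩
  by_cases hex : ∃ d : GLin.invariants k A R, (d : R) ∈ D ∧ x' d ≠ 0
  · obtain ⟨⟨d, hd⟩, hdD, hdx⟩ := hex
    have hd0 : d ≠ 0 := fun h0 => hdx (by simp only; rw [h0, map_zero])
    obtain ⟨c, hc⟩ := hD.1 hdD
    refine ⟨c, ?_, d, hd, hd0, by rw [mul_comm, hc]⟩
    rw [GLin.mem_invariants_iff]
    refine isLeftRegular_tmul_one hbreg ?_
    show (b ⊗ₜ[k] (1 : A)) * _ = (b ⊗ₜ[k] (1 : A)) * _
    rw [← step d c hc, (GLin.mem_invariants_iff _ _ _ _).1 hd, Algebra.TensorProduct.tmul_mul_tmul,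
      Algebra.TensorProduct.tmul_mul_tmul, mul_comm a d, hc]
  exfalso
  push Not at hex
  obtain ⟨z, hz, hzx⟩ := exists_pt_over hA D hDsub (x'.comp (GLin.invariants k A R).val) fun d hd => hex d hd
  obtain ⟨g, rfl⟩ := exists_actPt_of_isStable hA hst fun f hf => DFunLike.congr_fun hzx ⟨f, hf⟩
  have hbD : b ∈ D := hD.2 (dvd_mul_right b a)
  obtain ⟨w, hw⟩ := hDsub b hbD
  have horb : GLin.orbitHom k A (GLin.actPt k g x') b = 0 := by
    simp only [GLin.orbitHom, AlgHom.comp_apply, GLin.coactAlgHom_apply, ← hw]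
    clear hw
    induction w with
    | zero => simp
    | add p q hp hq => simp only [map_add, hp, hq, add_zero]
    | tmul p q =>
      have h0 : GLin.actPt k g x' (p : R) = 0 := hz _ p.2
      simp [h0]
  refine hx'.2 ?_
  rw [exists_actPt_symm (A := A) g x']
  show (g.comp (HopfAlgebra.antipodeAlgHom k A)) (GLin.orbitHom k A (GLin.actPt k g x') b) = 0
  rw [horb, map_zero]

/-- Closedness of orbits is detected by finite equivariant maps. -/
theorem isClosedPt_iff_of_finite {S : Type u} [CommRing S] [Algebra k S] [Algebra.FiniteType k S]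
    [HopfRep.Comod k A S] [GLin.IsCoactAlg k A S] [Algebra S R] [IsScalarTower k S R] [Module.Finite S R]
    (hequiv : ∀ s : S, HopfRep.Comod.coact (k := k) (A := A) (algebraMap S R s) =
      Algebra.TensorProduct.map (IsScalarTower.toAlgHom k S R) (AlgHom.id k A)
        (HopfRep.Comod.coact (k := k) (A := A) s)) (x : R →ₐ[k] k) :
    GLin.IsClosedOrbit k A x ↔ GLin.IsClosedOrbit k A (x.comp (IsScalarTower.toAlgHom k S R)) := by
  let φ := IsScalarTower.toAlgHom k S R
  have horb : ∀ z : R →ₐ[k] k, GLin.orbitHom k A (z.comp φ) = (GLin.orbitHom k A z).comp φ := by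
    intro z
    refine AlgHom.ext fun s => ?_
    simp only [GLin.orbitHom, AlgHom.comp_apply, GLin.coactAlgHom_apply]
    rw [show φ s = algebraMap S R s from rfl, hequiv s]
    induction HopfRep.Comod.coact (k := k) (A := A) s with
    | zero => simp
    | add p q hp hq => simp only [map_add, hp, hq]
    | tmul p q => simp [φ]
  have hact : ∀ (z : R →ₐ[k] k) (g : A →ₐ[k] k), (GLin.actPt k g z).comp φ = GLin.actPt k g (z.comp φ) :=
    fun z g => by rw [GLin.actPt, GLin.actPt, horb, AlgHom.comp_assoc]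
  refine ⟨fun h => ?_, fun h => (isClosedOrbit_iff x).2 fun z hz => ?_⟩
  · rw [GLin.IsClosedOrbit] at h ⊢
    have hcl : IsClosedMap (PrimeSpectrum.comap φ.toRingHom) :=
      PrimeSpectrum.isClosedMap_comap_of_isIntegral _ (algebraMap_isIntegral_iff.2 inferInstance)
    convert hcl _ h using 1
    rw [← Set.range_comp, horb]
    rfl
  obtain ⟨z0, hz0, hz0cl⟩ := exists_minimal_closure (A := A) z
  have hxz0 := inOrbitClosure_trans hz hz0
  have hw : GLin.InOrbitClosure k A (x.comp φ) (z0.comp φ) := fun s hs => by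
    rw [RingHom.mem_ker, horb] at hs
    exact hxz0 (RingHom.mem_ker.2 hs)
  obtain ⟨g, hg⟩ := exists_actPt_eq_of_isClosedOrbit h hw
  have hJ : RingHom.ker (GLin.orbitHom k A (z0.comp φ)) = RingHom.ker (GLin.orbitHom k A (x.comp φ)) := by
    rw [hg]
    exact le_antisymm (ker_le_of_inOrbitClosure (inOrbitClosure_of_actPt g _))
      (ker_le_of_inOrbitClosure (inOrbitClosure_actPt g _))
  have hdim : ∀ w : R →ₐ[k] k, ringKrullDim (S ⧸ RingHom.ker (GLin.orbitHom k A (w.comp φ))) =
      ringKrullDim (R ⧸ RingHom.ker (GLin.orbitHom k A w)) := by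
    intro w
    have hle : RingHom.ker (GLin.orbitHom k A (w.comp φ)) =
        (RingHom.ker (GLin.orbitHom k A w)).comap (algebraMap S R) := by
      rw [horb]; rfl
    refine GrSegreLib.ringKrullDim_eq_of_integral_injective
      (Ideal.quotientMap _ (algebraMap S R) hle.le) (Ideal.quotientMap_injective' hle.ge) ?_
    intro y
    obtain ⟨r, rfl⟩ := Ideal.Quotient.mk_surjective y
    obtain ⟨P, hP, hPr⟩ := Algebra.IsIntegral.isIntegral (R := S) r
    refine ⟨P.map (Ideal.Quotient.mk _), hP.map _, ?_⟩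
    rw [Polynomial.eval₂_map, Ideal.quotientMap_comp_mk, ← Polynomial.hom_eval₂, hPr, map_zero]
  have h1 := inOrbitClosure_symm_of_dim_le hxz0 (by rw [← hdim x, ← hdim z0, hJ])
  obtain ⟨g₀, hg₀⟩ := hz0cl x h1
  obtain ⟨g₁, hg₁⟩ := hz0cl z (inOrbitClosure_trans h1 hz)
  refine ⟨(toConv (g₀.comp (HopfAlgebra.antipodeAlgHom k A)) * toConv g₁).ofConv, ?_⟩
  rw [← actPt_actPt, hg₀, ← exists_actPt_symm g₀ z0]
  exact hg₁

end Groth.Agent.Comodule.StableLocus
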