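import Groth.Agent.Comodule.Unipotent
import Groth.Agent.Comodule.Eigen

/-! Trigonalizability through chains of subcomodules of the regular comodule. -/

set_option autoImplicit false
universe u v w

open TensorProduct WithConv

noncomputable section

namespace Groth.Agent.Comodule

variable {k : Type u} [Field k] {A : Type v} [CommRing A] [Bialgebra k A]

variable (k) in
/-- A chain of subcomodules of the regular comodule growing by at most one dimension, reaching `a`. -/
def HasChain (a : A) : Prop :=
  ∃ G : ℕ → Submodule k A, G 0 = ⊥ ∧ (∀ i, HopfRep.IsSubcomod (k := k) (A := A) (G i)) ∧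
    (∀ i, ∃ x, G (i + 1) ≤ G i ⊔ Submodule.span k {x}) ∧ ∃ m, a ∈ G m

theorem hasChain_of_trig (hT : HopfRep.IsTrigonalizable k A) (a : A) : HasChain k a := by
  let N : Submodule k A := (Submodule.span (WithConv (A →ₗ[k] k)) {a}).restrictScalars k
  have hN : HopfRep.IsSubcomod (k := k) (A := A) N := isSubcomod_restrictScalars _
  letI := subComod N hN
  haveI : Module.Finite k N := finite_span_singleton a
  obtain ⟨F, hmono, hsub, hF⟩ := exists_flag_of_trig (k := k) (A := A) (V := N) hT
  set n := Module.finrank k N with hn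
  have hhom := isComodHom_subtype N hN
  refine ⟨fun i => (F (min i n)).map N.subtype, ?_, fun i => ?_, fun i => ?_, n, ?_⟩
  · show (F (min 0 n)).map N.subtype = ⊥
    rw [Nat.zero_min, Submodule.finrank_eq_zero.mp (hF 0 (Nat.zero_le _)), Submodule.map_bot]
  · refine isSubcomod_iff.mpr fun f v hv => ?_
    obtain ⟨y, hy, rfl⟩ := hv
    exact ⟨f • y, isSubcomod_iff.mp (hsub _) f y hy, isComodHom_iff.mp hhom f y⟩
  · by_cases hi : i < n
    · have h1 := hF i hi.le
      have h2 := hF (i + 1) hi
      have hlt : F i < F (i + 1) := (hmono (Nat.le_add_right i 1)).lt_of_ne fun h => by rw [h] at h1; omega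
      obtain ⟨x, hx, hx'⟩ := SetLike.exists_of_lt hlt
      refine ⟨N.subtype x, ?_⟩
      have h3 : F i ⊔ Submodule.span k {x} = F (i + 1) := by
        refine Submodule.eq_of_le_of_finrank_le (sup_le hlt.le (Submodule.span_le.mpr (by simpa using hx))) ?_
        have h4 : F i < F i ⊔ Submodule.span k {x} :=
          le_sup_left.lt_of_ne fun h => hx' (h.ge (Submodule.mem_sup_right (Submodule.mem_span_singleton_self x)))
        have := Submodule.finrank_lt_finrank_of_lt h4
        omega
      show (F (min (i + 1) n)).map N.subtype ≤ (F (min i n)).map N.subtype ⊔ _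
      rw [min_eq_left hi.le, min_eq_left (Nat.succ_le_of_lt hi), ← h3, Submodule.map_sup, Submodule.map_span,
        Set.image_singleton]
    · refine ⟨0, le_trans (le_of_eq ?_) le_sup_left⟩
      show (F (min (i + 1) n)).map N.subtype = (F (min i n)).map N.subtype
      rw [min_eq_right (by omega : n ≤ i + 1), min_eq_right (by omega : n ≤ i)]
  · refine ⟨⟨a, Submodule.subset_span rfl⟩, ?_, rfl⟩
    rw [min_self, Submodule.eq_top_of_finrank_eq (hF n le_rfl)]
    trivial

theorem trig_of_hasChain (h : ∀ a : A, HasChain k a) : HopfRep.IsTrigonalizable k A := by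
  intro V _ _ _ hfin hV
  haveI := hV.1
  have hs := isSimpleComod_iff.mp hV
  obtain ⟨v, hv⟩ := exists_ne (0 : V)
  obtain ⟨φ, hφ⟩ : ∃ φ : V →ₗ[k] k, coefMap (C := A) φ v ≠ 0 := by
    by_contra hc
    exact hv (eq_zero_of_coefMap (k := k) (C := A) fun φ => not_not.mp fun h' => hc ⟨φ, h'⟩)
  have hinj : Function.Injective (coefMap (C := A) φ) := by
    rcases coefMap_injective_or_eq_zero (k := k) (C := A) (V := V) φ with h1 | h1
    · exact h1
    · exact absurd (by rw [h1]; rfl) hφ
  set S := LinearMap.range (coefMap (C := A) φ) with hS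
  haveI : IsSimpleModule (WithConv (A →ₗ[k] k)) S := by
    refine IsSimpleModule.congr (R := WithConv (A →ₗ[k] k)) (N := V) ?_
    exact (LinearEquiv.ofInjective _ hinj).symm
  have hSmem : coefMap (C := A) φ v ∈ S := LinearMap.mem_range_self _ v
  obtain ⟨G, h0, hsub, hstep, m, hm⟩ := h (coefMap (C := A) φ v)
  have hinf : ∀ i, S.restrictScalars k ⊓ G i = ⊥ ∨ S.restrictScalars k ≤ G i := by
    intro i
    have hW : HopfRep.IsSubcomod (k := k) (A := A) (S.restrictScalars k ⊓ G i) :=
      isSubcomod_iff.mpr fun f x hx => ⟨S.smul_mem f hx.1, isSubcomod_iff.mp (hsub i) f x hx.2⟩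
    rcases atom_cases (S := S) inferInstance hW inf_le_left with h1 | h1
    · exact Or.inl h1
    · exact Or.inr (inf_eq_left.mp h1)
  have hex : ∃ i, S.restrictScalars k ≤ G i := by
    refine ⟨m, (hinf m).resolve_left fun h1 => hφ ?_⟩
    rw [← Submodule.mem_bot k, ← h1]
    exact ⟨hSmem, hm⟩
  classical
  obtain ⟨j, hj⟩ : ∃ j, Nat.find hex = j + 1 := by
    refine Nat.exists_eq_succ_of_ne_zero fun h1 => hφ ?_
    have := Nat.find_spec hex
    rw [h1, h0] at this
    exact (Submodule.mem_bot k).mp (this hSmem)
  have hle : S.restrictScalars k ≤ G (j + 1) := hj ▸ Nat.find_spec hex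
  have hbot : S.restrictScalars k ⊓ G j = ⊥ := (hinf j).resolve_right (Nat.find_min hex (by omega))
  obtain ⟨x, hx⟩ := hstep j
  let q : V →ₗ[k] A ⧸ G j := (G j).mkQ ∘ₗ (coefMap (C := A) φ).restrictScalars k
  have hqinj : Function.Injective q := by
    rw [← LinearMap.ker_eq_bot, Submodule.eq_bot_iff]
    intro y hy
    have h1 : coefMap (C := A) φ y ∈ S.restrictScalars k ⊓ G j :=
      ⟨LinearMap.mem_range_self _ y, (Submodule.Quotient.mk_eq_zero _).mp hy⟩
    rw [hbot, Submodule.mem_bot] at h1
    exact hinj (by rw [h1, map_zero])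
  have hrange : ∀ y, q y ∈ Submodule.span k {(G j).mkQ x} := by
    intro y
    have h1 := hx (hle (LinearMap.mem_range_self (coefMap (C := A) φ) y))
    obtain ⟨g, hg, z, hz, hgz⟩ := Submodule.mem_sup.mp h1
    obtain ⟨c, rfl⟩ := Submodule.mem_span_singleton.mp hz
    refine Submodule.mem_span_singleton.mpr ⟨c, ?_⟩
    simp only [q, LinearMap.comp_apply, LinearMap.coe_restrictScalars, ← hgz, map_add, map_smul]
    rw [Submodule.mkQ_apply, Submodule.mkQ_apply, (Submodule.Quotient.mk_eq_zero _).mpr hg, zero_add]
  have h2 := LinearMap.finrank_le_finrank_of_injective (f := q.codRestrict _ hrange)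
    (fun a b hab => hqinj (congrArg Subtype.val hab))
  have h3 : Module.finrank k (Submodule.span k {(G j).mkQ x}) ≤ 1 := by
    by_cases hx0 : (G j).mkQ x = 0
    · rw [hx0, Submodule.span_zero_singleton, finrank_bot]; exact Nat.zero_le _
    · rw [finrank_span_singleton hx0]
  have h4 : 0 < Module.finrank k V := Module.finrank_pos
  omega

section Change

variable {B : Type v} [CommRing B] [Bialgebra k B]

theorem trig_of_injective (f : B →ₐc[k] A) (hf : Function.Injective f) (hA : HopfRep.IsTrigonalizable k A) :
    HopfRep.IsTrigonalizable k B := by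
  refine trig_of_hasChain fun b => ?_
  obtain ⟨G, h0, hsub, hstep, m, hm⟩ := hasChain_of_trig hA (f b)
  set F : B →ₗ[k] A := f.toLinearMap with hF
  have hFinj : Function.Injective F := hf
  refine ⟨fun i => (G i).comap F, ?_, fun i => ?_, fun i => ?_, m, hm⟩
  · show (G 0).comap F = ⊥
    rw [h0, Submodule.comap_bot, LinearMap.ker_eq_bot.mpr hFinj]
  · refine isSubcomod_iff.mpr fun g x hx => ?_
    obtain ⟨g', hg'⟩ := LinearMap.exists_leftInverse_of_injective F (LinearMap.ker_eq_bot.mpr hFinj)
    have h1 := isSubcomod_iff.mp (hsub i) (toConv (g.ofConv ∘ₗ g')) (F x) hx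
    have h2 : rcon (g.ofConv ∘ₗ g') (TensorProduct.map F F (Coalgebra.comul (R := k) x)) =
        F (rcon g.ofConv (Coalgebra.comul (R := k) x)) := by
      induction Coalgebra.comul (R := k) x with
      | zero => simp
      | add p q hp hq => simp only [map_add, hp, hq]
      | tmul p q =>
        have h3 : g' (F q) = q := LinearMap.congr_fun hg' q
        simp [rcon, h3]
    show F (g • x) ∈ G i
    rw [smul_def, dact, LinearMap.comp_apply] at h1 ⊢
    rw [coact_regular] at h1 ⊢
    rw [← h2]
    have h4 : TensorProduct.map F F (Coalgebra.comul (R := k) x) = Coalgebra.comul (R := k) (F x) :=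
      CoalgHomClass.map_comp_comul_apply f x
    rw [h4]
    exact h1
  · by_cases hex : ∃ y, F y ∈ G (i + 1) ∧ F y ∉ G i
    · obtain ⟨y, hy, hy'⟩ := hex
      refine ⟨y, fun z hz => ?_⟩
      obtain ⟨x, hx⟩ := hstep i
      obtain ⟨g1, hg1, z1, hz1, e1⟩ := Submodule.mem_sup.mp (hx hy)
      obtain ⟨c, rfl⟩ := Submodule.mem_span_singleton.mp hz1
      obtain ⟨g2, hg2, z2, hz2, e2⟩ := Submodule.mem_sup.mp (hx (show F z ∈ G (i + 1) from hz))
      obtain ⟨d, rfl⟩ := Submodule.mem_span_singleton.mp hz2
      have hc : c ≠ 0 := fun hc => hy' (by rw [← e1, hc, zero_smul, add_zero]; exact hg1)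
      refine Submodule.mem_sup.mpr ⟨z - (d * c⁻¹) • y, ?_, (d * c⁻¹) • y,
        Submodule.smul_mem _ _ (Submodule.mem_span_singleton_self y), sub_add_cancel _ _⟩
      show F (z - (d * c⁻¹) • y) ∈ G i
      rw [map_sub, map_smul, ← e1, ← e2, smul_add, smul_smul, mul_assoc, inv_mul_cancel₀ hc, mul_one,
        add_sub_add_right_eq_sub]
      exact Submodule.sub_mem _ hg2 (Submodule.smul_mem _ _ hg1)
    · exact ⟨0, fun z hz => Submodule.mem_sup_left (not_not.mp fun h' => hex ⟨z, hz, h'⟩)⟩

theorem trig_of_surjective (f : A →ₐc[k] B) (hf : Function.Surjective f) (hA : HopfRep.IsTrigonalizable k A) :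
    HopfRep.IsTrigonalizable k B := by
  refine trig_of_hasChain fun b => ?_
  obtain ⟨a, rfl⟩ := hf b
  obtain ⟨G, h0, hsub, hstep, m, hm⟩ := hasChain_of_trig hA a
  set F : A →ₗ[k] B := f.toLinearMap with hF
  refine ⟨fun i => (G i).map F, ?_, fun i => ?_, fun i => ?_, m, ⟨a, hm, rfl⟩⟩
  · show (G 0).map F = ⊥
    rw [h0, Submodule.map_bot]
  · refine isSubcomod_iff.mpr fun g y hy => ?_
    obtain ⟨x, hx, rfl⟩ := hy
    refine ⟨toConv (g.ofConv ∘ₗ F) • x, isSubcomod_iff.mp (hsub i) _ x hx, ?_⟩
    have h2 : F (rcon (g.ofConv ∘ₗ F) (Coalgebra.comul (R := k) x)) =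
        rcon g.ofConv (TensorProduct.map F F (Coalgebra.comul (R := k) x)) := by
      induction Coalgebra.comul (R := k) x with
      | zero => simp
      | add p q hp hq => simp only [map_add, hp, hq]
      | tmul p q => simp [rcon]
    rw [smul_def, smul_def, dact, dact, LinearMap.comp_apply, LinearMap.comp_apply, coact_regular, coact_regular]
    exact h2.trans (congrArg (rcon g.ofConv) (CoalgHomClass.map_comp_comul_apply f x))
  · obtain ⟨x, hx⟩ := hstep i
    refine ⟨F x, le_trans (Submodule.map_mono hx) (le_of_eq ?_)⟩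
    rw [Submodule.map_sup, Submodule.map_span, Set.image_singleton]

end Change

theorem trig_baseChange {K k A : Type u} [Field K] [Field k] [Algebra k K] [CommRing A] [HopfAlgebra k A]
    (hA : HopfRep.IsTrigonalizable k A) : HopfRep.IsTrigonalizable K (K ⊗[k] A) := by
  refine trig_of_hasChain fun z => ?_
  obtain ⟨s, hs⟩ : ∃ s : List A, z ∈ Submodule.span K ((fun a => (1 : K) ⊗ₜ[k] a) '' {a | a ∈ s}) := by
    induction z with
    | zero => exact ⟨[], Submodule.zero_mem _⟩
    | add p q hp hq =>
      obtain ⟨s, hs⟩ := hp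
      obtain ⟨t, ht⟩ := hq
      exact ⟨s ++ t, Submodule.add_mem _
        (Submodule.span_mono (Set.image_mono fun a ha => List.mem_append_left t ha) hs)
        (Submodule.span_mono (Set.image_mono fun a ha => List.mem_append_right s ha) ht)⟩
    | tmul c a =>
      refine ⟨[a], ?_⟩
      rw [show c ⊗ₜ[k] a = c • ((1 : K) ⊗ₜ[k] a) from by simp [TensorProduct.smul_tmul']]
      exact Submodule.smul_mem _ c (Submodule.subset_span ⟨a, by simp, rfl⟩)
  -- one chain of the original comodule containing all of the list
  have hlist : ∀ s : List A, ∃ G : ℕ → Submodule k A, G 0 = ⊥ ∧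
      (∀ i, HopfRep.IsSubcomod (k := k) (A := A) (G i)) ∧
      (∀ i, ∃ x, G (i + 1) ≤ G i ⊔ Submodule.span k {x}) ∧ Monotone G ∧ ∃ m, ∀ a ∈ s, a ∈ G m := by
    intro s
    induction s with
    | nil =>
      exact ⟨fun _ => ⊥, rfl, fun _ => isSubcomod_bot, fun _ => ⟨0, bot_le⟩, monotone_const, 0,
        fun a ha => absurd ha List.not_mem_nil⟩
    | cons b s ih =>
      obtain ⟨G, h0, hsub, hstep, hmono, m, hm⟩ := ih
      obtain ⟨H, H0, Hsub, Hstep, m', hm'⟩ := hasChain_of_trig hA b
      let H' : ℕ → Submodule k A := fun i => (Finset.range (i + 1)).sup H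
      let G' : ℕ → Submodule k A := fun i => if i ≤ m then G i else G m ⊔ H' (i - m)
      have hsup : ∀ i, HopfRep.IsSubcomod (k := k) (A := A) (H' i) := by
        intro i
        refine Finset.sup_induction (p := fun W => HopfRep.IsSubcomod (k := k) (A := A) W) isSubcomod_bot
          (fun W hW W' hW' => ?_) fun j _ => Hsub j
        refine isSubcomod_iff.mpr fun f x hx => ?_
        obtain ⟨p, hp, q, hq, rfl⟩ := Submodule.mem_sup.mp hx
        rw [smul_add]
        exact Submodule.mem_sup.mpr ⟨_, isSubcomod_iff.mp hW f p hp, _, isSubcomod_iff.mp hW' f q hq, rfl⟩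
      have hH'mono : Monotone H' := fun i j hij =>
        Finset.sup_mono fun x hx => Finset.mem_range.mpr (lt_of_lt_of_le (Finset.mem_range.mp hx) (by omega))
      refine ⟨G', by simp [G', h0], fun i => ?_, fun i => ?_, ?_, m + m', ?_⟩
      · by_cases hi : i ≤ m
        · simp only [G', if_pos hi]; exact hsub i
        · simp only [G', if_neg hi]
          refine isSubcomod_iff.mpr fun f x hx => ?_
          obtain ⟨p, hp, q, hq, rfl⟩ := Submodule.mem_sup.mp hx
          rw [smul_add]
          exact Submodule.mem_sup.mpr ⟨_, isSubcomod_iff.mp (hsub m) f p hp, _, isSubcomod_iff.mp (hsup _) f q hq, rfl⟩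
      · by_cases hi : i + 1 ≤ m
        · obtain ⟨x, hx⟩ := hstep i
          exact ⟨x, by simp only [G', if_pos hi, if_pos (show i ≤ m by omega)]; exact hx⟩
        · obtain ⟨x, hx⟩ := Hstep (i - m)
          refine ⟨x, ?_⟩
          simp only [G', if_neg hi]
          have hsucc : H' (i + 1 - m) ≤ H' (i - m) ⊔ Submodule.span k {x} := by
            rw [show i + 1 - m = i - m + 1 by omega]
            refine Finset.sup_le fun j hj => ?_
            rcases Nat.lt_or_ge j (i - m + 1) with h | h
            · exact le_trans (Finset.le_sup (f := H) (Finset.mem_range.mpr h)) le_sup_left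
            · have hj' := Finset.mem_range.mp hj
              rw [show j = i - m + 1 by omega]
              exact le_trans hx (sup_le_sup_right (Finset.le_sup (f := H) (Finset.mem_range.mpr (by omega))) _)
          by_cases him : i ≤ m
          · have him' : i - m = 0 := by omega
            have h00 : H' 0 = ⊥ := by simp [H', H0]
            rw [if_pos him, show i = m by omega]
            rw [him', h00, bot_sup_eq] at hsucc
            exact sup_le le_sup_left (le_trans (by rw [show i + 1 - m = m + 1 - m by omega] at hsucc; exact hsucc) le_sup_right)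
          · rw [if_neg him]
            exact sup_le (le_sup_left.trans le_sup_left) (hsucc.trans (sup_le_sup_right le_sup_right _))
      · refine monotone_nat_of_le_succ fun i => ?_
        by_cases hi : i + 1 ≤ m
        · simp only [G', if_pos hi, if_pos (show i ≤ m by omega)]; exact hmono (Nat.le_succ i)
        · by_cases him : i ≤ m
          · simp only [G', if_pos him, if_neg hi]
            exact (hmono him).trans le_sup_left
          · simp only [G', if_neg him, if_neg hi]
            exact sup_le_sup_left (hH'mono (by omega)) _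
      · have hge : G m ≤ G' (m + m') := by
          by_cases h : m + m' ≤ m
          · simp only [G', if_pos h]; exact hmono (by omega)
          · simp only [G', if_neg h]; exact le_sup_left
        intro a ha
        rcases List.mem_cons.mp ha with rfl | ha
        · by_cases h : m + m' ≤ m
          · rw [show m' = 0 by omega, H0, Submodule.mem_bot] at hm'
            rw [hm']; exact Submodule.zero_mem _
          · simp only [G', if_neg h, Nat.add_sub_cancel_left]
            exact Submodule.mem_sup_right (Finset.le_sup (f := H) (Finset.mem_range.mpr (Nat.lt_succ_self m')) hm')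
        · exact hge (hm a ha)
  obtain ⟨G, h0, hsub, hstep, -, m, hm⟩ := hlist s
  refine ⟨fun i => Submodule.span K ((fun a => (1 : K) ⊗ₜ[k] a) '' (G i : Set A)), ?_, fun i => ?_, fun i => ?_, m, ?_⟩
  · show Submodule.span K ((fun a => (1 : K) ⊗ₜ[k] a) '' (G 0 : Set A)) = ⊥
    rw [h0]
    simp
  · refine isSubcomod_iff.mpr fun f x hx => ?_
    induction hx using Submodule.span_induction with
    | zero => rw [smul_zero]; exact Submodule.zero_mem _
    | add p q _ _ hp hq => rw [smul_add]; exact Submodule.add_mem _ hp hq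
    | smul c p _ hp => rw [smul_comm]; exact Submodule.smul_mem _ c hp
    | mem y hy =>
      obtain ⟨a, ha, rfl⟩ := hy
      obtain ⟨z, hz⟩ := hsub i a ha
      rw [smul_def, dact, LinearMap.comp_apply, coact_regular, comul_one_tmul,
        show Coalgebra.comul (R := k) a = (G i).subtype.rTensor A z from hz.symm, rcon_mapOfCompatible]
      clear hz
      induction z with
      | zero => simp only [map_zero]; exact Submodule.zero_mem _
      | add p q hp hq => simp only [map_add]; exact Submodule.add_mem _ hp hq
      | tmul p q =>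
        have h1 := Submodule.smul_mem (Submodule.span K ((fun a => (1 : K) ⊗ₜ[k] a) '' (G i : Set A)))
          (f.ofConv ((1 : K) ⊗ₜ[k] q)) (Submodule.subset_span ⟨p, p.2, rfl⟩)
        simpa [TensorProduct.smul_tmul'] using h1
  · obtain ⟨x, hx⟩ := hstep i
    refine ⟨(1 : K) ⊗ₜ[k] x, Submodule.span_le.mpr ?_⟩
    rintro _ ⟨a, ha, rfl⟩
    obtain ⟨g, hg, w, hw, rfl⟩ := Submodule.mem_sup.mp (hx ha)
    obtain ⟨c, rfl⟩ := Submodule.mem_span_singleton.mp hw
    show (1 : K) ⊗ₜ[k] (g + c • x) ∈ _
    rw [TensorProduct.tmul_add, TensorProduct.tmul_smul, algebra_compatible_smul K c]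
    exact Submodule.add_mem _ (Submodule.mem_sup_left (Submodule.subset_span ⟨g, hg, rfl⟩))
      (Submodule.mem_sup_right (Submodule.smul_mem _ _ (Submodule.mem_span_singleton_self _)))
  · exact Submodule.span_mono (Set.image_mono hm) hs

theorem trig_of_cocomm [IsAlgClosed k] [Coalgebra.IsCocomm k A] : HopfRep.IsTrigonalizable k A := by
  intro V _ _ _ hfin hV
  haveI := hV.1
  have hscal : ∀ f : WithConv (A →ₗ[k] k), ∃ c : k, ∀ v : V, f • v = c • v := by
    intro f
    let T : V →ₗ[k] V := dact f.ofConv
    obtain ⟨c, hc⟩ := Module.End.exists_eigenvalue T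
    refine ⟨c, fun v => ?_⟩
    have hsub : HopfRep.IsSubcomod (k := k) (A := A) (Module.End.eigenspace T c) := by
      refine isSubcomod_iff.mpr fun g w hw => ?_
      rw [Module.End.mem_eigenspace_iff] at hw ⊢
      show f • (g • w) = c • (g • w)
      rw [← mul_smul, mul_comm, mul_smul, show f • w = c • w from hw, smul_comm]
    have : v ∈ Module.End.eigenspace T c := by
      rw [(hV.2 _ hsub).resolve_left hc]; trivial
    exact Module.End.mem_eigenspace_iff.mp this
  obtain ⟨v, hv⟩ := exists_ne (0 : V)
  have hsub : HopfRep.IsSubcomod (k := k) (A := A) (Submodule.span k {v}) := isSubcomod_iff.mpr fun f w hw => by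
    obtain ⟨c, hc⟩ := hscal f
    rw [hc]
    exact Submodule.smul_mem _ c hw
  have htop := (hV.2 _ hsub).resolve_left (by simpa using hv)
  rw [← finrank_top k V, ← htop, finrank_span_singleton hv]

theorem eval_lcon' {V : Type w} [AddCommGroup V] [Module k V] (g : A →ₗ[k] k) (φ : V →ₗ[k] k) (y : V ⊗[k] A) :
    g (lcon φ y) = φ (rcon g y) := by
  induction y with
  | zero => simp
  | add x y hx hy => simp only [map_add, hx, hy]
  | tmul a b => simp [lcon, rcon, mul_comm]

set_option maxHeartbeats 400000 in
theorem isDiagonalizable_iff_linRed [IsAlgClosed k] [Coalgebra.IsCocomm k A] :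
    HopfRep.IsLinearlyReductive k A ↔ HopfRep.IsDiagonalizable k A := by
  constructor
  · intro h
    refine diag_of_span_eigen fun V _ _ _ hfin => ?_
    haveI : IsSemisimpleModule (WithConv (A →ₗ[k] k)) V := isSemisimpleComod_iff.mp (h V hfin)
    set U := Submodule.span k {v : V | ∃ a : A, HopfRep.Comod.coact (k := k) (A := A) v = v ⊗ₜ[k] a}
    have key : ∀ S : Submodule (WithConv (A →ₗ[k] k)) V, IsSimpleModule (WithConv (A →ₗ[k] k)) S →
        S.restrictScalars k ≤ U := by
      intro S hS
      have hsub := isSubcomod_restrictScalars (k := k) (C := A) S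
      letI := subComod (S.restrictScalars k) hsub
      haveI : IsSimpleModule (WithConv (A →ₗ[k] k)) (toDual (S.restrictScalars k) hsub) := hS
      have h1 : Module.finrank k (S.restrictScalars k) = 1 := by
        refine trig_of_cocomm (k := k) (A := A) (S.restrictScalars k) inferInstance (isSimpleComod_iff.mpr ?_)
        refine IsSimpleModule.congr (R := WithConv (A →ₗ[k] k)) (N := toDual (S.restrictScalars k) hsub) ?_
        exact subEquiv _ _
      intro v hv
      by_cases hv0 : v = 0
      · rw [hv0]; exact Submodule.zero_mem _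
      refine Submodule.subset_span ?_
      obtain ⟨φ, hφ⟩ : ∃ φ : V →ₗ[k] k, φ v = 1 := by
        obtain ⟨ψ, hψ⟩ : ∃ ψ : V →ₗ[k] k, ψ v ≠ 0 := by
          by_contra hc
          exact hv0 ((Module.forall_dual_apply_eq_zero_iff k v).mp fun ψ => not_not.mp fun h' => hc ⟨ψ, h'⟩)
        exact ⟨(ψ v)⁻¹ • ψ, inv_mul_cancel₀ hψ⟩
      refine ⟨coefMap (C := A) φ v, ext_rcon fun f => ?_⟩
      have hne : Submodule.span k {v} = S.restrictScalars k := by
        refine Submodule.eq_of_le_of_finrank_le (Submodule.span_le.mpr (by simpa using hv)) ?_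
        rw [h1, finrank_span_singleton hv0]
      have hfv : f.comp LinearMap.id = f := rfl
      obtain ⟨c, hc⟩ : ∃ c : k, c • v = rcon f (HopfRep.Comod.coact (k := k) (A := A) v) :=
        Submodule.mem_span_singleton.mp (hne.ge (S.smul_mem (toConv f) hv))
      have hφc : φ (rcon f (HopfRep.Comod.coact (k := k) (A := A) v)) = f (coefMap (C := A) φ v) := by
        rw [coefMap_apply]
        exact (eval_lcon' f φ _).symm
      rw [← hc, map_smul, hφ, smul_eq_mul, mul_one] at hφc
      rw [rcon_tmul, ← hc, hφc]
    have hU : (⊤ : Submodule k V) ≤ U := by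
      rw [← Submodule.restrictScalars_top k (WithConv (A →ₗ[k] k)) V,
        ← IsSemisimpleModule.sSup_simples_eq_top (WithConv (A →ₗ[k] k)) V, sSup_eq_iSup,
        Submodule.restrictScalars_iSup]
      refine iSup_le fun S => ?_
      rw [Submodule.restrictScalars_iSup]
      exact iSup_le fun hS => key S hS
    exact top_le_iff.mp hU
  · intro hD V _ _ _ hfin
    refine isSemisimpleComod_iff.mpr ?_
    let ι := {v : V // v ≠ 0 ∧ ∃ a : A, HopfRep.Comod.coact (k := k) (A := A) v = v ⊗ₜ[k] a}
    refine semisimple_of_simples (k := k) (C := A) (fun v : ι => Submodule.span k {v.1}) (fun v => ?_)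
      (fun v => ⟨by simpa using v.2.1, fun W' _ hle => ?_⟩) ?_
    · obtain ⟨a, ha⟩ := v.2.2
      refine isSubcomod_iff.mpr fun f w hw => ?_
      obtain ⟨c, rfl⟩ := Submodule.mem_span_singleton.mp hw
      rw [smul_comm, smul_def, dact, LinearMap.comp_apply, ha, rcon_tmul]
      exact Submodule.smul_mem _ _ (Submodule.smul_mem _ _ (Submodule.mem_span_singleton_self _))
    · exact (nonzero_span_atom v.1 v.2.1).le_iff.mp hle
    · refine eq_top_iff.mpr ?_
      rw [← span_eigen_eq_top hD V, Submodule.span_le]
      intro w hw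
      by_cases hw0 : w = 0
      · rw [hw0]; exact Submodule.zero_mem _
      · exact Submodule.mem_iSup_of_mem (p := fun v : ι => Submodule.span k {v.1}) ⟨w, hw0, hw⟩
          (Submodule.mem_span_singleton_self w)

end Groth.Agent.Comodule
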