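import Groth.Agent.Comodule.Unipotent

/-! Functionals vanishing on the unipotent filtration. -/

set_option autoImplicit false
universe u v w

open TensorProduct WithConv

noncomputable section

namespace Groth.Agent.Comodule

variable {k : Type u} [Field k] {A : Type v} [CommRing A] [Bialgebra k A]
variable {R : Type w} [CommRing R] [Algebra k R]

/-- `f` kills the `n`th step of the filtration. -/
def Van (n : ℕ) (f : WithConv (A →ₗ[k] R)) : Prop := ∀ x ∈ fil k A A n, f.ofConv x = 0

theorem van_zero (f : WithConv (A →ₗ[k] R)) : Van 0 f := fun x hx => by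
  rw [fil_zero, Submodule.mem_bot] at hx
  rw [hx, map_zero]

theorem van_one_iff {f : WithConv (A →ₗ[k] R)} : Van 1 f ↔ f.ofConv 1 = 0 := by
  constructor
  · exact fun h => h 1 (by rw [fil_one, fixedPts_regular]; exact Submodule.mem_span_singleton_self 1)
  · intro h x hx
    rw [fil_one, fixedPts_regular, Submodule.mem_span_singleton] at hx
    obtain ⟨c, rfl⟩ := hx
    rw [map_smul, h, smul_zero]

theorem Van.mono {m n : ℕ} {f : WithConv (A →ₗ[k] R)} (h : Van n f) (hmn : m ≤ n) : Van m f :=
  fun x hx => h x (fil_mono hmn hx)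

theorem Van.add {n : ℕ} {f g : WithConv (A →ₗ[k] R)} (hf : Van n f) (hg : Van n g) : Van n (f + g) :=
  fun x hx => by simp [hf x hx, hg x hx]

theorem Van.sub {n : ℕ} {f g : WithConv (A →ₗ[k] R)} (hf : Van n f) (hg : Van n g) : Van n (f - g) :=
  fun x hx => by simp [hf x hx, hg x hx]

theorem Van.neg {n : ℕ} {f : WithConv (A →ₗ[k] R)} (hf : Van n f) : Van n (-f) :=
  fun x hx => by simp [hf x hx]

theorem Van.smul {n : ℕ} {f : WithConv (A →ₗ[k] R)} (c : k) (hf : Van n f) : Van n (c • f) :=
  fun x hx => by simp [hf x hx]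

theorem Van.mul {i j : ℕ} {f g : WithConv (A →ₗ[k] R)} (hf : Van i f) (hg : Van j g) :
    Van (i + j) (f * g) := by
  intro x hx
  rw [LinearMap.convMul_def]
  suffices H : (⨆ p ∈ Finset.range (i + j), LinearMap.range
      (TensorProduct.mapIncl (fil k A A (p + 1)) (fil k A A (i + j - p)))) ≤
      LinearMap.ker (LinearMap.mul' k R ∘ₗ TensorProduct.map f.ofConv g.ofConv) from H (comul_mem_fil hx)
  refine iSup₂_le fun p hp => ?_
  rintro _ ⟨z, rfl⟩
  rw [LinearMap.mem_ker]
  induction z with
  | zero => simp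
  | add a b ha hb => simp only [map_add, ha, hb, add_zero]
  | tmul a b =>
    rcases Nat.lt_or_ge p i with h | h
    · simp [TensorProduct.mapIncl, hf (a : A) (fil_mono h a.2)]
    · simp [TensorProduct.mapIncl, hg (b : A) (fil_mono (show i + j - p ≤ j by omega) b.2)]

theorem Van.mul_left {n : ℕ} {f : WithConv (A →ₗ[k] R)} (hf : Van n f) (g : WithConv (A →ₗ[k] R)) :
    Van n (g * f) := by simpa using (van_zero g).mul hf

theorem Van.mul_right {n : ℕ} {f : WithConv (A →ₗ[k] R)} (hf : Van n f) (g : WithConv (A →ₗ[k] R)) :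
    Van n (f * g) := by simpa using hf.mul (van_zero g)

theorem Van.pow {f : WithConv (A →ₗ[k] R)} (hf : Van 1 f) : ∀ n, Van n (f ^ n)
  | 0 => van_zero _
  | n + 1 => by rw [pow_succ]; exact (Van.pow hf n).mul hf

theorem eq_zero_of_van (hA : ∀ a : A, ∃ n, a ∈ fil k A A n) {f : WithConv (A →ₗ[k] R)}
    (h : ∀ n, Van n f) : f = 0 := by
  refine WithConv.ofConv_injective (LinearMap.ext fun a => ?_)
  obtain ⟨n, hn⟩ := hA a
  exact h n a hn

theorem pow_apply_one {G : WithConv (A →ₗ[k] R)} (hG : Van 1 (G - 1)) : ∀ e : ℕ, Van 1 (G ^ e - 1)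
  | 0 => fun x _ => by simp
  | e + 1 => by
    have : G ^ (e + 1) - 1 = G ^ e * (G - 1) + (G ^ e - 1) := by rw [pow_succ, mul_sub, mul_one]; abel
    rw [this]
    exact (hG.mul_left _).add (pow_apply_one hG e)

theorem pow_congr {G G' : WithConv (A →ₗ[k] R)} (hG : Van 1 (G - 1)) (hG' : Van 1 (G' - 1)) {m : ℕ}
    (hD : Van m (G - G')) : ∀ e : ℕ, Van (m + 1) (G ^ e - G' ^ e - e • (G - G'))
  | 0 => fun x _ => by simp
  | e + 1 => by
    have ih := pow_congr hG hG' hD e
    have h1 : Van m (G ^ e - G' ^ e) := by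
      have h2 : Van m (e • (G - G')) := by
        rw [← Nat.cast_smul_eq_nsmul k]
        exact hD.smul _
      simpa using (ih.mono (Nat.le_succ m)).add h2
    have : G ^ (e + 1) - G' ^ (e + 1) - (e + 1) • (G - G') =
        (G ^ e - 1) * (G - G') + (G ^ e - G' ^ e) * (G' - 1) + (G ^ e - G' ^ e - e • (G - G')) := by
      rw [pow_succ, pow_succ, succ_nsmul]
      noncomm_ring
    rw [this]
    exact (((Nat.add_comm 1 m) ▸ (pow_apply_one hG e).mul hD).add (h1.mul hG')).add ih

theorem root_unique (hA : ∀ a : A, ∃ n, a ∈ fil k A A n) {e : ℕ} (he : (e : k) ≠ 0)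
    {G G' : WithConv (A →ₗ[k] R)} (hG : Van 1 (G - 1)) (hG' : Van 1 (G' - 1)) (h : G ^ e = G' ^ e) :
    G = G' := by
  refine sub_eq_zero.mp (eq_zero_of_van hA fun n => ?_)
  induction n with
  | zero => exact van_zero _
  | succ n ih =>
    have h1 := pow_congr hG hG' ih e
    rw [h, sub_self, zero_sub] at h1
    have h2 := h1.neg.smul (e : k)⁻¹
    rwa [neg_neg, ← Nat.cast_smul_eq_nsmul k, smul_smul, inv_mul_cancel₀ he, one_smul] at h2

theorem exists_root (hA : ∀ a : A, ∃ n, a ∈ fil k A A n) {e : ℕ} (he : (e : k) ≠ 0)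
    {H : WithConv (A →ₗ[k] R)} (hH : Van 1 (H - 1)) : ∃ G, Van 1 (G - 1) ∧ G ^ e = H := by
  classical
  let g : ℕ → WithConv (A →ₗ[k] R) := fun n => Nat.rec 1 (fun _ gm => gm + (e : k)⁻¹ • (H - gm ^ e)) n
  have hg0 : g 0 = 1 := rfl
  have hgs : ∀ n, g (n + 1) = g n + (e : k)⁻¹ • (H - g n ^ e) := fun n => rfl
  have hprop : ∀ n, Van 1 (g n - 1) ∧ Van (n + 1) (H - g n ^ e) := by
    intro n
    induction n with
    | zero =>
      refine ⟨?_, by simpa [hg0] using hH⟩
      exact fun x _ => by simp [hg0]
    | succ n ih =>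
      have hd : Van (n + 1) (g (n + 1) - g n) := by simpa [hgs] using ih.2.smul (e : k)⁻¹
      have h1 : Van 1 (g (n + 1) - 1) := by
        have h2 : g (n + 1) - 1 = (g (n + 1) - g n) + (g n - 1) := by abel
        rw [h2]
        exact (hd.mono (by omega)).add ih.1
      refine ⟨h1, ?_⟩
      have h3 := pow_congr h1 ih.1 hd e
      have h4 : e • (g (n + 1) - g n) = H - g n ^ e := by
        rw [hgs, add_sub_cancel_left, ← Nat.cast_smul_eq_nsmul k, smul_smul, mul_inv_cancel₀ he, one_smul]
      rw [h4] at h3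
      have h5 : H - g (n + 1) ^ e = -(g (n + 1) ^ e - g n ^ e - (H - g n ^ e)) := by abel
      rw [h5]
      exact h3.neg
  have hstab : ∀ n m, n ≤ m → Van n (g m - g n) := by
    intro n m hnm
    induction m, hnm using Nat.le_induction with
    | base => rw [sub_self]; exact fun _ _ => rfl
    | succ m hm ih =>
      have h2 : g (m + 1) - g n = (e : k)⁻¹ • (H - g m ^ e) + (g m - g n) := by rw [hgs]; abel
      rw [h2]
      exact (((hprop m).2.mono (by omega)).smul _).add ih
  choose N hN using hA
  have hval : ∀ a m, a ∈ fil k A A m → (g (N a)).ofConv a = (g m).ofConv a := by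
    intro a m ha
    rcases le_total m (N a) with h | h
    · simpa [sub_eq_zero] using hstab m (N a) h a ha
    · symm
      simpa [sub_eq_zero] using hstab (N a) m h a (hN a)
  let G : A →ₗ[k] R :=
    { toFun := fun a => (g (N a)).ofConv a
      map_add' := fun a b => by
        have ha := fil_mono (le_max_left (N a) (N b)) (hN a)
        have hb := fil_mono (le_max_right (N a) (N b)) (hN b)
        rw [hval a _ ha, hval b _ hb, hval (a + b) _ (Submodule.add_mem _ ha hb), map_add]
      map_smul' := fun c a => by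
        rw [hval (c • a) _ (Submodule.smul_mem _ c (hN a)), map_smul]
        rfl }
  have hG : ∀ n, Van n (toConv G - g n) := fun n x hx => by
    change (g (N x)).ofConv x - (g n).ofConv x = 0
    rw [hval x n hx, sub_self]
  have hG1 : Van 1 (toConv G - 1) := by
    have : toConv G - 1 = (toConv G - g 1) + (g 1 - 1) := by abel
    rw [this]
    exact (hG 1).add (hprop 1).1
  refine ⟨toConv G, hG1, sub_eq_zero.mp (eq_zero_of_van (fun a => ⟨N a, hN a⟩) fun n => ?_)⟩
  have h1 := pow_congr hG1 (hprop n).1 (hG n) e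
  have h2 : Van n (e • (toConv G - g n)) := by
    rw [← Nat.cast_smul_eq_nsmul k]
    exact (hG n).smul _
  have h3 : toConv G ^ e - H =
      ((toConv G ^ e - g n ^ e - e • (toConv G - g n)) + e • (toConv G - g n)) - (H - g n ^ e) := by abel
  rw [h3]
  exact ((h1.mono (Nat.le_succ n)).add h2).sub ((hprop n).2.mono (Nat.le_succ n))

theorem van_algHom_sub_one (g : A →ₐ[k] R) : Van 1 (toConv g.toLinearMap - 1) := by
  refine van_one_iff.mpr ?_
  simp [LinearMap.convOne_def, Bialgebra.counit_one]

/-- The filtration of the tensor square is exhaustive. -/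
theorem fil_tensor_exhaustive (hA : ∀ a : A, ∃ n, a ∈ fil k A A n) :
    ∀ z : A ⊗[k] A, ∃ n, z ∈ fil k (A ⊗[k] A) (A ⊗[k] A) n := by
  have key : ∀ n i j, i + j = n → ∀ a ∈ fil k A A (i + 1), ∀ b ∈ fil k A A (j + 1),
      a ⊗ₜ[k] b ∈ fil k (A ⊗[k] A) (A ⊗[k] A) (n + 1) := by
    intro n
    induction n using Nat.strong_induction_on with
    | _ n ih =>
      intro i j hij a ha b hb
      refine mem_fil_succ.mpr fun f hf => ?_
      rw [smul_def, dact, LinearMap.comp_apply, coact_regular, TensorProduct.comul_tmul]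
      let Φ : (A ⊗[k] A) ⊗[k] (A ⊗[k] A) →ₗ[k] A ⊗[k] A :=
        rcon f.ofConv ∘ₗ (TensorProduct.AlgebraTensorModule.tensorTensorTensorComm k k k k A A A A).toLinearMap
      suffices H : ∀ z ∈ LinearMap.range (TensorProduct.map
          (⨆ p ∈ Finset.range (i + 1), LinearMap.range
            (TensorProduct.mapIncl (fil k A A (p + 1)) (fil k A A (i + 1 - p)))).subtype
          (⨆ p ∈ Finset.range (j + 1), LinearMap.range
            (TensorProduct.mapIncl (fil k A A (p + 1)) (fil k A A (j + 1 - p)))).subtype),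
          Φ z ∈ fil k (A ⊗[k] A) (A ⊗[k] A) n from
        H _ ⟨⟨_, comul_mem_fil ha⟩ ⊗ₜ[k] ⟨_, comul_mem_fil hb⟩, rfl⟩
      rw [TensorProduct.range_map, Submodule.range_subtype, Submodule.range_subtype]
      intro z hz
      revert z
      change _ ≤ (fil k (A ⊗[k] A) (A ⊗[k] A) n).comap Φ
      rw [Submodule.map₂_iSup_left]
      refine iSup_le fun p => ?_
      rw [Submodule.map₂_iSup_left]
      refine iSup_le fun hp => ?_
      rw [Submodule.map₂_iSup_right]
      refine iSup_le fun q => ?_
      rw [Submodule.map₂_iSup_right]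
      refine iSup_le fun hq => Submodule.map₂_le.mpr ?_
      rintro _ ⟨x, rfl⟩ _ ⟨y, rfl⟩
      rw [Submodule.mem_comap]
      induction x with
      | zero => simp
      | add x x' hx hx' => simp only [map_add, LinearMap.add_apply]; exact Submodule.add_mem _ hx hx'
      | tmul x₁ x₂ =>
        induction y with
        | zero => simp
        | add y y' hy hy' => simp only [map_add]; exact Submodule.add_mem _ hy hy'
        | tmul y₁ y₂ =>
          have hp' := Finset.mem_range.mp hp
          have hq' := Finset.mem_range.mp hq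
          simp only [TensorProduct.mapIncl, TensorProduct.map_tmul, Submodule.subtype_apply, TensorProduct.mk_apply,
            Φ, LinearMap.comp_apply, LinearEquiv.coe_coe,
            TensorProduct.AlgebraTensorModule.tensorTensorTensorComm_tmul]
          rcases Nat.lt_or_ge (p + q) n with hlt | hge
          · have h1 := fil_mono (show p + q + 1 ≤ n by omega) (ih (p + q) hlt p q rfl x₁ x₁.2 y₁ y₁.2)
            simpa [rcon] using Submodule.smul_mem _ (f.ofConv ((x₂ : A) ⊗ₜ[k] (y₂ : A))) h1
          · obtain ⟨c, hc⟩ := Submodule.mem_span_singleton.mp (show (x₂ : A) ∈ Submodule.span k {(1 : A)} from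
              fixedPts_regular.le (fil_one.le ((congrArg (fil k A A) (show i + 1 - p = 1 by omega)).le x₂.2)))
            obtain ⟨d, hd⟩ := Submodule.mem_span_singleton.mp (show (y₂ : A) ∈ Submodule.span k {(1 : A)} from
              fixedPts_regular.le (fil_one.le ((congrArg (fil k A A) (show j + 1 - q = 1 by omega)).le y₂.2)))
            have hf' : f.ofConv ((1 : A) ⊗ₜ[k] (1 : A)) = 0 := by rwa [← Algebra.TensorProduct.one_def]
            have : f.ofConv ((x₂ : A) ⊗ₜ[k] (y₂ : A)) = 0 := by
              rw [← hc, ← hd, ← TensorProduct.smul_tmul', TensorProduct.tmul_smul, map_smul, map_smul, hf']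
              simp
            simp [rcon, this]
  intro z
  induction z with
  | zero => exact ⟨0, Submodule.zero_mem _⟩
  | add p q hp hq =>
    obtain ⟨m, hm⟩ := hp
    obtain ⟨m', hm'⟩ := hq
    exact ⟨max m m', Submodule.add_mem _ (fil_mono (le_max_left _ _) hm) (fil_mono (le_max_right _ _) hm')⟩
  | tmul a b =>
    obtain ⟨i, hi⟩ := hA a
    obtain ⟨j, hj⟩ := hA b
    exact ⟨i + j + 1, key (i + j) i j rfl a (fil_le_succ i hi) b (fil_le_succ j hj)⟩

/-- In a unipotent group the power maps prime to the characteristic are bijective on points. -/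
theorem pow_bijective (hA : ∀ a : A, ∃ n, a ∈ fil k A A n) {e : ℕ} (he : (e : k) ≠ 0) :
    Function.Bijective fun g : WithConv (A →ₐ[k] R) => g ^ e := by
  constructor
  · intro g g' h
    have h1 : toConv (g ^ e).ofConv.toLinearMap = toConv (g' ^ e).ofConv.toLinearMap :=
      congrArg (fun x : WithConv (A →ₐ[k] R) => toConv x.ofConv.toLinearMap) h
    rw [AlgHom.toLinearMap_convPow, AlgHom.toLinearMap_convPow] at h1
    have h2 := root_unique hA he (van_algHom_sub_one g.ofConv) (van_algHom_sub_one g'.ofConv) h1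
    exact WithConv.ofConv_injective (AlgHom.toLinearMap_injective (congrArg WithConv.ofConv h2))
  · intro h
    obtain ⟨G, hG, hGe⟩ := exists_root hA he (van_algHom_sub_one h.ofConv)
    have hG1 : G.ofConv 1 = 1 := by
      have := van_one_iff.mp hG
      simpa [LinearMap.convOne_def, Bialgebra.counit_one, sub_eq_zero] using this
    let X : WithConv (A ⊗[k] A →ₗ[k] R) := toConv (G.ofConv ∘ₗ LinearMap.mul' k A)
    let Y : WithConv (A ⊗[k] A →ₗ[k] R) :=
      toConv (LinearMap.mul' k R ∘ₗ TensorProduct.map G.ofConv G.ofConv)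
    have hXpow : ∀ n : ℕ, X ^ n = toConv ((G ^ n).ofConv ∘ₗ LinearMap.mul' k A) := by
      intro n
      induction n with
      | zero =>
        refine WithConv.ofConv_injective (TensorProduct.ext' fun a b => ?_)
        simp [LinearMap.convOne_def, Bialgebra.counit_mul, mul_comm]
      | succ n ih =>
        rw [pow_succ, pow_succ, ih]
        refine WithConv.ofConv_injective ?_
        exact (LinearMap.convMul_comp_coalgHom_distrib (G ^ n) G (Bialgebra.mulCoalgHom k A)).symm
    have hYpow : ∀ n : ℕ, Y ^ n = toConv (LinearMap.mul' k R ∘ₗ TensorProduct.map (G ^ n).ofConv (G ^ n).ofConv) := by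
      intro n
      induction n with
      | zero =>
        refine WithConv.ofConv_injective (TensorProduct.ext' fun a b => ?_)
        simp [LinearMap.convOne_def, mul_comm]
      | succ n ih =>
        rw [pow_succ, pow_succ, ih]
        refine WithConv.ofConv_injective ?_
        have h1 := LinearMap.algHom_comp_convMul_distrib (Algebra.TensorProduct.lmul' k (S := R))
          (toConv (TensorProduct.map (G ^ n).ofConv (G ^ n).ofConv)) (toConv (TensorProduct.map G.ofConv G.ofConv))
        rw [TensorProduct.map_convMul_map] at h1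
        exact h1.symm
    have hXY : X = Y := by
      refine root_unique (fil_tensor_exhaustive hA) he (van_one_iff.mpr ?_) (van_one_iff.mpr ?_) ?_
      · simp [X, LinearMap.convOne_def, Algebra.TensorProduct.one_def, hG1, Bialgebra.counit_one]
      · simp [Y, LinearMap.convOne_def, Algebra.TensorProduct.one_def, hG1, Bialgebra.counit_one]
      · rw [hXpow, hYpow, hGe]
        refine WithConv.ofConv_injective (TensorProduct.ext' fun a b => ?_)
        simp
    refine ⟨toConv (AlgHom.ofLinearMap G.ofConv hG1 fun a b => ?_), ?_⟩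
    · exact LinearMap.congr_fun (congrArg WithConv.ofConv hXY) (a ⊗ₜ[k] b)
    · refine WithConv.ofConv_injective (AlgHom.toLinearMap_injective ?_)
      have h1 : ∀ x : WithConv (A →ₐ[k] R), toConv (x ^ e).ofConv.toLinearMap = toConv x.ofConv.toLinearMap ^ e :=
        fun x => AlgHom.toLinearMap_convPow x e
      exact congrArg WithConv.ofConv ((h1 _).trans hGe)

/-- In characteristic zero, a unipotent group is connected. -/
theorem idempotent_trivial [CharZero k] (hA : ∀ a : A, ∃ n, a ∈ fil k A A n) {e : A}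
    (he : IsIdempotentElem e) : e = 0 ∨ e = 1 := by
  suffices H : ∀ x : A, IsIdempotentElem x → Coalgebra.counit (R := k) x = 0 → x = 0 by
    rcases IsIdempotentElem.iff_eq_zero_or_one.mp
      (he.map (Bialgebra.counitAlgHom k A) : IsIdempotentElem (Coalgebra.counit (R := k) e)) with h | h
    · exact Or.inl (H e he h)
    · refine Or.inr (sub_eq_zero.mp (H (1 - e) he.one_sub ?_)).symm
      rw [map_sub, Bialgebra.counit_one, show Coalgebra.counit (R := k) e = 1 from h, sub_self]
  intro e he hε
  obtain ⟨n, hn⟩ := hA e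
  let Y : WithConv (A →ₗ[k] A) := toConv LinearMap.id - 1
  have hY : Van 1 Y := van_algHom_sub_one (AlgHom.id k A)
  let ev : WithConv (A →ₗ[k] A) →+ A :=
    AddMonoidHom.mk' (fun f => f.ofConv e) fun _ _ => rfl
  let c : ℕ → A := fun i => ev (Y ^ i)
  have hc : ∀ i, n ≤ i → c i = 0 := fun i hi => (hY.pow i).mono hi e hn
  let p : ℕ → A := fun m => (toConv (AlgHom.id k A) ^ m).ofConv e
  have hp : ∀ m, p m = ∑ i ∈ Finset.range n, (m.choose i : A) * c i := by
    intro m
    have h1 : p m = ev ((Y + 1) ^ m) := by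
      have h2 : (Y + 1) ^ m = toConv (toConv (AlgHom.id k A) ^ m).ofConv.toLinearMap := by
        rw [AlgHom.toLinearMap_convPow]
        simp [Y]
      rw [h2]
      rfl
    rw [h1, (Commute.one_right Y).add_pow, map_sum]
    have h3 : ∀ i, ev (Y ^ i * 1 ^ (m - i) * (m.choose i : WithConv (A →ₗ[k] A))) = (m.choose i : A) * c i := by
      intro i
      rw [one_pow, mul_one, ← Nat.cast_commute, ← nsmul_eq_mul, map_nsmul, nsmul_eq_mul]
    simp only [h3]
    rw [Finset.sum_subset (s₂ := Finset.range (max (m + 1) n)) (by simp) (fun i _ hi => ?_),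
      ← Finset.sum_subset (s₁ := Finset.range n) (s₂ := Finset.range (max (m + 1) n)) (by simp) (fun i _ hi => ?_)]
    · rw [hc i (by simpa using hi), mul_zero]
    · rw [Nat.choose_eq_zero_of_lt (by simpa using hi), Nat.cast_zero, zero_mul]
  suffices hnil : IsNilpotent e by
    obtain ⟨N, hN⟩ := hnil
    rw [← he.pow_succ_eq N, pow_succ, hN, zero_mul]
  refine nilpotent_iff_mem_prime.mpr fun P hP => ?_
  haveI := hP
  let B := A ⧸ P
  let q : A →ₐ[k] B := Ideal.Quotient.mkₐ k P
  haveI : CharZero B := charZero_of_injective_algebraMap (algebraMap k B).injective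
  have hinv : ∀ i : ℕ, algebraMap k B (i.factorial : k)⁻¹ * (i.factorial : B) = 1 := fun i => by
    rw [← map_natCast (algebraMap k B), ← map_mul, inv_mul_cancel₀ (Nat.cast_ne_zero.mpr i.factorial_ne_zero), map_one]
  let Pol : Polynomial B := ∑ i ∈ Finset.range n,
    Polynomial.C (q (c i) * algebraMap k B (i.factorial : k)⁻¹) * descPochhammer B i
  have hPol : ∀ m : ℕ, Pol.eval (m : B) = q (p m) := by
    intro m
    simp only [Pol, Polynomial.eval_finsetSum, Polynomial.eval_mul, Polynomial.eval_C,
      descPochhammer_eval_eq_descFactorial, hp, map_sum, map_mul, map_natCast]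
    refine Finset.sum_congr rfl fun i _ => ?_
    rw [Nat.descFactorial_eq_factorial_mul_choose, Nat.cast_mul]
    calc _ = (algebraMap k B (i.factorial : k)⁻¹ * (i.factorial : B)) * ((m.choose i : B) * q (c i)) := by ring
      _ = _ := by rw [hinv, one_mul]
  have hidem : ∀ m : ℕ, IsIdempotentElem (q (p m)) := fun m =>
    (he.map (toConv (AlgHom.id k A) ^ m).ofConv).map q
  have hzero : Pol * (Pol - 1) = 0 := by
    refine Polynomial.eq_zero_of_infinite_isRoot _ (Set.infinite_of_injective_forall_mem
      (Nat.cast_injective (R := B)) fun m => ?_)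
    change Polynomial.eval (m : B) _ = 0
    rw [Polynomial.eval_mul, Polynomial.eval_sub, Polynomial.eval_one, hPol, mul_sub, mul_one, (hidem m).eq, sub_self]
  have h0 : Pol.eval ((0 : ℕ) : B) = 0 := by
    rw [hPol]
    change q ((toConv (AlgHom.id k A) ^ 0).ofConv e) = 0
    rw [pow_zero, AlgHom.convOne_apply, hε, map_zero, map_zero]
  have h1 : Pol.eval ((1 : ℕ) : B) = q e := by
    rw [hPol]
    change q ((toConv (AlgHom.id k A) ^ 1).ofConv e) = _
    rw [pow_one]
    rfl
  rcases mul_eq_zero.mp hzero with h | h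
  · rw [h, Polynomial.eval_zero] at h1
    exact Ideal.Quotient.eq_zero_iff_mem.mp h1.symm
  · rw [sub_eq_zero.mp h, Polynomial.eval_one] at h0
    exact absurd h0 one_ne_zero

end Groth.Agent.Comodule
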