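import Groth.Agent.Comodule.UnipotentLog
import Groth.Prelude.Def_Lie2

/-! The logarithm gives elements of the Lie algebra. -/

set_option autoImplicit false
universe u w

open TensorProduct

noncomputable section

namespace Groth.Agent.Comodule

variable {k : Type u} [Field k] [CharZero k] {A : Type u} [CommRing A] [HopfAlgebra k A]
variable (hA : ∀ a : A, ∃ n, a ∈ fil k A A n)

/-- A functional composed with the logarithm. -/
def lieOf (f : A →ₗ[k] k) : LieHopf.Lie k A :=
  Derivation.mk' ((f ∘ₗ log hA : A →ₗ[k] k) : A →ₗ[k] LieHopf.K k A) fun a b => by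
    change f (log hA (a * b)) = (Bialgebra.counitAlgHom k A a : k) • f (log hA b) +
      (Bialgebra.counitAlgHom k A b : k) • f (log hA a)
    rw [log_mul, map_add, map_smul, map_smul]
    rfl

theorem rcon_log (f : A →ₗ[k] k) {V : Type w} [AddCommGroup V] [Module k V] (z : V ⊗[k] A) :
    rcon (f ∘ₗ log hA) z =
      TensorProduct.rid k V (((lieOf hA f).toLinearMap.restrictScalars k : A →ₗ[k] k).lTensor V z) := rfl

end Groth.Agent.Comodule
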