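import Groth.Agent.Comodule.UnipotentDual
import Mathlib

/-! The logarithm of a unipotent group in characteristic zero. -/

set_option autoImplicit false
universe u v w

open TensorProduct WithConv

noncomputable section

namespace Groth.Agent.Comodule

variable {k : Type u} [Field k] [CharZero k]

/-- A polynomial over a `k`-algebra vanishing at the naturals vanishes. -/
theorem poly_eq_zero {B : Type v} [CommRing B] [Algebra k B] {Q : Polynomial B}
    (h : ∀ m : ℕ, Q.eval (m : B) = 0) : Q = 0 := by
  refine Polynomial.ext fun j => ?_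
  rw [Polynomial.coeff_zero]
  refine (Module.forall_dual_apply_eq_zero_iff k _).mp fun φ => ?_
  let q : Polynomial k := ∑ i ∈ Finset.range (Q.natDegree + 1), Polynomial.C (φ (Q.coeff i)) * Polynomial.X ^ i
  have hq : q = 0 := Polynomial.eq_zero_of_infinite_isRoot _ (Set.infinite_of_injective_forall_mem
    (Nat.cast_injective (R := k)) fun m => by
      change q.eval (m : k) = 0
      have e := congrArg φ (Q.eval_eq_sum_range (m : B))
      rw [h, map_zero, map_sum] at e
      refine Eq.trans ?_ e.symm
      simp only [q, Polynomial.eval_finsetSum, Polynomial.eval_mul, Polynomial.eval_C, Polynomial.eval_pow,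
        Polynomial.eval_X]
      refine Finset.sum_congr rfl fun i _ => ?_
      rw [← map_natCast (algebraMap k B), ← map_pow, mul_comm (Q.coeff i), ← Algebra.smul_def, map_smul,
        smul_eq_mul, mul_comm])
  by_cases hj : j ≤ Q.natDegree
  · have := congrArg (fun p => Polynomial.coeff p j) hq
    simpa [q, Nat.lt_succ_iff, hj] using this
  · rw [Polynomial.coeff_eq_zero_of_natDegree_lt (not_le.mp hj), map_zero]

theorem poly_ext {B : Type v} [CommRing B] [Algebra k B] {P Q : Polynomial B}
    (h : ∀ m : ℕ, P.eval (m : B) = Q.eval (m : B)) : P = Q :=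
  sub_eq_zero.mp (poly_eq_zero (k := k) fun m => by rw [Polynomial.eval_sub, h, sub_self])

variable {A : Type v} [CommRing A] [Bialgebra k A]

/-- The `m`th power map. -/
def powMap (m : ℕ) : A →ₐ[k] A := (toConv (AlgHom.id k A) ^ m).ofConv

theorem powMap_add (m n : ℕ) (a : A) :
    powMap (k := k) (m + n) a =
      Algebra.TensorProduct.lmul' k
        (Algebra.TensorProduct.map (powMap (k := k) (A := A) m) (powMap (k := k) (A := A) n) (Coalgebra.comul (R := k) a)) := by
  rw [powMap, pow_add]
  rfl

variable (hA : ∀ a : A, ∃ n, a ∈ fil k A A n)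

include hA in
theorem exists_expPoly (a : A) : ∃ Q : Polynomial A, ∀ m : ℕ, Q.eval (m : A) = powMap (k := k) m a := by
  obtain ⟨n, hn⟩ := hA a
  let Y : WithConv (A →ₗ[k] A) := toConv LinearMap.id - 1
  have hY : Van 1 Y := van_algHom_sub_one (AlgHom.id k A)
  let ev : WithConv (A →ₗ[k] A) →+ A :=
    AddMonoidHom.mk' (fun f => f.ofConv a) fun _ _ => rfl
  let c : ℕ → A := fun i => ev (Y ^ i)
  have hc : ∀ i, n ≤ i → c i = 0 := fun i hi => (hY.pow i).mono hi a hn
  have hp : ∀ m, powMap (k := k) m a = ∑ i ∈ Finset.range n, (m.choose i : A) * c i := by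
    intro m
    have h1 : powMap (k := k) m a = ev ((Y + 1) ^ m) := by
      have h2 : (Y + 1) ^ m = toConv (toConv (AlgHom.id k A) ^ m).ofConv.toLinearMap := by
        rw [AlgHom.toLinearMap_convPow]
        simp [Y]
      rw [h2]
      rfl
    rw [h1, (Commute.one_right Y).add_pow, map_sum]
    have h3 : ∀ i, ev (Y ^ i * 1 ^ (m - i) * (m.choose i : WithConv (A →ₗ[k] A))) = (m.choose i : A) * c i := by
      intro i
      rw [one_pow, mul_one, ← Nat.cast_commute, ← nsmul_eq_mul, map_nsmul, nsmul_eq_mul]
    simp only [h3]
    rw [Finset.sum_subset (s₂ := Finset.range (max (m + 1) n)) (by simp) (fun i _ hi => ?_),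
      ← Finset.sum_subset (s₁ := Finset.range n) (s₂ := Finset.range (max (m + 1) n)) (by simp) (fun i _ hi => ?_)]
    · rw [hc i (by simpa using hi), mul_zero]
    · rw [Nat.choose_eq_zero_of_lt (by simpa using hi), Nat.cast_zero, zero_mul]
  refine ⟨∑ i ∈ Finset.range n,
    Polynomial.C (c i * algebraMap k A (i.factorial : k)⁻¹) * descPochhammer A i, fun m => ?_⟩
  simp only [Polynomial.eval_finsetSum, Polynomial.eval_mul, Polynomial.eval_C,
    descPochhammer_eval_eq_descFactorial, hp]
  refine Finset.sum_congr rfl fun i _ => ?_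
  rw [Nat.descFactorial_eq_factorial_mul_choose, Nat.cast_mul]
  calc _ = (algebraMap k A (i.factorial : k)⁻¹ * (i.factorial : A)) * ((m.choose i : A) * c i) := by ring
    _ = _ := by
      rw [← map_natCast (algebraMap k A), ← map_mul, inv_mul_cancel₀ (Nat.cast_ne_zero.mpr i.factorial_ne_zero),
        map_one, one_mul]

/-- `m ↦` the `m`th power map, as a polynomial in `m`. -/
def expHom : A →ₐ[k] Polynomial A where
  toFun a := (exists_expPoly hA a).choose
  map_one' := poly_ext (k := k) fun m => by
    rw [(exists_expPoly hA 1).choose_spec m, map_one, Polynomial.eval_one]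
  map_mul' a b := poly_ext (k := k) fun m => by
    rw [(exists_expPoly hA _).choose_spec m, map_mul, Polynomial.eval_mul,
      (exists_expPoly hA a).choose_spec m, (exists_expPoly hA b).choose_spec m]
  map_zero' := poly_ext (k := k) fun m => by
    rw [(exists_expPoly hA 0).choose_spec m, map_zero, Polynomial.eval_zero]
  map_add' a b := poly_ext (k := k) fun m => by
    rw [(exists_expPoly hA _).choose_spec m, map_add, Polynomial.eval_add,
      (exists_expPoly hA a).choose_spec m, (exists_expPoly hA b).choose_spec m]
  commutes' c := poly_ext (k := k) fun m => by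
    rw [(exists_expPoly hA _).choose_spec m, AlgHom.commutes, Polynomial.algebraMap_apply, Polynomial.eval_C]

theorem eval_expHom (a : A) (m : ℕ) : (expHom hA a).eval (m : A) = powMap (k := k) m a :=
  (exists_expPoly hA a).choose_spec m

/-- The logarithm of the tautological point. -/
def log : A →ₗ[k] A :=
  (Polynomial.lcoeff A 1).restrictScalars k ∘ₗ (expHom hA).toLinearMap

theorem log_apply (a : A) : log hA a = (Polynomial.derivative (expHom hA a)).eval 0 := by
  rw [← Polynomial.coeff_zero_eq_eval_zero, Polynomial.coeff_derivative]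
  simp [log]

theorem expHom_eval_zero (a : A) :
    (expHom hA a).eval 0 = algebraMap k A (Coalgebra.counit (R := k) a) := by
  have h := eval_expHom hA a 0
  rw [Nat.cast_zero] at h
  rw [h, powMap, pow_zero, AlgHom.convOne_apply]

theorem log_mul (a b : A) :
    log hA (a * b) = Coalgebra.counit (R := k) a • log hA b + Coalgebra.counit (R := k) b • log hA a := by
  simp only [log_apply, map_mul, Polynomial.derivative_mul, Polynomial.eval_add, Polynomial.eval_mul,
    expHom_eval_zero, Algebra.smul_def]
  ring

/-- `powMap m ⋆ expHom` is `expHom` shifted by `m`. -/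
theorem expHom_shift (m : ℕ) (a : A) :
    Algebra.TensorProduct.lmul' k (Algebra.TensorProduct.map ((Polynomial.CAlgHom (R := k)).comp (powMap m))
      (expHom hA) (Coalgebra.comul (R := k) a)) = (expHom hA a).comp (Polynomial.X + (m : Polynomial A)) := by
  refine poly_ext (k := k) fun n => ?_
  rw [Polynomial.eval_comp, Polynomial.eval_add, Polynomial.eval_X, Polynomial.eval_natCast, ← Nat.cast_add,
    eval_expHom, add_comm n m, powMap_add]
  generalize Coalgebra.comul (R := k) a = z
  induction z with
  | zero => simp
  | add u v hu hv => simp only [map_add, Polynomial.eval_add, hu, hv]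
  | tmul p q => simp [eval_expHom]

/-- The exponential solves the differential equation of the logarithm. -/
theorem derivative_expHom (a : A) :
    Polynomial.derivative (expHom hA a) =
      LinearMap.mul' k (Polynomial A) (TensorProduct.map (expHom hA).toLinearMap
        ((Polynomial.CAlgHom (R := k)).toLinearMap ∘ₗ log hA) (Coalgebra.comul (R := k) a)) := by
  refine poly_ext (k := k) fun m => ?_
  have h := congrArg (fun Q => (Polynomial.derivative Q).eval 0) (expHom_shift hA m a)
  simp only [Polynomial.derivative_comp, Polynomial.derivative_add, Polynomial.derivative_X,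
    Polynomial.derivative_natCast, add_zero, one_mul, Polynomial.eval_comp, Polynomial.eval_add,
    Polynomial.eval_X, Polynomial.eval_natCast, zero_add] at h
  rw [← h]
  generalize Coalgebra.comul (R := k) a = z
  induction z with
  | zero => simp
  | add u v hu hv => simp only [map_add, Polynomial.eval_add, hu, hv]
  | tmul p q => simp [eval_expHom, log_apply]

/-- The convolution powers of the logarithm. -/
def logPow : ℕ → (A →ₗ[k] A)
  | 0 => (Algebra.linearMap k A) ∘ₗ Coalgebra.counit
  | n + 1 => LinearMap.mul' k A ∘ₗ TensorProduct.map (logPow n) (log hA) ∘ₗ Coalgebra.comul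

theorem eval_iterate_derivative : ∀ (n : ℕ) (a : A),
    (Polynomial.derivative^[n] (expHom hA a)).eval 0 = logPow hA n a
  | 0, a => expHom_eval_zero hA a
  | n + 1, a => by
    rw [Function.iterate_succ_apply, derivative_expHom, logPow, LinearMap.comp_apply, LinearMap.comp_apply]
    generalize Coalgebra.comul (R := k) a = z
    induction z with
    | zero => simp [Polynomial.iterate_derivative_zero]
    | add u v hu hv => simp only [map_add, iterate_map_add, Polynomial.eval_add, hu, hv]
    | tmul p q =>
      simp only [TensorProduct.map_tmul, LinearMap.mul'_apply, LinearMap.comp_apply, AlgHom.toLinearMap_apply,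
        Polynomial.CAlgHom_apply]
      rw [mul_comm, Polynomial.iterate_derivative_C_mul, Polynomial.eval_mul, Polynomial.eval_C,
        eval_iterate_derivative n p, mul_comm]

/-- A unipotent group in characteristic zero is the exponential of its Lie algebra. -/
theorem eq_zero_of_logPow {a : A} (h : ∀ n, logPow hA n a = 0) : a = 0 := by
  have h0 : expHom hA a = 0 := by
    refine Polynomial.ext fun n => ?_
    have h1 := h n
    rw [← eval_iterate_derivative, ← Polynomial.coeff_zero_eq_eval_zero, Polynomial.coeff_iterate_derivative,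
      zero_add, Nat.descFactorial_self, ← Nat.cast_smul_eq_nsmul k, smul_eq_zero] at h1
    rw [Polynomial.coeff_zero]
    exact h1.resolve_left (Nat.cast_ne_zero.mpr n.factorial_ne_zero)
  have h1 := eval_expHom hA a 1
  rw [h0, Polynomial.eval_zero, powMap, pow_one] at h1
  exact h1.symm

section Comodule

variable {A : Type v} [CommRing A] [Bialgebra k A] (hA : ∀ a : A, ∃ n, a ∈ fil k A A n)
variable {V : Type w} [AddCommGroup V] [Module k V] [HopfRep.Comod k A V]

theorem logPow_coefMap_succ (n : ℕ) (φ : V →ₗ[k] k) (v : V) :
    logPow hA (n + 1) (coefMap φ v) =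
      LinearMap.mul' k A ((logPow hA n ∘ₗ (coefMap φ).restrictScalars k).rTensor A
        ((log hA).lTensor V (HopfRep.Comod.coact (k := k) (A := A) v))) := by
  have h := LinearMap.congr_fun (isComodHom_restrictScalars (coefMap (C := A) φ)) v
  simp only [LinearMap.comp_apply, coact_regular, LinearMap.coe_restrictScalars] at h
  rw [logPow, LinearMap.comp_apply, LinearMap.comp_apply, h]
  generalize HopfRep.Comod.coact (k := k) (A := A) v = z
  induction z with
  | zero => simp
  | add u v hu hv => simp only [map_add, hu, hv]
  | tmul p q => simp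

theorem logPow_coefMap_zero (φ : V →ₗ[k] k) (v : V) :
    logPow hA 0 (coefMap φ v) = algebraMap k A (φ v) := by
  simp [logPow, counit_coefMap]

/-- A subspace stable under the Lie algebra is stable under the group. -/
theorem isSubcomod_of_log {W : Submodule k V}
    (h : ∀ v ∈ W, ∀ f : A →ₗ[k] k, rcon (f ∘ₗ log hA) (HopfRep.Comod.coact (k := k) (A := A) v) ∈ W) :
    HopfRep.IsSubcomod (k := k) (A := A) W := by
  intro v hv
  have key : ∀ φ : V →ₗ[k] k, W ≤ LinearMap.ker φ → ∀ n, ∀ x ∈ W, logPow hA n (coefMap φ x) = 0 := by
    intro φ hφ n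
    induction n with
    | zero => intro x hx; rw [logPow_coefMap_zero, show φ x = 0 from hφ hx, map_zero]
    | succ n ih =>
      intro x hx
      rw [logPow_coefMap_succ]
      obtain ⟨y, hy⟩ : (log hA).lTensor V (HopfRep.Comod.coact (k := k) (A := A) x) ∈
          LinearMap.range (W.subtype.rTensor A) := mem_range_rTensor_iff.mpr fun f => by
        rw [rcon_lTensor]; exact h x hx f
      rw [← hy, ← LinearMap.rTensor_comp_apply]
      have e : (logPow hA n ∘ₗ (coefMap (C := A) φ).restrictScalars k) ∘ₗ W.subtype = 0 :=
        LinearMap.ext fun w => ih w w.2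
      rw [e, LinearMap.rTensor_zero, LinearMap.zero_apply, map_zero]
  refine mem_range_rTensor_iff.mpr fun f => ?_
  by_contra hc
  obtain ⟨φ, hφ, hW⟩ := Submodule.exists_le_ker_of_notMem hc
  refine hφ ?_
  have h0 := eq_zero_of_logPow hA fun n => key φ hW n v hv
  rw [coefMap_apply] at h0
  calc φ (rcon f (HopfRep.Comod.coact (k := k) (A := A) v))
      = f (lcon φ (HopfRep.Comod.coact (k := k) (A := A) v)) := by
        generalize HopfRep.Comod.coact (k := k) (A := A) v = z
        induction z with
        | zero => simp
        | add u v hu hv => simp only [map_add, hu, hv]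
        | tmul p q => simp [mul_comm]
    _ = 0 := by rw [h0, map_zero]

/-- A map commuting with the Lie algebra is a map of representations. -/
theorem isComodHom_of_log {V' : Type w} [AddCommGroup V'] [Module k V'] [HopfRep.Comod k A V']
    (g : V →ₗ[k] V')
    (h : ∀ v, ∀ f : A →ₗ[k] k, rcon (f ∘ₗ log hA) (HopfRep.Comod.coact (k := k) (A := A) (g v)) =
      g (rcon (f ∘ₗ log hA) (HopfRep.Comod.coact (k := k) (A := A) v))) (v : V) :
    HopfRep.Comod.coact (k := k) (A := A) (g v) = g.rTensor A (HopfRep.Comod.coact (k := k) (A := A) v) := by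
  refine ext_lcon fun φ => ?_
  rw [lcon_rTensor, ← coefMap_apply, ← coefMap_apply]
  refine sub_eq_zero.mp (eq_zero_of_logPow hA fun n => ?_)
  rw [map_sub, sub_eq_zero]
  induction n generalizing v with
  | zero => rw [logPow_coefMap_zero, logPow_coefMap_zero]; rfl
  | succ n ih =>
    rw [logPow_coefMap_succ, logPow_coefMap_succ]
    have e : (log hA).lTensor V' (HopfRep.Comod.coact (k := k) (A := A) (g v)) =
        g.rTensor A ((log hA).lTensor V (HopfRep.Comod.coact (k := k) (A := A) v)) :=
      ext_rcon fun f => by rw [rcon_rTensor, rcon_lTensor, rcon_lTensor]; exact h v f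
    rw [e, ← LinearMap.rTensor_comp_apply]
    have e2 : (logPow hA n ∘ₗ (coefMap (C := A) φ).restrictScalars k) ∘ₗ g =
        logPow hA n ∘ₗ (coefMap (C := A) (φ ∘ₗ g)).restrictScalars k := LinearMap.ext fun w => ih w
    rw [e2]

end Comodule

end Groth.Agent.Comodule

namespace Groth.Agent.Comodule

variable {k : Type u} [Field k] [CharZero k] {A : Type v} [CommRing A] [Bialgebra k A]
variable (hA : ∀ a : A, ∃ n, a ∈ fil k A A n)
variable {V : Type w} [AddCommGroup V] [Module k V] [HopfRep.Comod k A V]

theorem log_one : log hA (1 : A) = 0 := by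
  simp [log_apply]

/-- A vector killed by the Lie algebra is fixed. -/
theorem coact_eq_of_log {v : V}
    (h : ∀ f : A →ₗ[k] k, rcon (f ∘ₗ log hA) (HopfRep.Comod.coact (k := k) (A := A) v) = 0) :
    HopfRep.Comod.coact (k := k) (A := A) v = v ⊗ₜ[k] (1 : A) := by
  refine ext_lcon fun φ => ?_
  rw [← coefMap_apply, lcon_tmul]
  refine sub_eq_zero.mp (eq_zero_of_logPow hA fun n => ?_)
  rcases n with _ | n
  · rw [map_sub, logPow_coefMap_zero, map_smul]
    simp [logPow, Algebra.smul_def]
  · have h1 : logPow hA (n + 1) (1 : A) = 0 := by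
      simp [logPow, Bialgebra.comul_one, Algebra.TensorProduct.one_def, log_one]
    rw [map_sub, map_smul, h1, smul_zero, sub_zero, logPow_coefMap_succ,
      show (log hA).lTensor V (HopfRep.Comod.coact (k := k) (A := A) v) = 0 from
        eq_zero_of_rcon fun f => by rw [rcon_lTensor]; exact h f, map_zero, map_zero]

end Groth.Agent.Comodule
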