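import Groth.Agent.Comodule.Reductive
import Groth.Agent.Comodule.Quot

/-! Cohomology vanishing and exactness of invariants. -/

set_option autoImplicit false
universe u v w

open TensorProduct WithConv

noncomputable section

namespace Groth.Agent.Comodule

variable {k : Type u} [Field k] {A : Type v} [CommRing A]

theorem ind_h_vanish [Bialgebra k A] (P : Type v) [AddCommGroup P] [Module k P] (n : ℕ) (hn : 1 ≤ n) :
    Hoch.cocycles k A (Hoch.Ind k A P) n ≤ Hoch.coboundaries k A (Hoch.Ind k A P) n := by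
  let μ : Hoch.Ind k A P ⊗[k] A →ₗ[k] Hoch.Ind k A P :=
    (Hoch.Ind.equiv k A P).toLinearMap ∘ₗ (Hoch.Ind.counit k A P).rTensor A
  refine cocycles_le_coboundaries μ (fun v => ?_) (fun v a => ?_) n hn
  · obtain ⟨y, rfl⟩ := (Hoch.Ind.equiv k A P).surjective v
    induction y using TensorProduct.induction_on with
    | zero => simp
    | add x y hx hy => simp only [map_add, hx, hy]
    | tmul p a =>
      have e : ∀ y : A ⊗[k] A, μ ((TensorProduct.assoc k P A A).symm (p ⊗ₜ[k] y)) =
          Hoch.Ind.equiv k A P (p ⊗ₜ[k] lcon Coalgebra.counit y) := by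
        intro y
        induction y with
        | zero =>
          simp only [TensorProduct.tmul_zero, map_zero]
          exact map_zero μ
        | add x y hx hy =>
          simp only [TensorProduct.tmul_add, map_add]
          exact (map_add μ _ _).trans (congrArg₂ (· + ·) hx hy)
        | tmul x y =>
          show Hoch.Ind.equiv k A P ((Hoch.Ind.counit k A P (Hoch.Ind.equiv k A P (p ⊗ₜ[k] x))) ⊗ₜ[k] y) = _
          rw [Hoch.Ind.counit_equiv_tmul, lcon_tmul, TensorProduct.smul_tmul]
      refine (e (Coalgebra.comul (R := k) a)).trans ?_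
      rw [lcon_counit_comul]
  · obtain ⟨y, rfl⟩ := (Hoch.Ind.equiv k A P).surjective v
    induction y using TensorProduct.induction_on with
    | zero => simp [μ]
    | add x y hx hy => simp only [map_add, TensorProduct.add_tmul, hx, hy]
    | tmul p c =>
      have e : μ (Hoch.Ind.equiv k A P (p ⊗ₜ[k] c) ⊗ₜ[k] a) =
          Hoch.Ind.equiv k A P (Coalgebra.counit (R := k) c • p ⊗ₜ[k] a) := by
        simp [μ, TensorProduct.smul_tmul']
      rw [e]
      show Hoch.Ind.coactAux k A P ((Coalgebra.counit (R := k) c • p) ⊗ₜ[k] a) = _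
      rw [Hoch.Ind.coactAux_tmul]
      induction Coalgebra.comul (R := k) a with
      | zero =>
        simp only [TensorProduct.tmul_zero, map_zero]
        rfl
      | add x y hx hy =>
        simp only [TensorProduct.tmul_add, map_add]
        exact congrArg₂ (· + ·) hx hy
      | tmul x y =>
        simp only [TensorProduct.assoc_symm_tmul, LinearMap.rTensor_tmul, μ, LinearMap.comp_apply,
          LinearEquiv.coe_coe, Hoch.Ind.counit_equiv_tmul]
        rfl

variable [HopfAlgebra k A]

theorem h_vanish_of_integral {l : A →ₗ[k] k} (hl : IsIntegral' l) (V : Type v) [AddCommGroup V] [Module k V]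
    [HopfRep.Comod k A V] (n : ℕ) (hn : 1 ≤ n) :
    Hoch.cocycles k A V n ≤ Hoch.coboundaries k A V n := by
  let p : Hoch.Ind k A V →ₗ[k] V := Hoch.Ind.counit k A V
  let P : Hoch.Ind k A V →ₗ[k] V := average l p
  let μ : V ⊗[k] A →ₗ[k] V := P ∘ₗ (Hoch.Ind.equiv k A V).toLinearMap
  refine cocycles_le_coboundaries μ (fun v => ?_) (fun v a => ?_) n hn
  · refine average_eq_self hl p ?_
    have hc := LinearMap.congr_fun (HopfRep.Comod.coassoc (k := k) (A := A) (V := V)) v
    simp only [LinearMap.comp_apply, LinearEquiv.coe_coe] at hc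
    have e : Hoch.Ind.coactAux k A V (HopfRep.Comod.coact (k := k) (A := A) v) =
        (HopfRep.Comod.coact (k := k) (A := A)).rTensor A (HopfRep.Comod.coact (k := k) (A := A) v) := by
      rw [Hoch.Ind.coactAux, LinearMap.comp_apply, ← hc, LinearEquiv.coe_coe, LinearEquiv.symm_apply_apply]
    show p.rTensor A (Hoch.Ind.coactAux k A V (HopfRep.Comod.coact (k := k) (A := A) v)) = _
    rw [e]
    refine ((LinearMap.rTensor_comp_apply ..).symm).trans ?_
    refine Eq.trans ?_ (LinearMap.rTensor_id_apply A V (HopfRep.Comod.coact (k := k) (A := A) v))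
    congr 2
    refine LinearMap.ext fun w => ?_
    show TensorProduct.rid k V (Coalgebra.counit.lTensor V (HopfRep.Comod.coact (k := k) (A := A) w)) = w
    rw [← LinearMap.comp_apply (Coalgebra.counit.lTensor V), HopfRep.Comod.counit_comp]
    simp
  · have hhom : HopfRep.Comod.coact (k := k) (A := A) ∘ₗ P =
        P.rTensor A ∘ₗ HopfRep.Comod.coact (k := k) (A := A) (V := Hoch.Ind k A V) := by
      refine LinearMap.ext fun m => ext_rcon fun f => ?_
      simp only [LinearMap.comp_apply, rcon_rTensor]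
      exact (average_dact hl p f m).symm
    refine (LinearMap.congr_fun hhom (Hoch.Ind.equiv k A V (v ⊗ₜ[k] a))).trans ?_
    exact congrArg (fun y => P.rTensor A y) (Hoch.Ind.coact_equiv_tmul k A V v a)

theorem exact_fixedPts (hA : HopfRep.IsLinearlyReductive k A)
    (V W : Type v) [AddCommGroup V] [Module k V] [HopfRep.Comod k A V]
    [AddCommGroup W] [Module k W] [HopfRep.Comod k A W] (φ : V →ₗ[k] W)
    (hφ : Hoch.IsComodHom A φ) (hsurj : Function.Surjective φ) :
    ∀ w ∈ HopfRep.fixedPts k A W, ∃ v ∈ HopfRep.fixedPts k A V, φ v = w := by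
  intro w hw
  haveI := isSemisimpleModule_of_linRed hA V
  obtain ⟨U, hU⟩ := exists_isCompl (LinearMap.ker (toDualHom φ hφ))
  obtain ⟨x, rfl⟩ := hsurj w
  obtain ⟨a, ha, b, hb, rfl⟩ := Submodule.mem_sup.mp
    (hU.sup_eq_top ▸ Submodule.mem_top : x ∈ LinearMap.ker (toDualHom φ hφ) ⊔ U)
  have hab : φ (a + b) = φ b := by rw [map_add, show φ a = 0 from ha, zero_add]
  refine ⟨b, ext_rcon fun f => ?_, hab.symm⟩
  rw [rcon_tmul]
  have hmem : (toConv f) • b - f 1 • b ∈ LinearMap.ker (toDualHom φ hφ) ⊓ U := by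
    refine ⟨?_, sub_mem (U.smul_mem _ hb) (U.smul_of_tower_mem _ hb)⟩
    rw [SetLike.mem_coe, LinearMap.mem_ker, toDualHom_apply, map_sub, isComodHom_iff.mp hφ, map_smul, ← hab,
      smul_def, dact, LinearMap.comp_apply, hw, rcon_tmul, sub_self]
  rw [hU.inf_eq_bot, Submodule.mem_bot, sub_eq_zero] at hmem
  exact hmem

theorem invSection_of_exact (h : ∀ (V W : Type v) [AddCommGroup V] [Module k V] [HopfRep.Comod k A V]
    [AddCommGroup W] [Module k W] [HopfRep.Comod k A W] (φ : V →ₗ[k] W),
      LinearMap.rTensor A φ ∘ₗ HopfRep.Comod.coact (k := k) (A := A) (V := V) =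
          HopfRep.Comod.coact (k := k) (A := A) (V := W) ∘ₗ φ →
        Function.Surjective φ →
          ∀ w ∈ HopfRep.fixedPts k A W, ∃ v ∈ HopfRep.fixedPts k A V, φ v = w) : InvSection k A := by
  intro V _ _ _ _ π hπ hcomm
  obtain ⟨x, hx⟩ := hπ 1
  let e : (V ⧸ LinearMap.ker π) ≃ₗ[k] k := π.quotKerEquivOfSurjective hπ
  letI : HopfRep.Comod k A (V ⧸ LinearMap.ker π) := HopfRep.Comod.trivial k A _
  have hm : (LinearMap.ker π).mkQ.rTensor A ∘ₗ HopfRep.Comod.coact (k := k) (A := A) =
      (TensorProduct.mk k _ A).flip (1 : A) ∘ₗ (LinearMap.ker π).mkQ := by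
    refine LinearMap.ext fun v => Module.Flat.rTensor_preserves_injective_linearMap (M := A) e.toLinearMap e.injective ?_
    simp only [LinearMap.comp_apply, LinearMap.flip_apply, TensorProduct.mk_apply, LinearMap.rTensor_tmul]
    rw [← LinearMap.rTensor_comp_apply]
    exact LinearMap.congr_fun hcomm v
  obtain ⟨v, hv, hv'⟩ := h V _ _ hm (Submodule.mkQ_surjective _) ((LinearMap.ker π).mkQ x) rfl
  refine ⟨v, hv, ?_⟩
  have := congrArg e hv'
  change π v = π x at this
  rw [this, hx]
  exact one_ne_zero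

end Groth.Agent.Comodule
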